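import Mathlib
import Cfsg.Agent.Lib.HJType.Basics
import Cfsg.Agent.S3277

/-!
Groups with a self-centralizing four group fused by conjugation: orders 12 and 60.
-/

set_option autoImplicit false
set_option linter.style.haveILetI false
set_option linter.unusedSectionVars false

namespace CfsgLib.SuzType

open Subgroup

/-- A self-centralizing four group with fused involutions gives `A₄` or a group of order 60. -/
theorem klein_cases {K : Type*} [Group K] [Finite K] {r s : K} (hr : r * r = 1) (hs : s * s = 1)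
    (hrs : r * s = s * r) (hr1 : r ≠ 1) (hs1 : s ≠ 1) (hsr : s ≠ r)
    (hC : ∀ x : K, x * r = r * x → x = 1 ∨ x = r ∨ x = s ∨ x = r * s)
    {g : K} (hgr : g * r * g⁻¹ = s) (hgs : g * s * g⁻¹ = r * s) :
    Nat.card K = 60 ∨ Nat.card K = 12 ∧ Nonempty (K ≃* alternatingGroup (Fin 4)) := by
  classical
  haveI : Fact (Nat.Prime 2) := ⟨Nat.prime_two⟩
  haveI := Fintype.ofFinite K
  set V := centralizer ({r} : Set K) with hV
  have hVm : ∀ {x : K}, x ∈ V ↔ x * r = r * x := mem_centralizer_singleton_iff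
  have hrs2 : r * s * (r * s) = 1 := by
    rw [mul_assoc r s, ← mul_assoc s, ← hrs, mul_assoc r s s, hs, mul_one, hr]
  have hrs1 : r * s ≠ 1 := fun h => hsr (mul_left_cancel (h.trans hr.symm))
  have hsq : ∀ x ∈ V, x * x = 1 := fun x hx => by
    rcases hC x (hVm.1 hx) with rfl | rfl | rfl | rfl
    exacts [one_mul 1, hr, hs, hrs2]
  have hsV : s ∈ V := hVm.2 hrs.symm
  have hrV : r ∈ V := hVm.2 rfl
  have hcard : Nat.card V = 4 := by
    have he : (Finset.univ.filter fun x => x ∈ V) = {1, r, s, r * s} := by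
      ext x
      simp only [Finset.mem_filter, Finset.mem_univ, true_and, Finset.mem_insert, Finset.mem_singleton]
      refine ⟨fun hx => hC x (hVm.1 hx), ?_⟩
      rintro (rfl | rfl | rfl | rfl)
      exacts [one_mem _, hrV, hsV, mul_mem hrV hsV]
    rw [Nat.card_eq_fintype_card, Fintype.card_subtype, he]
    have a1 : r ≠ r * s := fun h => hs1 (mul_eq_left.1 h.symm)
    have a2 : s ≠ r * s := fun h => hr1 (mul_eq_right.1 h.symm)
    simp [hr1.symm, hs1.symm, hsr.symm, hrs1.symm, a1, a2]
  have hgne : g * r ≠ r * g := fun h => hsr (by rw [← hgr, h, mul_inv_cancel_right])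
  have hgrs : g * (r * s) * g⁻¹ = r := by
    calc g * (r * s) * g⁻¹ = g * r * g⁻¹ * (g * s * g⁻¹) := by group
      _ = r := by rw [hgr, hgs, hrs, ← mul_assoc, hs, one_mul]
  have hconj : ∀ x ∈ V, x ≠ 1 → ∃ c, c * x * c⁻¹ = r := fun x hx hx1 => by
    rcases hC x (hVm.1 hx) with rfl | rfl | rfl | rfl
    · exact absurd rfl hx1
    · exact ⟨1, by group⟩
    · exact ⟨g⁻¹, by rw [← hgr]; group⟩
    · exact ⟨g, hgrs⟩
  have hcent : ∀ x ∈ V, x ≠ 1 → Nat.card (centralizer ({x} : Set K)) = 4 := fun x hx hx1 => by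
    obtain ⟨c, hc⟩ := hconj x hx hx1
    rw [← hcard, hV, CfsgLib.Invol.card_centralizer_of_isConj (isConj_iff.2 ⟨c, hc⟩)]
  -- the Sylow subgroup
  obtain ⟨T, hT⟩ := (IsPGroup.of_card (p := 2) (G := V) (n := 2) (by rw [hcard]; norm_num)).exists_le_sylow
  haveI : Nontrivial (T : Subgroup K) := ⟨⟨⟨r, hT hrV⟩, 1, fun h => hr1 (congrArg Subtype.val h)⟩⟩
  haveI := T.2.center_nontrivial
  obtain ⟨c, hc⟩ := exists_prime_orderOf_dvd_card' (G := center (T : Subgroup K)) 2 (by
    obtain ⟨q, hq⟩ := IsPGroup.iff_card.1 (T.2.to_subgroup (center (T : Subgroup K)))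
    rcases q with _ | q
    · rw [pow_zero] at hq
      exact absurd hq (Finite.one_lt_card (α := center (T : Subgroup K))).ne'
    · rw [hq]; exact dvd_pow_self 2 (by omega))
  have hc1 : ((c : (T : Subgroup K)) : K) ≠ 1 := fun h => by
    rw [← Subgroup.orderOf_coe, ← Subgroup.orderOf_coe, h, orderOf_one] at hc; omega
  have hcom : ∀ y ∈ (T : Subgroup K), y * ((c : (T : Subgroup K)) : K) = ((c : (T : Subgroup K)) : K) * y :=
    fun y hy => congrArg Subtype.val (mem_center_iff.1 c.2 ⟨y, hy⟩)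
  have hcV : ((c : (T : Subgroup K)) : K) ∈ V := hVm.2 (hcom r (hT hrV)).symm
  have hTV : (T : Subgroup K) = V := by
    refine (eq_of_le_of_card_ge hT ?_).symm
    rw [hcard, ← hcent _ hcV hc1]
    exact card_le_of_le fun y hy => mem_centralizer_singleton_iff.2 (hcom y hy)
  have hT4 : Nat.card (T : Subgroup K) = 4 := by rw [hTV, hcard]
  have hq8 : ¬ 2 ^ 3 ∣ Nat.card K := fun h => by
    have := T.pow_dvd_card_of_pow_dvd_card h
    rw [hT4] at this
    norm_num at this
  have hK4 : Nat.card K ≠ 4 := fun h => hgne (by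
    have : V = ⊤ := eq_top_of_card_eq _ (by rw [hcard, h])
    exact hVm.1 (this ▸ mem_top g))
  have hnc : ¬ Cfsg.HasNormalPComplement 2 K := by
    rintro ⟨T', N, hN, hcompl⟩
    have hT'4 : Nat.card (T' : Subgroup K) = 4 := (Nat.card_congr (Sylow.equiv T' T).toEquiv).trans hT4
    have hNodd : ¬ 2 ∣ Nat.card N := fun h2 => hq8 (by
      rw [← hcompl.card_mul, hT'4]
      exact (show 2 ^ 3 = 2 * 4 from rfl) ▸ Nat.mul_dvd_mul_right h2 4)
    have hfix : ∀ x ∈ V, x ≠ 1 → ∀ y ∈ N, x * y = y * x → y = 1 := fun x hx hx1 y hy hxy => by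
      have h1 := orderOf_dvd_natCard (centralizer ({x} : Set K)) (mem_centralizer_singleton_iff.2 hxy.symm)
      rw [hcent x hx hx1] at h1
      have h2 := orderOf_dvd_natCard N hy
      have hcop : Nat.Coprime (Nat.card N) 4 :=
        Nat.Coprime.pow_right 2 ((Nat.Prime.coprime_iff_not_dvd Nat.prime_two).2 hNodd).symm
      exact orderOf_eq_one_iff.1 (Nat.eq_one_of_dvd_coprimes hcop h2 h1)
    have hN1 : N = ⊥ := CfsgLib.HJType.four_fpf hr hs hrs
      (fun y hy => by simpa [inv_eq_of_mul_eq_one_right hr] using hN.conj_mem y hy r)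
      (fun y hy => by simpa [inv_eq_of_mul_eq_one_right hs] using hN.conj_mem y hy s)
      (hfix r hrV hr1) (hfix s hsV hs1) (hfix _ (mul_mem hrV hsV) hrs1)
    exact hK4 (by rw [← hcompl.card_mul, hN1, card_bot, one_mul, hT'4])
  by_cases hne : ∀ E : Subgroup K, E.Normal → Cfsg.IsElementaryAbelian 2 E → Nat.card E ≠ 2 ∧ Nat.card E ≠ 4
  · obtain ⟨e⟩ := Cfsg.Agent.S3277.result r (orderOf_eq_prime (by rw [pow_two, hr]) hr1) hcard
      (fun x hx => by rw [pow_two, hsq x hx]) hnc hne
    left
    rw [Nat.card_congr e.toEquiv]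
    rw [nat_card_alternatingGroup, Nat.card_fin]; rfl
  push Not at hne
  obtain ⟨A, hAn, hAe, hA⟩ := hne
  have hAV : A ≤ V := by
    rw [← hTV]
    obtain ⟨S, hS⟩ := (show IsPGroup 2 A from fun a => ⟨1, Subtype.ext (by rw [pow_one]; exact hAe.2 a a.2)⟩).exists_le_sylow
    intro a ha
    obtain ⟨c, hc⟩ := MulAction.exists_smul_eq K S T
    have := hS (hAn.conj_mem a ha c⁻¹)
    rw [← hc]
    exact ⟨_, this, by simp [mul_assoc]⟩
  have hA4 : Nat.card A = 4 := by
    by_contra h4
    have h2 : Nat.card A = 2 := by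
      by_contra h2
      exact h4 (hA h2)
    obtain ⟨a, ha⟩ := exists_prime_orderOf_dvd_card' (G := A) 2 (by rw [h2])
    have ha1 : (a : K) ≠ 1 := fun h => by rw [← Subgroup.orderOf_coe, h, orderOf_one] at ha; omega
    have hcen : centralizer ({(a : K)} : Set K) = ⊤ := (Subgroup.eq_top_iff' _).2 fun x => by
      rw [mem_centralizer_singleton_iff]
      by_contra hne'
      have hx := hAn.conj_mem _ a.2 x
      have hne2 : x * (a : K) * x⁻¹ ≠ a := fun h => hne' (mul_inv_eq_iff_eq_mul.1 h)
      have h3 : ({1, a, ⟨_, hx⟩} : Finset A).card = 3 := by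
        rw [Finset.card_insert_of_notMem, Finset.card_pair]
        · exact fun h => hne2 (congrArg Subtype.val h).symm
        · simp only [Finset.mem_insert, Finset.mem_singleton, not_or]
          exact ⟨fun h => ha1 (by rw [← h]; rfl),
            fun h => ha1 (conj_eq_one_iff.1 (congrArg Subtype.val h).symm)⟩
      have := Finset.card_le_univ ({1, a, ⟨_, hx⟩} : Finset A)
      rw [h3, ← Nat.card_eq_fintype_card, h2] at this
      omega
    have := hcent _ (hAV a.2) ha1
    rw [hcen, card_top] at this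
    exact hK4 this
  have hAVe : A = V := eq_of_le_of_card_ge hAV (by rw [hcard, hA4])
  rw [hAVe] at hAn
  haveI := hAn
  -- the action on the three involutions
  let φ : K →* Equiv.Perm {x : V // x ≠ 1} :=
    { toFun := fun k =>
        { toFun := fun x => ⟨MulAut.conjNormal k x.1, fun h => x.2 ((MulAut.conjNormal k).map_eq_one_iff.1 h)⟩
          invFun := fun x => ⟨MulAut.conjNormal k⁻¹ x.1, fun h => x.2 ((MulAut.conjNormal k⁻¹).map_eq_one_iff.1 h)⟩
          left_inv := fun x => Subtype.ext (by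
            show MulAut.conjNormal k⁻¹ (MulAut.conjNormal k x.1) = x.1
            rw [← MulAut.mul_apply, ← map_mul, inv_mul_cancel, map_one]; rfl)
          right_inv := fun x => Subtype.ext (by
            show MulAut.conjNormal k (MulAut.conjNormal k⁻¹ x.1) = x.1
            rw [← MulAut.mul_apply, ← map_mul, mul_inv_cancel, map_one]; rfl) }
      map_one' := Equiv.ext fun x => Subtype.ext (by
        show MulAut.conjNormal (1 : K) x.1 = x.1
        rw [map_one]; rfl)
      map_mul' := fun k l => Equiv.ext fun x => Subtype.ext (by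
        show MulAut.conjNormal (k * l) x.1 = MulAut.conjNormal k (MulAut.conjNormal l x.1)
        rw [map_mul]; rfl) }
  have hker : φ.ker ≤ V := fun k hk => by
    have h := congrArg Subtype.val (congrArg Subtype.val
      (Equiv.ext_iff.1 hk ⟨⟨r, hrV⟩, fun h => hr1 (congrArg Subtype.val h)⟩))
    exact hVm.2 (mul_inv_eq_iff_eq_mul.1 h)
  have h24 : Nat.card K ∣ 24 := by
    rw [← card_mul_index φ.ker, index_ker]
    have h1 : Nat.card φ.range ∣ 6 := (card_subgroup_dvd_card _).trans (dvd_of_eq (by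
      rw [Nat.card_perm, show Nat.card {x : V // x ≠ 1} = 3 by
        rw [Nat.card_eq_fintype_card, Fintype.card_subtype_compl, Fintype.card_subtype_eq, ← Nat.card_eq_fintype_card,
          hcard]]
      rfl))
    have h2 := mul_dvd_mul (card_dvd_of_le hker) h1
    rw [hcard] at h2
    exact h2
  have hK12 : Nat.card K = 12 := by
    have h4 : 4 ∣ Nat.card K := hcard ▸ card_subgroup_dvd_card V
    have hle := Nat.le_of_dvd (by norm_num) h24
    have h8 : ¬ 8 ∣ Nat.card K := hq8
    interval_cases h : Nat.card K <;> omega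
  refine .inr ⟨hK12, ?_⟩
  -- the action on the four Sylow subgroups
  haveI : Fact (Nat.Prime 3) := ⟨Nat.prime_three⟩
  obtain ⟨σ, hσ⟩ := exists_prime_orderOf_dvd_card' (G := K) 3 (by rw [hK12]; norm_num)
  set S := zpowers σ with hS
  have hSc : Nat.card S = 3 := by rw [hS, Nat.card_zpowers, hσ]
  have hidx : S.index = 4 := by
    have h := card_mul_index S
    rw [hSc, hK12] at h
    omega
  let ψ₀ := MulAction.toPermHom K (K ⧸ S)
  have hψ₀ : Function.Injective ψ₀ := by
    rw [← MonoidHom.ker_eq_bot_iff, ← normalCore_eq_ker, eq_bot_iff]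
    intro x hx
    have hxS := S.normalCore_le hx
    rw [mem_bot]
    by_contra hx1
    have hx3 : orderOf x = 3 := by
      have h := orderOf_dvd_natCard S hxS
      rw [hSc] at h
      exact ((Nat.dvd_prime Nat.prime_three).1 h).resolve_left fun h' => hx1 (orderOf_eq_one_iff.1 h')
    have hc1 : r * x * r⁻¹ * x⁻¹ ∈ S :=
      mul_mem (S.normalCore_le (S.normalCore_normal.conj_mem x hx r)) (inv_mem hxS)
    have hc2 : r * x * r⁻¹ * x⁻¹ ∈ V := by
      rw [show r * x * r⁻¹ * x⁻¹ = r * (x * r⁻¹ * x⁻¹) by group]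
      exact mul_mem hrV (hAn.conj_mem _ (inv_mem hrV) x)
    have h1 := orderOf_dvd_natCard S hc1
    have h2 := orderOf_dvd_natCard V hc2
    rw [hSc] at h1
    rw [hcard] at h2
    have h : r * x * r⁻¹ * x⁻¹ = 1 := orderOf_eq_one_iff.1
      (Nat.eq_one_of_dvd_one ((by norm_num : Nat.gcd 3 4 = 1) ▸ Nat.dvd_gcd h1 h2))
    rw [mul_inv_eq_one, mul_inv_eq_iff_eq_mul] at h
    have := orderOf_dvd_natCard V (hVm.2 h.symm)
    rw [hcard, hx3] at this
    norm_num at this
  let e : (K ⧸ S) ≃ Fin 4 := (Finite.equivFin _).trans (finCongr ((index_eq_card S).symm.trans hidx))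
  let ψ : K →* Equiv.Perm (Fin 4) := e.permCongrHom.toMonoidHom.comp ψ₀
  have hψ : Function.Injective ψ := e.permCongrHom.injective.comp hψ₀
  have hi2 : ψ.range.index = 2 := by
    have h := card_mul_index ψ.range
    rw [← Nat.card_congr (MonoidHom.ofInjective hψ).toEquiv, hK12, Nat.card_perm, Nat.card_fin] at h
    norm_num [Nat.factorial] at h
    omega
  exact ⟨(MonoidHom.ofInjective hψ).trans
    (MulEquiv.subgroupCongr (Equiv.Perm.eq_alternatingGroup_of_index_eq_two hi2))⟩

end CfsgLib.SuzType
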