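import Mathlib

/-!
The arithmetic of the types of real elements in a group with centralizers of involutions of order 64.
-/

set_option autoImplicit false

namespace CfsgLib.SuzType.CitArith

/-- The last type is determined by a small quotient. -/
def chk1 : Bool :=
  (List.range 116).all fun m => [2, 4, 8].all fun k =>
    !(decide (3 ≤ m) && decide (m % 2 = 1) && decide ((m - 1) % k = 0) &&
      decide ((123 + 64 / k * (m - 1)) % m = 0) && decide ((123 + 64 / k * (m - 1)) % 15 = 0) &&
      (decide (m % 3 = 0) || decide (m % 5 = 0)))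

/-- The check for two types. -/
def chk2 : Bool :=
  (List.range 106).all fun a => [2, 4, 8].all fun ka =>
    !(decide (3 ≤ a) && decide (a % 2 = 1) && decide ((a - 1) % ka = 0)) ||
    [2, 4, 8].all fun kb => (List.range 64).all fun d =>
      let c := 123 + 64 / ka * (a - 1) - 64 / kb
      !(decide (0 < d) && decide (c % d = 0)) ||
        let b := c / d
        let n := c + 64 / kb * b
        !(decide (a < b) && decide ((b - 1) % kb = 0) && decide (n % a = 0) && decide (n % 15 = 0) &&
          decide (Nat.gcd a b = 1) && decide (Nat.gcd a (n / a) = 1) && decide (Nat.gcd b (n / b) = 1) &&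
          decide (64 / ka * (a - 1) * b + 64 / kb * (b - 1) * a < 51 * (a * b))) ||
          (decide (n = 315) && (decide (a = 5) && decide (ka ≤ 4) || decide (a = 9)) &&
            (decide (b = 5) && decide (kb ≤ 4) || decide (b = 9)))

/-- The check for three types. -/
def chk3 : Bool :=
  (List.range 70).all fun a => (List.range 70).all fun b =>
    !(decide (3 ≤ a) && decide (a % 2 = 1) && decide (3 ≤ b) && decide (b % 2 = 1) && decide (a * b ≤ 137) &&
      decide (Nat.gcd a b = 1)) ||
    [2, 4, 8].all fun ka => [2, 4, 8].all fun kb =>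
      !(decide ((a - 1) % ka = 0) && decide ((b - 1) % kb = 0) &&
        decide (64 / ka * (a - 1) * b + 64 / kb * (b - 1) * a < 51 * (a * b))) ||
      [2, 4, 8].all fun kc => (List.range 82).all fun d =>
        let e := 123 + 64 / ka * (a - 1) + 64 / kb * (b - 1) - 64 / kc
        !(decide (0 < d) && decide (e % d = 0)) ||
          let c := e / d
          let n := e + 64 / kc * c
          !(decide (a < c) && decide (b < c) && decide ((c - 1) % kc = 0) && decide (n % a = 0) &&
            decide (n % b = 0) && decide (n % 15 = 0) && decide (Nat.gcd a c = 1) && decide (Nat.gcd b c = 1) &&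
            decide (64 / ka * (a - 1) * (b * c) + 64 / kb * (b - 1) * (a * c) + 64 / kc * (c - 1) * (a * b)
              < 51 * (a * b * c)))

/-- The check for four types. -/
def chk4 : Bool :=
  (List.range 170).all fun a => (List.range (169 / a + 1)).all fun b => (List.range (169 / (a * b) + 1)).all fun c =>
    !(decide (3 ≤ a) && decide (a % 2 = 1) && decide (a < b) && decide (b % 2 = 1) && decide (b < c) &&
      decide (c % 2 = 1) && decide (Nat.gcd a b = 1) && decide (Nat.gcd a c = 1) && decide (Nat.gcd b c = 1)) ||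
    [2, 4, 8].all fun ka => [2, 4, 8].all fun kb => [2, 4, 8].all fun kc =>
      !(decide ((a - 1) % ka = 0) && decide ((b - 1) % kb = 0) && decide ((c - 1) % kc = 0) &&
        decide (64 / ka * (a - 1) * (b * c) + 64 / kb * (b - 1) * (a * c) + 64 / kc * (c - 1) * (a * b)
          < 51 * (a * b * c)))

theorem chk1_true : chk1 = true := by decide +kernel

theorem chk2_true : chk2 = true := by decide +kernel

theorem chk3_true : chk3 = true := by decide +kernel

theorem chk4_true : chk4 = true := by decide +kernel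

theorem prod_four {ι : Type*} (U : Finset ι) (m : ι → ℕ) (hodd : ∀ i ∈ U, Odd (m i)) (h3 : ∀ i ∈ U, 3 ≤ m i)
    (hinj : ∀ i ∈ U, ∀ j ∈ U, m i = m j → i = j) (hc : 4 ≤ U.card) : 375 ≤ ∏ i ∈ U, m i := by
  classical
  by_cases h : ∃ i ∈ U, m i = 3
  · obtain ⟨i, hi, e⟩ := h
    rw [← Finset.mul_prod_erase U m hi, e]
    have h5 : (5 : ℕ) ^ (U.erase i).card ≤ ∏ j ∈ U.erase i, m j := by
      rw [← Finset.prod_const]
      refine Finset.prod_le_prod (fun j hj => by norm_num) fun j hj => ?_
      obtain ⟨hne, hj⟩ := Finset.mem_erase.1 hj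
      have := h3 j hj
      have h3' : m j ≠ 3 := fun e' => hne (hinj j hj i hi (e'.trans e.symm))
      obtain ⟨q, hq⟩ := hodd j hj
      omega
    have := Nat.pow_le_pow_right (show 1 ≤ 5 by norm_num) (show 3 ≤ (U.erase i).card by
      rw [Finset.card_erase_of_mem hi]; omega)
    omega
  · push Not at h
    have h5 : (5 : ℕ) ^ U.card ≤ ∏ j ∈ U, m j := by
      rw [← Finset.prod_const]
      refine Finset.prod_le_prod (fun j hj => by norm_num) fun j hj => ?_
      have := h3 j hj
      obtain ⟨q, hq⟩ := hodd j hj
      have := h j hj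
      omega
    have := Nat.pow_le_pow_right (show 1 ≤ 5 by norm_num) hc
    omega

theorem mem248 {k : ℕ} (h : k = 2 ∨ k = 4 ∨ k = 8) : k ∈ [2, 4, 8] := by
  rcases h with rfl | rfl | rfl <;> simp

/-- The types are those of order 5 and 9, and the number of involutions is 315. -/
theorem solve {ι : Type*} (T : Finset ι) (m k R : ι → ℕ) (n : ℕ)
    (hm : ∀ i ∈ T, Odd (m i) ∧ 3 ≤ m i) (hk : ∀ i ∈ T, k i = 2 ∨ k i = 4 ∨ k i = 8)
    (hdvd : ∀ i ∈ T, k i ∣ m i - 1) (hn : ∀ i ∈ T, m i ∣ n) (hhall : ∀ i ∈ T, Nat.Coprime (m i) (n / m i))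
    (hco : ∀ i ∈ T, ∀ j ∈ T, i ≠ j → Nat.Coprime (m i) (m j)) (h15 : 15 ∣ n)
    (hsum : n = 123 + ∑ i ∈ T, 64 / k i * (m i - 1)) (hR : ∀ i ∈ T, R i * m i = n * (64 / k i) * (m i - 1))
    (hRs : 1 + 13 * n + ∑ i ∈ T, R i ≤ 64 * n) (h35 : ∃ i ∈ T, 3 ∣ m i ∨ 5 ∣ m i) :
    n = 315 ∧ ∀ i ∈ T, m i = 5 ∧ k i ≤ 4 ∨ m i = 9 := by
  classical
  have hinj : ∀ i ∈ T, ∀ j ∈ T, m i = m j → i = j := fun i hi j hj e => by
    by_contra hne
    have := hco i hi j hj hne
    rw [e, Nat.coprime_self] at this
    have := (hm j hj).2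
    omega
  have hn0 : 123 ≤ n := by omega
  obtain ⟨i₀, hi₀, h35'⟩ := h35
  obtain ⟨M, hM, hmax⟩ := T.exists_max_image m ⟨i₀, hi₀⟩
  set U := T.erase M with hU
  have hUT : ∀ {i}, i ∈ U → i ∈ T := fun h => (Finset.mem_erase.1 h).2
  have hUlt : ∀ {i}, i ∈ U → m i < m M := fun {i} h =>
    lt_of_le_of_ne (hmax i (hUT h)) fun e => (Finset.mem_erase.1 h).1 (hinj i (hUT h) M hM e)
  have hcard : T.card = U.card + 1 := (Finset.card_erase_add_one hM).symm
  have hprod : ∏ i ∈ T, m i ∣ n := by
    have key : ∀ V : Finset ι, V ⊆ T → ∏ i ∈ V, m i ∣ n := fun V => by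
      induction V using Finset.induction_on with
      | empty => intro _; simp
      | @insert i V hi ih =>
        intro hV
        rw [Finset.prod_insert hi]
        refine Nat.Coprime.mul_dvd_of_dvd_of_dvd (Nat.Coprime.prod_right fun j hj => ?_)
          (hn i (hV (Finset.mem_insert_self i V))) (ih fun x hx => hV (Finset.mem_insert_of_mem hx))
        exact hco i (hV (Finset.mem_insert_self i V)) j (hV (Finset.mem_insert_of_mem hj))
          fun e => hi (e ▸ hj)
    exact key T subset_rfl
  -- the product of the others is small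
  have hbound : (∏ i ∈ U, m i) ≤ 41 + 32 * T.card := by
    have h1 : (∏ i ∈ U, m i) * m M ≤ n := by
      rw [mul_comm, Finset.mul_prod_erase T m hM]
      exact Nat.le_of_dvd (by omega) hprod
    have h2 : ∑ i ∈ T, 64 / k i * (m i - 1) ≤ ∑ i ∈ T, 32 * m M := Finset.sum_le_sum fun i hi => by
      have := hmax i hi
      rcases hk i hi with e | e | e <;> rw [e] <;> omega
    rw [Finset.sum_const, smul_eq_mul] at h2
    have h3 := (hm M hM).2
    refine Nat.le_of_mul_le_mul_right (h1.trans ?_) (show 0 < m M by omega)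
    rw [add_mul, mul_assoc, mul_comm (32 : ℕ)]
    have : T.card * (32 * m M) = T.card * m M * 32 := by ring
    omega
  have hweight : ∀ V : Finset ι, V ⊆ T → ∑ i ∈ V, 64 / k i * (m i - 1) * ∏ j ∈ V.erase i, m j
      < 51 * ∏ i ∈ V, m i ∨ V = ∅ := by
    intro V hV
    rcases V.eq_empty_or_nonempty with e | hne
    · exact .inr e
    refine .inl (Nat.lt_of_mul_lt_mul_left (a := n) ?_)
    have e1 : ∀ i ∈ V, n * (64 / k i * (m i - 1) * ∏ j ∈ V.erase i, m j) = R i * ∏ j ∈ V, m j := fun i hi => by
      rw [← Finset.mul_prod_erase V m hi, ← mul_assoc (R i), hR i (hV hi)]; ring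
    rw [Finset.mul_sum, Finset.sum_congr rfl e1, ← Finset.sum_mul, ← mul_assoc n 51]
    have h2 : ∑ i ∈ V, R i ≤ ∑ i ∈ T, R i := Finset.sum_le_sum_of_subset hV
    have hp : 0 < ∏ i ∈ V, m i := Finset.prod_pos fun i hi => by have := (hm i (hV hi)).2; omega
    exact Nat.mul_lt_mul_of_pos_right (by omega) hp
  have hk' : ∀ i ∈ T, k i ∈ [2, 4, 8] := fun i hi => mem248 (hk i hi)
  have hmod : ∀ i ∈ T, (m i - 1) % k i = 0 := fun i hi => Nat.mod_eq_zero_of_dvd (hdvd i hi)
  have hodd : ∀ i ∈ T, m i % 2 = 1 := fun i hi => Nat.odd_iff.1 (hm i hi).1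
  have h15' := Nat.mod_eq_zero_of_dvd h15
  have hTU : T = insert M U := (Finset.insert_erase hM).symm
  have hMU : M ∉ U := Finset.notMem_erase _ _
  -- the quotient by the largest
  have hquot : ∀ e, n = e + 64 / k M * m M → ∃ d, 0 < d ∧ d * m M = e ∨ e = 0 := by
    intro e he
    obtain ⟨q, hq⟩ := hn M hM
    rcases Nat.eq_zero_or_pos e with h | h
    · exact ⟨0, .inr h⟩
    refine ⟨q - 64 / k M, .inl ⟨?_, ?_⟩⟩
    · by_contra h0
      have : q * m M ≤ 64 / k M * m M := Nat.mul_le_mul_right _ (by omega)
      rw [mul_comm q] at this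
      omega
    · rw [Nat.sub_mul, mul_comm q]; omega
  have hU4 : U.card ≤ 3 := by
    by_contra hc
    have h1 := prod_four U m (fun i hi => (hm i (hUT hi)).1) (fun i hi => (hm i (hUT hi)).2)
      (fun i hi j hj => hinj i (hUT hi) j (hUT hj)) (by omega)
    -- at most seven types
    have h7 : T.card ≤ 7 := by
      have hw : ∀ i ∈ T, 7 * (n * m i) ≤ R i * m i := fun i hi => by
        have h3 := (hm i hi).2
        have := hmod i hi
        rw [hR i hi, mul_assoc n (64 / k i), show 7 * (n * m i) = n * (7 * m i) by ring]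
        refine Nat.mul_le_mul_left n ?_
        rcases hk i hi with e | e | e <;> rw [e] at this ⊢ <;> omega
      have hw' : ∑ i ∈ T, 7 * n ≤ ∑ i ∈ T, R i := Finset.sum_le_sum fun i hi => by
        have := hw i hi
        rw [← mul_assoc] at this
        exact Nat.le_of_mul_le_mul_right this (by have := (hm i hi).2; omega)
      rw [Finset.sum_const, smul_eq_mul] at hw'
      by_contra h8
      have : 8 * (7 * n) ≤ T.card * (7 * n) := Nat.mul_le_mul_right _ (by omega)
      omega
    omega
  obtain hc | hc | hc | hc : U.card = 0 ∨ U.card = 1 ∨ U.card = 2 ∨ U.card = 3 := by omega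
  · -- one type
    exfalso
    rw [Finset.card_eq_zero] at hc
    rw [hTU, hc] at hsum hi₀
    simp only [insert_empty_eq, Finset.sum_singleton, Finset.mem_singleton] at hsum hi₀
    subst hi₀
    obtain ⟨d, hd⟩ := hquot (123 - 64 / k i₀) (by
      rw [hsum, Nat.mul_sub, mul_one]
      have h3 := (hm i₀ hM).2
      have : 64 / k i₀ ≤ 64 / k i₀ * m i₀ := Nat.le_mul_of_pos_right _ (by omega)
      rcases hk i₀ hM with e | e | e <;> rw [e] at this ⊢ <;> omega)
    have hlt : m i₀ < 116 := by
      rcases hd with ⟨h1, h2⟩ | h2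
      · have : m i₀ ≤ d * m i₀ := Nat.le_mul_of_pos_left _ h1
        rcases hk i₀ hM with e | e | e <;> rw [e] at h2 <;> omega
      · rcases hk i₀ hM with e | e | e <;> rw [e] at h2 <;> omega
    have := List.all_eq_true.1 (List.all_eq_true.1 chk1_true _ (List.mem_range.2 hlt)) _ (hk' _ hM)
    rw [← hsum] at this
    simp [(hm i₀ hM).2, hodd i₀ hM, hmod i₀ hM, h15', Nat.mod_eq_zero_of_dvd (hn i₀ hM)] at this
    rcases h35' with h | h
    · exact this.1 (Nat.mod_eq_zero_of_dvd h)
    · exact this.2 (Nat.mod_eq_zero_of_dvd h)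
  · -- two types
    obtain ⟨a, ha⟩ := Finset.card_eq_one.1 hc
    have haU : a ∈ U := ha ▸ Finset.mem_singleton_self a
    have haT := hUT haU
    rw [ha, Finset.prod_singleton] at hbound
    have hne : M ≠ a := fun e => hMU (e ▸ haU)
    have hT2 : T = {M, a} := by rw [hTU, ha]
    rw [hT2, Finset.sum_pair hne] at hsum
    have hw := (hweight T subset_rfl).resolve_right (Finset.ne_empty_of_mem hM)
    rw [hT2, Finset.sum_pair hne, Finset.prod_pair hne] at hw
    rw [show ({M, a} : Finset ι).erase M = {a} by simp [hne],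
      show ({M, a} : Finset ι).erase a = {M} by ext x; simp; grind, Finset.prod_singleton, Finset.prod_singleton] at hw
    have hlt := hUlt haU
    set e := 123 + 64 / k a * (m a - 1) - 64 / k M with he
    have hne' : n = e + 64 / k M * m M := by
      rw [hsum, Nat.mul_sub, mul_one, he]
      have h3 := (hm M hM).2
      have : 64 / k M ≤ 64 / k M * m M := Nat.le_mul_of_pos_right _ (by omega)
      rcases hk M hM with e | e | e <;> rw [e] at this ⊢ <;> omega
    obtain ⟨d, hd⟩ := hquot e hne'
    have he0 : e ≠ 0 := by rcases hk M hM with e' | e' | e' <;> rw [e'] at he <;> omega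
    obtain ⟨hd0, hde⟩ := hd.resolve_right he0
    have hd64 : d < 64 := by
      by_contra hd'
      have h1 : 64 * m M ≤ d * m M := Nat.mul_le_mul_right _ (by omega)
      have : 64 / k a * (m a - 1) ≤ 32 * (m a - 1) := by rcases hk a haT with e' | e' | e' <;> rw [e'] <;> omega
      have := (hm a haT).2
      have hp8 : 8 ≤ 64 / k M := by rcases hk M hM with e' | e' | e' <;> rw [e'] <;> norm_num
      have h2 : e ≤ 123 + 32 * (m a - 1) := by omega
      omega
    have hb : e / d = m M := by rw [← hde, Nat.mul_div_cancel_left _ hd0]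
    have := List.all_eq_true.1 (List.all_eq_true.1 chk2_true (m a) (List.mem_range.2 (by
      rw [show T.card = 2 by omega] at hbound; omega))) _ (hk' _ haT)
    simp only [(hm a haT).2, hodd a haT, hmod a haT, decide_true, Bool.and_self, Bool.not_true, Bool.false_or] at this
    have := List.all_eq_true.1 (List.all_eq_true.1 this _ (hk' _ hM)) d (List.mem_range.2 hd64)
    simp only [← he, hb, ← hne', hd0, show e % d = 0 by rw [← hde]; exact Nat.mul_mod_right _ _, hlt, hmod M hM,
      Nat.mod_eq_zero_of_dvd (hn a haT), h15', show Nat.gcd (m a) (m M) = 1 from hco a haT M hM hne.symm,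
      show Nat.gcd (m a) (n / m a) = 1 from hhall a haT, show Nat.gcd (m M) (n / m M) = 1 from hhall M hM,
      show (decide (64 / k a * (m a - 1) * m M + 64 / k M * (m M - 1) * m a < 51 * (m a * m M))) = true from
        decide_eq_true (by rw [mul_comm (m a) (m M)]; omega),
      decide_true, Bool.and_self, Bool.not_true, Bool.false_or] at this
    simp only [Bool.and_eq_true, Bool.or_eq_true, decide_eq_true_eq] at this
    obtain ⟨⟨h1, h2⟩, h3⟩ := this
    refine ⟨h1, fun i hi => ?_⟩
    rw [hT2, Finset.mem_insert, Finset.mem_singleton] at hi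
    rcases hi with rfl | rfl
    exacts [h3, h2]
  · -- three types
    exfalso
    obtain ⟨a, b, hab, hU2⟩ := Finset.card_eq_two.1 hc
    have haU : a ∈ U := hU2 ▸ Finset.mem_insert_self _ _
    have hbU : b ∈ U := hU2 ▸ Finset.mem_insert_of_mem (Finset.mem_singleton_self b)
    have haT := hUT haU
    have hbT := hUT hbU
    rw [hU2, Finset.prod_pair hab, show T.card = 3 by omega] at hbound
    have hT3 : T = insert M {a, b} := by rw [hTU, hU2]
    have hMn : M ∉ ({a, b} : Finset ι) := hU2 ▸ hMU
    rw [hT3, Finset.sum_insert hMn, Finset.sum_pair hab] at hsum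
    have hMa : M ≠ a := fun e => hMU (e ▸ haU)
    have hMb : M ≠ b := fun e => hMU (e ▸ hbU)
    have hw := (hweight T subset_rfl).resolve_right (Finset.ne_empty_of_mem hM)
    rw [hT3, Finset.sum_insert hMn, Finset.sum_pair hab, Finset.prod_insert hMn, Finset.prod_pair hab,
      show (insert M {a, b} : Finset ι).erase M = {a, b} by ext x; simp; grind,
      show (insert M {a, b} : Finset ι).erase a = {M, b} by ext x; simp; grind,
      show (insert M {a, b} : Finset ι).erase b = {M, a} by ext x; simp; grind,
      Finset.prod_pair hab, Finset.prod_pair hMb, Finset.prod_pair hMa] at hw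
    have hw2 := (hweight {a, b} (by rw [← hU2]; exact Finset.erase_subset _ _)).resolve_right
      (Finset.insert_ne_empty _ _)
    rw [Finset.sum_pair hab, Finset.prod_pair hab, show ({a, b} : Finset ι).erase a = {b} by simp [hab],
      show ({a, b} : Finset ι).erase b = {a} by ext x; simp; grind, Finset.prod_singleton, Finset.prod_singleton] at hw2
    set e := 123 + 64 / k a * (m a - 1) + 64 / k b * (m b - 1) - 64 / k M with he
    have hne' : n = e + 64 / k M * m M := by
      rw [hsum, Nat.mul_sub, mul_one, he]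
      have h3 := (hm M hM).2
      have : 64 / k M ≤ 64 / k M * m M := Nat.le_mul_of_pos_right _ (by omega)
      rcases hk M hM with e | e | e <;> rw [e] at this ⊢ <;> omega
    obtain ⟨d, hd⟩ := hquot e hne'
    have he0 : e ≠ 0 := by rcases hk M hM with e' | e' | e' <;> rw [e'] at he <;> omega
    obtain ⟨hd0, hde⟩ := hd.resolve_right he0
    have ha' := hUlt haU
    have hb' := hUlt hbU
    have ha3 := (hm a haT).2
    have hb3 := (hm b hbT).2
    have hM7 : 7 ≤ m M := by
      have := hodd a haT
      have := hodd b hbT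
      have := hodd M hM
      have : m a ≠ m b := fun e => hab (hinj a haT b hbT e)
      omega
    have hd82 : d < 82 := by
      by_contra hd'
      have h1 : 82 * m M ≤ d * m M := Nat.mul_le_mul_right _ (by omega)
      have : 64 / k a * (m a - 1) ≤ 32 * (m a - 1) := by rcases hk a haT with e' | e' | e' <;> rw [e'] <;> omega
      have : 64 / k b * (m b - 1) ≤ 32 * (m b - 1) := by rcases hk b hbT with e' | e' | e' <;> rw [e'] <;> omega
      have hp8 : 8 ≤ 64 / k M := by rcases hk M hM with e' | e' | e' <;> rw [e'] <;> norm_num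
      have h2 : e ≤ 123 + 32 * (m a - 1) + 32 * (m b - 1) := by omega
      omega
    have hb2 : e / d = m M := by rw [← hde, Nat.mul_div_cancel_left _ hd0]
    have la : m a < 70 := by
      have := Nat.mul_le_mul_left (m a) hb3
      omega
    have lb : m b < 70 := by
      have := Nat.mul_le_mul_right (m b) ha3
      omega
    have := List.all_eq_true.1 (List.all_eq_true.1 chk3_true (m a) (List.mem_range.2 la)) (m b) (List.mem_range.2 lb)
    simp only [ha3, hb3, hodd a haT, hodd b hbT, show Nat.gcd (m a) (m b) = 1 from hco a haT b hbT hab,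
      show m a * m b ≤ 137 by omega, decide_true, Bool.and_self, Bool.not_true, Bool.false_or] at this
    have := List.all_eq_true.1 (List.all_eq_true.1 this _ (hk' _ haT)) _ (hk' _ hbT)
    simp only [hmod a haT, hmod b hbT, decide_true, Bool.and_self, Bool.true_and, decide_eq_true hw2, Bool.not_true,
      Bool.false_or] at this
    have := List.all_eq_true.1 (List.all_eq_true.1 this _ (hk' _ hM)) d (List.mem_range.2 hd82)
    simp only [← he, hb2, ← hne', hd0, show e % d = 0 by rw [← hde]; exact Nat.mul_mod_right _ _, ha', hb', hmod M hM,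
      Nat.mod_eq_zero_of_dvd (hn a haT), Nat.mod_eq_zero_of_dvd (hn b hbT), h15',
      show Nat.gcd (m a) (m M) = 1 from hco a haT M hM hMa.symm,
      show Nat.gcd (m b) (m M) = 1 from hco b hbT M hM hMb.symm, decide_true, Bool.and_self,
      Bool.true_and, Bool.not_true, Bool.false_or, Bool.not_eq_true', decide_eq_false_iff_not] at this
    refine this ?_
    rw [mul_comm (m M) (m b), mul_comm (m M) (m a), mul_comm (m M) (m a * m b)] at hw
    omega
  · -- four types
    exfalso
    obtain ⟨a, b, c, hab, hac, hbc, hU3⟩ := Finset.card_eq_three.1 hc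
    have hsub : U ⊆ T := Finset.erase_subset _ _
    have haU : a ∈ U := by rw [hU3]; simp
    have hbU : b ∈ U := by rw [hU3]; simp
    have hcU : c ∈ U := by rw [hU3]; simp
    rw [show T.card = 4 by omega, hU3, Finset.prod_insert (by simp [hab, hac]), Finset.prod_pair hbc] at hbound
    have hw := (hweight U hsub).resolve_right (Finset.ne_empty_of_mem haU)
    rw [hU3, Finset.sum_insert (by simp [hab, hac]), Finset.sum_pair hbc, Finset.prod_insert (by simp [hab, hac]),
      Finset.prod_pair hbc, show ({a, b, c} : Finset ι).erase a = {b, c} by ext x; simp; grind,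
      show ({a, b, c} : Finset ι).erase b = {a, c} by ext x; simp; grind,
      show ({a, b, c} : Finset ι).erase c = {a, b} by ext x; simp; grind,
      Finset.prod_pair hbc, Finset.prod_pair hac, Finset.prod_pair hab] at hw
    have key : ∀ {a b c : ι}, a ∈ T → b ∈ T → c ∈ T → m a < m b → m b < m c → m a * (m b * m c) ≤ 169 →
        64 / k a * (m a - 1) * (m b * m c) + 64 / k b * (m b - 1) * (m a * m c) + 64 / k c * (m c - 1) * (m a * m b)
          < 51 * (m a * m b * m c) → False := by
      intro a b c ha hb hc h1 h2 h3 hw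
      have a3 := (hm a ha).2
      have hab' : m a * m b * m c ≤ 169 := by rw [mul_assoc]; exact h3
      have la : m a < 170 := by
        have : m a * 1 ≤ m a * (m b * m c) := Nat.mul_le_mul_left _ (Nat.mul_pos (by omega) (by omega))
        omega
      have lb : m b < 169 / m a + 1 := by
        refine Nat.lt_succ_of_le ((Nat.le_div_iff_mul_le (by omega)).2 ?_)
        have : m a * m b * 1 ≤ m a * m b * m c := Nat.mul_le_mul_left _ (by omega)
        rw [mul_comm (m b)]; omega
      have lc : m c < 169 / (m a * m b) + 1 := by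
        refine Nat.lt_succ_of_le ((Nat.le_div_iff_mul_le (Nat.mul_pos (by omega) (by omega))).2 ?_)
        rw [mul_comm]; exact hab'
      have := List.all_eq_true.1 (List.all_eq_true.1 (List.all_eq_true.1 chk4_true _ (List.mem_range.2 la)) _
        (List.mem_range.2 lb)) _ (List.mem_range.2 lc)
      have g1 : Nat.gcd (m a) (m b) = 1 := hco a ha b hb (fun e => by rw [e] at h1; omega)
      have g2 : Nat.gcd (m a) (m c) = 1 := hco a ha c hc (fun e => by rw [e] at h1; omega)
      have g3 : Nat.gcd (m b) (m c) = 1 := hco b hb c hc (fun e => by rw [e] at h2; omega)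
      simp only [a3, hodd a ha, hodd b hb, hodd c hc, h1, h2, g1, g2, g3, decide_true, Bool.and_self, Bool.not_true,
        Bool.false_or] at this
      have := List.all_eq_true.1 (List.all_eq_true.1 (List.all_eq_true.1 this _ (hk' _ ha)) _ (hk' _ hb)) _ (hk' _ hc)
      simp only [hmod a ha, hmod b hb, hmod c hc, decide_eq_true hw, decide_true, Bool.and_self, Bool.not_true] at this
      exact Bool.false_ne_true this
    have d1 : m a ≠ m b := fun e => hab (hinj a (hsub haU) b (hsub hbU) e)
    have d2 : m a ≠ m c := fun e => hac (hinj a (hsub haU) c (hsub hcU) e)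
    have d3 : m b ≠ m c := fun e => hbc (hinj b (hsub hbU) c (hsub hcU) e)
    have A := hsub haU; have B := hsub hbU; have C := hsub hcU
    rcases d1.lt_or_gt with h | h <;> rcases d2.lt_or_gt with h' | h' <;> rcases d3.lt_or_gt with h'' | h''
    · exact key A B C h h'' (by ring_nf at hbound ⊢; omega) (by ring_nf at hw ⊢; omega)
    · exact key A C B h' h'' (by ring_nf at hbound ⊢; omega) (by ring_nf at hw ⊢; omega)
    · omega
    · exact key C A B h' h (by ring_nf at hbound ⊢; omega) (by ring_nf at hw ⊢; omega)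
    · exact key B A C h h' (by ring_nf at hbound ⊢; omega) (by ring_nf at hw ⊢; omega)
    · omega
    · exact key B C A h'' h' (by ring_nf at hbound ⊢; omega) (by ring_nf at hw ⊢; omega)
    · exact key C B A h'' h (by ring_nf at hbound ⊢; omega) (by ring_nf at hw ⊢; omega)

end CfsgLib.SuzType.CitArith
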