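import Mathlib
import Cfsg.Agent.Lib.SuzType.Local.CitArith
import Cfsg.Agent.Lib.Invol.Counting
import Cfsg.Agent.Lib.Invol.BaerSuzuki
import Cfsg.Agent.Lib.Transfer.Fusion

/-!
A group with an involution centralizer of order 64 containing two fused elementary subgroups of order 16:
the order is 20160 and the real elements of odd order have centralizers of order 5 or 9.
-/

set_option autoImplicit false
set_option linter.style.haveILetI false
set_option linter.unusedSectionVars false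

namespace CfsgLib.SuzType

open Subgroup

variable {X : Type*} [Group X] [Finite X]

/-- The hypotheses. -/
structure Cit (z : X) (S A B : Subgroup X) : Prop where
  cz : centralizer ({z} : Set X) = S
  z1 : z ≠ 1
  cardS : Nat.card S = 64
  AS : A ≤ S
  BS : B ≤ S
  cardA : Nat.card A = 16
  cardB : Nat.card B = 16
  cardE : Nat.card ↥(A ⊓ B) = 4
  zA : z ∈ A
  zB : z ∈ B
  sqA : ∀ a ∈ A, a * a = 1
  sqB : ∀ b ∈ B, b * b = 1
  prod : ∀ x ∈ S, ∃ a ∈ A, ∃ b ∈ B, x = a * b
  comm : ∀ a ∈ A, ∀ b ∈ B, a * b * a⁻¹ * b⁻¹ ∈ A ⊓ B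
  cA : ∀ a ∈ A, a ∉ B → ∀ x ∈ S, x * a = a * x → x ∈ A
  cB : ∀ b ∈ B, b ∉ A → ∀ x ∈ S, x * b = b * x → x ∈ B
  trA : ∀ a ∈ A, a ≠ 1 → ∃ g ∈ normalizer (A : Set X), g * z * g⁻¹ = a
  trB : ∀ b ∈ B, b ≠ 1 → ∃ g ∈ normalizer (B : Set X), g * z * g⁻¹ = b

/-- A real element of odd order. -/
def RealOdd (x : X) : Prop := x ≠ 1 ∧ Odd (orderOf x) ∧ ∃ i : X, orderOf i = 2 ∧ i * x * i⁻¹ = x⁻¹

theorem mem_S_iff {z : X} {S A B : Subgroup X} (C : Cit z S A B) {x : X} : x ∈ S ↔ x * z = z * x := by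
  rw [← C.cz, mem_centralizer_singleton_iff]

theorem conj_order_eq (g x : X) : orderOf (g * x * g⁻¹) = orderOf x :=
  orderOf_injective (MulAut.conj g).toMonoidHom (MulAut.conj g).injective x

theorem comm_of_two_sq {a b : X} (ha : a * a = 1) (hb : b * b = 1) : a * b * (a * b) = a * b * a⁻¹ * b⁻¹ := by
  rw [inv_eq_of_mul_eq_one_right ha, inv_eq_of_mul_eq_one_right hb]; group

theorem orderOf_two' {w : X} : orderOf w = 2 ↔ w * w = 1 ∧ w ≠ 1 := by
  constructor
  · intro h
    exact ⟨CfsgLib.Invol.mul_self_of_orderOf_two h, fun e => by rw [e, orderOf_one] at h; omega⟩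
  · rintro ⟨h1, h2⟩
    exact orderOf_eq_prime (by rw [sq, h1]) h2

namespace Cit

variable {z : X} {S A B : Subgroup X} (C : Cit z S A B)

include C

theorem swap : Cit z S B A :=
  ⟨C.cz, C.z1, C.cardS, C.BS, C.AS, C.cardB, C.cardA, by rw [inf_comm]; exact C.cardE, C.zB, C.zA, C.sqB, C.sqA,
    fun x hx => by
      obtain ⟨a, ha, b, hb, e⟩ := C.prod x⁻¹ (inv_mem hx)
      refine ⟨b, hb, a, ha, ?_⟩
      rw [← inv_inv x, e, mul_inv_rev, inv_eq_of_mul_eq_one_right (C.sqA a ha),
        inv_eq_of_mul_eq_one_right (C.sqB b hb)],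
    fun b hb a ha => by
      rw [inf_comm, show b * a * b⁻¹ * a⁻¹ = (a * b * a⁻¹ * b⁻¹)⁻¹ by group]
      exact inv_mem (C.comm a ha b hb),
    C.cB, C.cA, C.trB, C.trA⟩

theorem z2 : z * z = 1 := C.sqA z C.zA

theorem A_comm {a a' : X} (ha : a ∈ A) (ha' : a' ∈ A) : a * a' = a' * a := by
  have h := inv_eq_of_mul_eq_one_right (C.sqA _ (mul_mem ha ha'))
  rw [mul_inv_rev, inv_eq_of_mul_eq_one_right (C.sqA a ha), inv_eq_of_mul_eq_one_right (C.sqA a' ha')] at h
  exact h.symm

theorem B_comm {b b' : X} (hb : b ∈ B) (hb' : b' ∈ B) : b * b' = b' * b := C.swap.A_comm hb hb'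

theorem E_central {e x : X} (he : e ∈ A ⊓ B) (hx : x ∈ S) : x * e = e * x := by
  obtain ⟨a, ha, b, hb, rfl⟩ := C.prod x hx
  exact (Commute.mul_left (show Commute a e from C.A_comm ha he.1) (C.B_comm hb he.2)).eq

theorem invol_mem {x : X} (hx : x ∈ S) (h2 : x * x = 1) : x ∈ A ∨ x ∈ B := by
  obtain ⟨a, ha, b, hb, rfl⟩ := C.prod x hx
  rw [comm_of_two_sq (C.sqA a ha) (C.sqB b hb)] at h2
  have hab : a * b = b * a := by
    calc a * b = a * b * a⁻¹ * b⁻¹ * (b * a) := by group
      _ = b * a := by rw [h2, one_mul]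
  by_cases haB : a ∈ B
  · exact .inr (mul_mem haB hb)
  · exact .inl (mul_mem ha (C.cA a ha haB b (C.BS hb) hab.symm))

theorem conj_in_S {x : X} (hx : x ∈ S) (h2 : x * x = 1) (h1 : x ≠ 1) : IsConj z x := by
  rcases C.invol_mem hx h2 with h | h
  · obtain ⟨g, -, e⟩ := C.trA x h h1; exact isConj_iff.2 ⟨g, e⟩
  · obtain ⟨g, -, e⟩ := C.trB x h h1; exact isConj_iff.2 ⟨g, e⟩

theorem card_cent {w : X} (hw : IsConj z w) : Nat.card (centralizer ({w} : Set X)) = 64 := by
  rw [CfsgLib.Invol.card_centralizer_of_isConj hw, C.cz, C.cardS]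

theorem card_sylow (P : Sylow 2 X) : Nat.card (P : Subgroup X) = 64 := by
  haveI : Fact (Nat.Prime 2) := ⟨Nat.prime_two⟩
  obtain ⟨P0, hP0⟩ := (IsPGroup.of_card (p := 2) (G := S) (n := 6) (by rw [C.cardS]; norm_num)).exists_le_sylow
  have e : Nat.card (P : Subgroup X) = Nat.card (P0 : Subgroup X) := Nat.card_congr (Sylow.equiv P P0).toEquiv
  rw [e]
  haveI : Nontrivial (P0 : Subgroup X) := ⟨⟨⟨z, hP0 (C.AS C.zA)⟩, 1, fun h => C.z1 (congrArg Subtype.val h)⟩⟩
  haveI := P0.2.center_nontrivial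
  obtain ⟨c, hc⟩ := exists_prime_orderOf_dvd_card' (G := center (P0 : Subgroup X)) 2 (by
    obtain ⟨q, hq⟩ := IsPGroup.iff_card.1 (P0.2.to_subgroup (center (P0 : Subgroup X)))
    rcases q with _ | q
    · rw [pow_zero] at hq
      exact absurd hq (Finite.one_lt_card (α := center (P0 : Subgroup X))).ne'
    · rw [hq]; exact dvd_pow_self 2 (by omega))
  set c' : X := ((c : (P0 : Subgroup X)) : X) with hc'
  have hord : orderOf c' = 2 := by rw [hc', Subgroup.orderOf_coe, Subgroup.orderOf_coe, hc]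
  obtain ⟨h2, h1⟩ := orderOf_two'.1 hord
  have hcomm : ∀ y ∈ (P0 : Subgroup X), y * c' = c' * y := fun y hy =>
    congrArg Subtype.val (mem_center_iff.1 c.2 ⟨y, hy⟩)
  have hcS : c' ∈ S := (mem_S_iff C).2 (hcomm z (hP0 (C.AS C.zA))).symm
  have hle : (P0 : Subgroup X) ≤ centralizer ({c'} : Set X) := fun y hy =>
    mem_centralizer_singleton_iff.2 (hcomm y hy)
  have := card_le_of_le hle
  rw [C.card_cent (C.conj_in_S hcS h2 h1)] at this
  have := card_le_of_le hP0
  rw [C.cardS] at this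
  omega

theorem conj_all {w : X} (hw : orderOf w = 2) : IsConj z w := by
  haveI : Fact (Nat.Prime 2) := ⟨Nat.prime_two⟩
  obtain ⟨P, hP⟩ := (IsPGroup.of_card (p := 2) (G := S) (n := 6) (by rw [C.cardS]; norm_num)).exists_le_sylow
  have hPS : (P : Subgroup X) = S := (eq_of_le_of_card_ge hP (by rw [C.card_sylow, C.cardS])).symm
  obtain ⟨g, hg⟩ := CfsgLib.Transfer.exists_conj_mem_sylow P (S := zpowers w)
    (IsPGroup.of_card (n := 1) (by rw [Nat.card_zpowers, hw, pow_one]))
  obtain ⟨h2, h1⟩ := orderOf_two'.1 hw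
  have := hg w (mem_zpowers w)
  rw [hPS] at this
  refine (C.conj_in_S this ?_ fun h => h1 (conj_eq_one_iff.1 h)).trans (isConj_iff.2 ⟨g⁻¹, by group⟩)
  rw [show g * w * g⁻¹ * (g * w * g⁻¹) = g * (w * w) * g⁻¹ by group, h2, mul_one, mul_inv_cancel]

theorem card_X : Nat.card {w : X // orderOf w = 2} * 64 = Nat.card X := by
  rw [← CfsgLib.Invol.card_conjugates_mul z, C.cz, C.cardS]
  congr 1
  refine Nat.card_congr (Equiv.subtypeEquivRight fun w => ⟨fun h => C.conj_all h, fun h => ?_⟩)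
  obtain ⟨g, rfl⟩ := isConj_iff.1 h
  rw [conj_order_eq, orderOf_two']
  exact ⟨C.z2, C.z1⟩

theorem pow_four {x : X} (hx : x ∈ S) : x * x * (x * x) = 1 := by
  obtain ⟨a, ha, b, hb, rfl⟩ := C.prod x hx
  rw [comm_of_two_sq (C.sqA a ha) (C.sqB b hb)]
  exact C.sqA _ (C.comm a ha b hb).1

theorem sq_mem_E {x : X} (hx : x ∈ S) : x * x ∈ A ⊓ B := by
  obtain ⟨a, ha, b, hb, rfl⟩ := C.prod x hx
  rw [comm_of_two_sq (C.sqA a ha) (C.sqB b hb)]
  exact C.comm a ha b hb

theorem order_cent {w x : X} (hw : orderOf w = 2) (hx : x * w = w * x) : orderOf x ∣ 4 := by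
  obtain ⟨g, rfl⟩ := isConj_iff.1 (C.conj_all hw)
  have hy : g⁻¹ * x * g ∈ S := (mem_S_iff C).2 (by
    calc g⁻¹ * x * g * z = g⁻¹ * (x * (g * z * g⁻¹)) * g := by group
      _ = z * (g⁻¹ * x * g) := by rw [hx]; group)
  have h := C.pow_four hy
  rw [show x = g * (g⁻¹ * x * g) * g⁻¹ by group, conj_order_eq]
  exact orderOf_dvd_of_pow_eq_one (by rw [show (4 : ℕ) = 2 + 2 from rfl, pow_add, pow_two]; exact h)

theorem cent_odd {x : X} (hx : Odd (orderOf x)) (h1 : x ≠ 1) : Odd (Nat.card (centralizer ({x} : Set X))) := by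
  by_contra hne
  haveI : Fact (Nat.Prime 2) := ⟨Nat.prime_two⟩
  obtain ⟨w, hw⟩ := exists_prime_orderOf_dvd_card' (G := centralizer ({x} : Set X)) 2
    (even_iff_two_dvd.1 (Nat.not_odd_iff_even.1 hne))
  have hwX : orderOf (w : X) = 2 := by rw [Subgroup.orderOf_coe, hw]
  have h4 := C.order_cent hwX (mem_centralizer_singleton_iff.1 w.2).symm
  have : orderOf x ∣ 1 := by
    have hc : Nat.Coprime (orderOf x) (2 ^ 2) := Nat.Coprime.pow_right 2 (Nat.coprime_two_right.2 hx)
    exact hc.dvd_of_dvd_mul_right (by simpa using h4)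
  exact h1 (orderOf_eq_one_iff.1 (Nat.dvd_one.1 this))

theorem inverts {x i y : X} (hx : Odd (orderOf x)) (h1 : x ≠ 1) (hi : orderOf i = 2) (hix : i * x * i⁻¹ = x⁻¹)
    (hy : y * x = x * y) : i * y * i⁻¹ = y⁻¹ := by
  classical
  set M := centralizer ({x} : Set X) with hM
  have hmem : ∀ {y}, y ∈ M → i * y * i⁻¹ ∈ M := fun {y} hy => by
    have hy' := mem_centralizer_singleton_iff.1 hy
    rw [hM, mem_centralizer_singleton_iff]
    have e : x = i * x⁻¹ * i⁻¹ := by
      rw [← mul_left_inj i, inv_mul_cancel_right, ← inv_inj, mul_inv_rev, mul_inv_rev, inv_inv, ← hix]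
      group
    conv_lhs => rw [e]
    conv_rhs => rw [e]
    calc i * y * i⁻¹ * (i * x⁻¹ * i⁻¹) = i * (y * x⁻¹) * i⁻¹ := by group
      _ = i * (x⁻¹ * y) * i⁻¹ := by rw [(Commute.inv_right (show Commute y x from hy')).eq]
      _ = i * x⁻¹ * i⁻¹ * (i * y * i⁻¹) := by group
  obtain ⟨hi2, -⟩ := orderOf_two'.1 hi
  have hodd := C.cent_odd hx h1
  have hfix : ∀ y ∈ M, i * y * i⁻¹ = y → y = 1 := fun y hy e => by
    have h4 := C.order_cent hi (mul_inv_eq_iff_eq_mul.1 e).symm
    have hd : orderOf y ∣ Nat.card M := orderOf_dvd_natCard M hy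
    have hc : Nat.Coprime (orderOf y) (2 ^ 2) := Nat.Coprime.pow_right 2 (Nat.coprime_two_right.2 (hodd.of_dvd_nat hd))
    exact orderOf_eq_one_iff.1 (Nat.dvd_one.1 (hc.dvd_of_dvd_mul_right (by simpa using h4)))
  let f : M → M := fun y => ⟨(y : X)⁻¹ * (i * y * i⁻¹), mul_mem (inv_mem y.2) (hmem y.2)⟩
  have hinj : Function.Injective f := fun a b h => by
    have h' : (a : X)⁻¹ * (i * a * i⁻¹) = (b : X)⁻¹ * (i * b * i⁻¹) := congrArg Subtype.val h
    have := hfix _ (mul_mem b.2 (inv_mem a.2)) (by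
      calc i * ((b : X) * (a : X)⁻¹) * i⁻¹ = (i * b * i⁻¹) * (i * a * i⁻¹)⁻¹ := by group
        _ = (b : X) * ((b : X)⁻¹ * (i * b * i⁻¹)) * ((a : X)⁻¹ * (i * a * i⁻¹))⁻¹ * (a : X)⁻¹ := by group
        _ = (b : X) * (a : X)⁻¹ := by rw [← h']; group)
    exact Subtype.ext (mul_inv_eq_one.1 this).symm
  obtain ⟨a, ha⟩ := Finite.surjective_of_injective hinj ⟨y, mem_centralizer_singleton_iff.2 hy⟩
  have e : (a : X)⁻¹ * (i * a * i⁻¹) = y := congrArg Subtype.val ha
  have hinv : i⁻¹ = i := inv_eq_of_mul_eq_one_right hi2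
  rw [← e, hinv]
  calc i * ((a : X)⁻¹ * (i * a * i)) * i = i * (a : X)⁻¹ * i * a * (i * i) := by group
    _ = ((a : X)⁻¹ * (i * a * i))⁻¹ := by rw [hi2, mul_one, mul_inv_rev, mul_inv_rev, mul_inv_rev, hinv]; group

/-- The centralizer of a real element is the centralizer of each of its nontrivial elements. -/
theorem cent_eq {x y : X} (hx : RealOdd x) (hy : y * x = x * y) (hy1 : y ≠ 1) :
    RealOdd y ∧ centralizer ({y} : Set X) = centralizer ({x} : Set X) := by
  obtain ⟨h1, hodd, i, hi, hix⟩ := hx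
  have hyodd : Odd (orderOf y) :=
    (C.cent_odd hodd h1).of_dvd_nat (orderOf_dvd_natCard _ (mem_centralizer_singleton_iff.2 hy))
  have hiy := C.inverts hodd h1 hi hix hy
  -- the centralizer of a real element is commutative
  have hab : ∀ {x : X}, Odd (orderOf x) → x ≠ 1 → ∀ i, orderOf i = 2 → i * x * i⁻¹ = x⁻¹ →
      ∀ a b, a * x = x * a → b * x = x * b → a * b = b * a := by
    intro x hodd h1 i hi hix a b ha hb
    have e := C.inverts hodd h1 hi hix (y := a * b) (Commute.mul_left (show Commute a x from ha) hb).eq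
    rw [show i * (a * b) * i⁻¹ = (i * a * i⁻¹) * (i * b * i⁻¹) by group, C.inverts hodd h1 hi hix ha,
      C.inverts hodd h1 hi hix hb, ← mul_inv_rev, inv_inj] at e
    exact e.symm
  refine ⟨⟨hy1, hyodd, i, hi, hiy⟩, ?_⟩
  ext w
  rw [mem_centralizer_singleton_iff, mem_centralizer_singleton_iff]
  exact ⟨fun hw => hab hyodd hy1 i hi hiy w x hw hy.symm, fun hw => hab hodd h1 i hi hix w y hw hy⟩

theorem realOdd_conj {x : X} (hx : RealOdd x) (g : X) : RealOdd (g * x * g⁻¹) := by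
  obtain ⟨h1, hodd, i, hi, hix⟩ := hx
  refine ⟨fun h => h1 (conj_eq_one_iff.1 h), by rwa [conj_order_eq], g * i * g⁻¹, by rwa [conj_order_eq], ?_⟩
  calc g * i * g⁻¹ * (g * x * g⁻¹) * (g * i * g⁻¹)⁻¹ = g * (i * x * i⁻¹) * g⁻¹ := by group
    _ = (g * x * g⁻¹)⁻¹ := by rw [hix]; group

theorem hall {x : X} (hx : RealOdd x) {p : ℕ} (hp : p.Prime) (hd : p ∣ Nat.card (centralizer ({x} : Set X)))
    (P : Sylow p X) : ∃ g : X, ∀ w ∈ (P : Subgroup X), g * w * g⁻¹ ∈ centralizer ({x} : Set X) := by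
  haveI : Fact p.Prime := ⟨hp⟩
  obtain ⟨y, hy⟩ := exists_prime_orderOf_dvd_card' (G := centralizer ({x} : Set X)) p hd
  have hyX : orderOf (y : X) = p := by rw [Subgroup.orderOf_coe, hy]
  obtain ⟨g, hg⟩ := CfsgLib.Transfer.exists_conj_mem_sylow P (S := zpowers (y : X))
    (IsPGroup.of_card (n := 1) (by rw [Nat.card_zpowers, hyX, pow_one]))
  have hy1 : (y : X) ≠ 1 := fun h => hp.ne_one (by rw [← hyX, h, orderOf_one])
  obtain ⟨hry, hcy⟩ := C.cent_eq hx (mem_centralizer_singleton_iff.1 y.2) hy1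
  have hgy := hg _ (mem_zpowers _)
  haveI : Nontrivial (P : Subgroup X) :=
    ⟨⟨⟨_, hgy⟩, 1, fun h => hy1 (conj_eq_one_iff.1 (congrArg Subtype.val h))⟩⟩
  haveI := P.2.center_nontrivial
  obtain ⟨c, hc⟩ := exists_ne (1 : center (P : Subgroup X))
  set c' : X := ((c : (P : Subgroup X)) : X) with hc'
  have hc1 : c' ≠ 1 := fun h => hc (Subtype.ext (Subtype.ext h))
  have hcom : ∀ w ∈ (P : Subgroup X), w * c' = c' * w := fun w hw =>
    congrArg Subtype.val (mem_center_iff.1 c.2 ⟨w, hw⟩)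
  obtain ⟨-, hcc⟩ := C.cent_eq (C.realOdd_conj hry g) (hcom _ hgy).symm hc1
  refine ⟨g⁻¹, fun w hw => ?_⟩
  have : w ∈ centralizer ({g * y * g⁻¹} : Set X) := hcc ▸ mem_centralizer_singleton_iff.2 (hcom w hw)
  rw [mem_centralizer_singleton_iff] at this
  rw [← hcy, mem_centralizer_singleton_iff]
  calc g⁻¹ * w * g⁻¹⁻¹ * y = g⁻¹ * (w * (g * y * g⁻¹)) * g := by group
    _ = y * (g⁻¹ * w * g⁻¹⁻¹) := by rw [this]; group

/-- The normalizer of the centralizer of a real element inverted by `i`. -/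
theorem norm_card {x i : X} (hx : RealOdd x) (hi : orderOf i = 2) (hix : i * x * i⁻¹ = x⁻¹) :
    Nat.card (normalizer (centralizer ({x} : Set X) : Set X)) =
      Nat.card (centralizer ({x} : Set X)) *
        Nat.card ↥(normalizer (centralizer ({x} : Set X) : Set X) ⊓ centralizer ({i} : Set X)) := by
  classical
  set M := centralizer ({x} : Set X) with hM
  set N := normalizer (M : Set X) with hN
  set K := N ⊓ centralizer ({i} : Set X) with hK
  have hMN : M ≤ N := le_normalizer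
  have hodd : Odd (Nat.card M) := C.cent_odd hx.2.1 hx.1
  let f : M × K → N := fun p => ⟨(p.1 : X) * p.2, mul_mem (hMN p.1.2) (mem_inf.1 p.2.2).1⟩
  have hf : Function.Bijective f := by
    constructor
    · rintro ⟨a, b⟩ ⟨a', b'⟩ h
      have h' : (a : X) * b = a' * b' := congrArg Subtype.val h
      have e : (a' : X)⁻¹ * a = b' * (b : X)⁻¹ := by
        calc (a' : X)⁻¹ * a = (a' : X)⁻¹ * (a * b) * (b : X)⁻¹ := by group
          _ = b' * (b : X)⁻¹ := by rw [h']; group
      have h1 : (a' : X)⁻¹ * a ∈ M := mul_mem (inv_mem a'.2) a.2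
      have h2 : (a' : X)⁻¹ * a * i = i * ((a' : X)⁻¹ * a) := by
        rw [e]; exact mem_centralizer_singleton_iff.1 (mul_mem (mem_inf.1 b'.2).2 (inv_mem (mem_inf.1 b.2).2))
      have h4 := C.order_cent hi h2
      have hd := hodd.of_dvd_nat (orderOf_dvd_natCard M h1)
      have hc : Nat.Coprime (orderOf ((a' : X)⁻¹ * a)) (2 ^ 2) :=
        Nat.Coprime.pow_right 2 (Nat.coprime_two_right.2 hd)
      have h0 := orderOf_eq_one_iff.1 (Nat.dvd_one.1 (hc.dvd_of_dvd_mul_right (by simpa using h4)))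
      have ha : a = a' := Subtype.ext (inv_mul_eq_one.1 h0).symm
      subst ha
      exact Prod.ext rfl (Subtype.ext (mul_left_cancel h'))
    · rintro ⟨g, hg⟩
      -- two inverters differ by a square in the centralizer
      obtain ⟨hi2, -⟩ := orderOf_two'.1 hi
      have hconj : ∀ y ∈ M, g * i * g⁻¹ * y * (g * i * g⁻¹)⁻¹ = y⁻¹ := fun y hy => by
        have h1 : g⁻¹ * y * g ∈ M := by
          have := (mem_normalizer_iff.1 (inv_mem hg) y).1 hy
          simpa using this
        have := C.inverts hx.2.1 hx.1 hi hix (mem_centralizer_singleton_iff.1 h1)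
        calc g * i * g⁻¹ * y * (g * i * g⁻¹)⁻¹ = g * (i * (g⁻¹ * y * g) * i⁻¹) * g⁻¹ := by group
          _ = y⁻¹ := by rw [this]; group
      have hm : i * (g * i * g⁻¹) ∈ M := by
        rw [hM, mem_centralizer_singleton_iff]
        refine mul_inv_eq_iff_eq_mul.1 ?_
        calc i * (g * i * g⁻¹) * x * (i * (g * i * g⁻¹))⁻¹
            = i * (g * i * g⁻¹ * x * (g * i * g⁻¹)⁻¹) * i⁻¹ := by group
          _ = (i * x * i⁻¹)⁻¹ := by rw [hconj x (mem_centralizer_singleton_iff.2 rfl)]; group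
          _ = x := by rw [hix, inv_inv]
      obtain ⟨q, hq⟩ : ∃ q ∈ M, q * q = i * (g * i * g⁻¹) := by
        set w := i * (g * i * g⁻¹)
        obtain ⟨o, ho⟩ := hodd.of_dvd_nat (orderOf_dvd_natCard M hm)
        refine ⟨w ^ (o + 1), pow_mem hm _, ?_⟩
        rw [← pow_add, show o + 1 + (o + 1) = orderOf w + 1 by omega, pow_succ, pow_orderOf_eq_one, one_mul]
      obtain ⟨hqM, hqq⟩ := hq
      have hiq : i * q * i = q⁻¹ := by
        have := C.inverts hx.2.1 hx.1 hi hix (mem_centralizer_singleton_iff.1 hqM)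
        rwa [inv_eq_of_mul_eq_one_right hi2] at this
      refine ⟨(⟨q⁻¹, inv_mem hqM⟩, ⟨q * g, mem_inf.2 ⟨mul_mem (hMN hqM) hg,
        mem_centralizer_singleton_iff.2 (mul_inv_eq_iff_eq_mul.1 ?_)⟩⟩), Subtype.ext (inv_mul_cancel_left q g)⟩
      calc q * g * i * (q * g)⁻¹ = q * (g * i * g⁻¹) * q⁻¹ := by group
        _ = q * (i * i) * (g * i * g⁻¹) * q⁻¹ := by rw [hi2, mul_one]
        _ = q * i * (q * q) * q⁻¹ := by rw [hqq]; group
        _ = q * (i * q * i) * i⁻¹ := by group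
        _ = i := by rw [hiq, mul_inv_cancel, one_mul, inv_eq_of_mul_eq_one_right hi2]
  rw [← Nat.card_congr (Equiv.ofBijective f hf), Nat.card_prod]

theorem stab_facts {x : X} (hx : RealOdd x) (hix : z * x * z⁻¹ = x⁻¹) :
    let K := normalizer (centralizer ({x} : Set X) : Set X) ⊓ centralizer ({z} : Set X)
    (Nat.card K = 2 ∨ Nat.card K = 4 ∨ Nat.card K = 8) ∧ Nat.card K ∣ Nat.card (centralizer ({x} : Set X)) - 1 ∧
      ∀ k ∈ K, k * k = 1 → k ≠ 1 → k = z := by
  classical
  intro K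
  haveI := Fintype.ofFinite X
  set M := centralizer ({x} : Set X) with hM
  have hodd : Odd (Nat.card M) := C.cent_odd hx.2.1 hx.1
  have hKS : K ≤ S := fun k hk => C.cz ▸ (mem_inf.1 hk).2
  -- free action
  have hfree : ∀ k ∈ K, ∀ y ∈ M, y ≠ 1 → k * y = y * k → k = 1 := fun k hk y hy hy1 e => by
    obtain ⟨-, hcy⟩ := C.cent_eq hx (mem_centralizer_singleton_iff.1 hy) hy1
    have hkM : k ∈ M := by rw [hM, ← hcy]; exact mem_centralizer_singleton_iff.2 e
    have h4 := C.order_cent (orderOf_two'.2 ⟨C.z2, C.z1⟩) ((mem_S_iff C).1 (hKS hk))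
    have hc : Nat.Coprime (orderOf k) (2 ^ 2) :=
      Nat.Coprime.pow_right 2 (Nat.coprime_two_right.2 (hodd.of_dvd_nat (orderOf_dvd_natCard M hkM)))
    exact orderOf_eq_one_iff.1 (Nat.dvd_one.1 (hc.dvd_of_dvd_mul_right (by simpa using h4)))
  have huniq : ∀ k ∈ K, k * k = 1 → k ≠ 1 → k = z := fun k hk h2 h1 => by
    -- an involution of `K` inverts as well
    have hkN := (mem_inf.1 hk).1
    have hy : k * x * k⁻¹ * x ∈ M := mul_mem ((mem_normalizer_iff.1 hkN x).1 (mem_centralizer_singleton_iff.2 rfl))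
      (mem_centralizer_singleton_iff.2 rfl)
    have hcy : k * (k * x * k⁻¹ * x) = k * x * k⁻¹ * x * k := by
      have hki : k⁻¹ = k := inv_eq_of_mul_eq_one_right h2
      have hxm : x * (k * x * k⁻¹) = k * x * k⁻¹ * x :=
        (mem_centralizer_singleton_iff.1 ((mem_normalizer_iff.1 hkN x).1 (mem_centralizer_singleton_iff.2 rfl))).symm
      rw [hki] at hxm ⊢
      calc k * (k * x * k * x) = (k * k) * (x * k * x) := by group
        _ = x * k * x * (k * k) := by rw [h2, one_mul, mul_one]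
        _ = x * (k * x * k) * k := by group
        _ = k * x * k * x * k := by rw [hxm]
    have hkx : k * x * k⁻¹ = x⁻¹ := by
      by_contra hne
      exact h1 (hfree k hk _ hy (fun h => hne (eq_inv_of_mul_eq_one_left h)) hcy)
    have : z * k = 1 := by
      refine hfree _ (mul_mem (mem_inf.2 ⟨?_, mem_centralizer_singleton_iff.2 rfl⟩) hk) x
        (mem_centralizer_singleton_iff.2 rfl) hx.1 (mul_inv_eq_iff_eq_mul.1 ?_)
      · refine mem_normalizer_iff.2 fun y => ⟨fun hy => ?_, fun hy => ?_⟩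
        · rw [C.inverts hx.2.1 hx.1 (orderOf_two'.2 ⟨C.z2, C.z1⟩) hix (mem_centralizer_singleton_iff.1 hy)]
          exact inv_mem hy
        · have := C.inverts hx.2.1 hx.1 (orderOf_two'.2 ⟨C.z2, C.z1⟩) hix (mem_centralizer_singleton_iff.1 hy)
          rw [inv_eq_of_mul_eq_one_right C.z2, show z * (z * y * z) * z = (z * z) * y * (z * z) by group, C.z2,
            one_mul, mul_one] at this
          rw [this]
          exact inv_mem (by rwa [inv_eq_of_mul_eq_one_right C.z2] at hy)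
      · calc z * k * x * (z * k)⁻¹ = z * (k * x * k⁻¹) * z⁻¹ := by group
          _ = (z * x * z⁻¹)⁻¹ := by rw [hkx]; group
          _ = x := by rw [hix, inv_inv]
    rw [← inv_eq_of_mul_eq_one_right this, inv_eq_of_mul_eq_one_right C.z2]
  refine ⟨?_, ?_, huniq⟩
  · -- the order
    have hzK : z ∈ K := by
      refine mem_inf.2 ⟨mem_normalizer_iff.2 fun y => ⟨fun hy => ?_, fun hy => ?_⟩,
        mem_centralizer_singleton_iff.2 rfl⟩
      · rw [C.inverts hx.2.1 hx.1 (orderOf_two'.2 ⟨C.z2, C.z1⟩) hix (mem_centralizer_singleton_iff.1 hy)]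
        exact inv_mem hy
      · have := C.inverts hx.2.1 hx.1 (orderOf_two'.2 ⟨C.z2, C.z1⟩) hix (mem_centralizer_singleton_iff.1 hy)
        rw [inv_eq_of_mul_eq_one_right C.z2, show z * (z * y * z) * z = (z * z) * y * (z * z) by group, C.z2,
          one_mul, mul_one] at this
        rw [this]
        exact inv_mem (by rwa [inv_eq_of_mul_eq_one_right C.z2] at hy)
    have hA2 : Nat.card ↥(A ⊓ K) ≤ 2 := by
      have hsub : ((A ⊓ K : Subgroup X) : Set X) ⊆ {1, z} := fun k hk => by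
        obtain ⟨hkA, hkK⟩ := hk
        by_cases h : k = 1
        · exact Set.mem_insert_iff.2 (.inl h)
        · exact Set.mem_insert_iff.2 (.inr (huniq k hkK (C.sqA k hkA) h))
      refine (Nat.card_mono (Set.toFinite _) hsub).trans ?_
      rw [Nat.card_coe_set_eq, Set.ncard_pair C.z1.symm]
    have hrel : A.relIndex K ≤ A.relIndex S := relIndex_le_of_le_right hKS
      (Subgroup.index_ne_zero_of_finite (H := A.subgroupOf S))
    have e1 := card_mul_index (A.subgroupOf K)
    have e2 := card_mul_index (A.subgroupOf S)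
    rw [Nat.card_congr (subgroupOfEquivOfLe C.AS).toEquiv, C.cardA, C.cardS] at e2
    have e3 : Nat.card (A.subgroupOf K) = Nat.card ↥(A ⊓ K) := by
      rw [Nat.card_congr ((A.subgroupOf K).equivMapOfInjective K.subtype K.subtype_injective).toEquiv,
        subgroupOf_map_subtype]
    rw [e3] at e1
    change _ * A.relIndex K = _ at e1
    change 16 * A.relIndex S = 64 at e2
    have h8 : Nat.card K ≤ 8 := by
      rw [← e1]
      calc Nat.card ↥(A ⊓ K) * A.relIndex K ≤ 2 * 4 := Nat.mul_le_mul hA2 (by omega)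
        _ = 8 := by norm_num
    have h2 : 2 ∣ Nat.card K := by
      have := orderOf_dvd_natCard K hzK
      rwa [orderOf_two'.2 ⟨C.z2, C.z1⟩] at this
    have h64 : Nat.card K ∣ 2 ^ 6 := by
      have := card_dvd_of_le hKS
      rwa [C.cardS] at this
    obtain ⟨j, -, hj⟩ := (Nat.dvd_prime_pow Nat.prime_two).1 h64
    rw [hj] at h2 h8 ⊢
    rcases j with _ | _ | _ | _ | j
    · norm_num at h2
    · left; norm_num
    · right; left; norm_num
    · right; right; norm_num
    · have : 2 ^ (j + 4) ≥ 16 := Nat.pow_le_pow_right (show 1 ≤ 2 by norm_num) (show 4 ≤ j + 4 by omega)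
      rw [show j + 1 + 1 + 1 + 1 = j + 4 by omega] at h8
      omega
  · -- `k` divides `m - 1`
    let act : MulAction K {y : M // y ≠ 1} :=
      { smul := fun k y => ⟨⟨k * (y : M) * (k : X)⁻¹,
          (mem_normalizer_iff.1 (mem_inf.1 k.2).1 _).1 (y : M).2⟩,
          fun h => y.2 (Subtype.ext (conj_eq_one_iff.1 (congrArg Subtype.val h)))⟩
        one_smul := fun y => Subtype.ext (Subtype.ext (by show (1 : X) * _ * (1 : X)⁻¹ = _; simp))
        mul_smul := fun a b y => Subtype.ext (Subtype.ext (by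
          show ((a : X) * b) * _ * ((a : X) * b)⁻¹ = (a : X) * ((b : X) * _ * (b : X)⁻¹) * (a : X)⁻¹
          group)) }
    have hstab : ∀ y : {y : M // y ≠ 1}, MulAction.stabilizer K y = ⊥ := fun y => by
      ext k
      rw [MulAction.mem_stabilizer_iff, mem_bot]
      constructor
      · intro h
        refine Subtype.ext (hfree k k.2 _ (y : M).2 (fun h' => y.2 (Subtype.ext h')) ?_)
        exact mul_inv_eq_iff_eq_mul.1 (congrArg (fun w : {y : M // y ≠ 1} => ((w : M) : X)) h)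
      · rintro rfl; exact one_smul _ y
    have horb : ∀ y : {y : M // y ≠ 1}, Nat.card (MulAction.orbit K y) = Nat.card K := fun y => by
      rw [Nat.card_congr (MulAction.orbitEquivQuotientStabilizer K y), hstab, ← index_eq_card, index_bot]
    have hsum : Nat.card {y : M // y ≠ 1} = Nat.card (Quotient (MulAction.orbitRel K {y : M // y ≠ 1})) * Nat.card K := by
      rw [Nat.card_congr (MulAction.selfEquivSigmaOrbits K {y : M // y ≠ 1}), Nat.card_sigma,
        Finset.sum_congr rfl fun _ _ => horb _, Finset.sum_const, Finset.card_univ, smul_eq_mul,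
        ← Nat.card_eq_fintype_card]
    have hm : Nat.card {y : M // y ≠ 1} = Nat.card M - 1 := by
      rw [Nat.card_eq_fintype_card, Nat.card_eq_fintype_card, Fintype.card_subtype_compl, Fintype.card_subtype_eq]
    rw [← hm, hsum]
    exact dvd_mul_left _ _

/-- For `a ∈ A` outside `B`, four involutions `j` give `(a j)² = e`. -/
theorem card_fibre {a : X} (ha : a ∈ A) (haB : a ∉ B) :
    Nat.card {j : X // orderOf j = 2 ∧ a * j * (a * j) = z} = 4 := by
  classical
  haveI := Fintype.ofFinite X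
  set F := Finset.univ.filter (fun b => b ∈ B) with hF
  set EF := Finset.univ.filter (fun b => b ∈ A ⊓ B) with hEF
  let φ : X → X := fun b => a * b * a⁻¹ * b⁻¹
  have hEF4 : EF.card = 4 := by rw [← Fintype.card_subtype, ← Nat.card_eq_fintype_card]; exact C.cardE
  have hF16 : F.card = 16 := by rw [← Fintype.card_subtype, ← Nat.card_eq_fintype_card]; exact C.cardB
  have hfib : ∀ b₁ ∈ B, ∀ b₂ ∈ B, φ b₁ = φ b₂ ↔ b₁⁻¹ * b₂ ∈ A ⊓ B := by
    intro b₁ h1 b₂ h2
    have hab : φ b₂ = φ b₁ * (b₁ * φ (b₁⁻¹ * b₂) * b₁⁻¹) := by simp only [φ]; group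
    have hE : b₁ * φ (b₁⁻¹ * b₂) * b₁⁻¹ = φ (b₁⁻¹ * b₂) := by
      rw [C.E_central (C.comm a ha _ (mul_mem (inv_mem h1) h2)) (C.BS h1), mul_inv_cancel_right]
    rw [hE] at hab
    constructor
    · intro e
      rw [e, left_eq_mul] at hab
      have hc : a * (b₁⁻¹ * b₂) = (b₁⁻¹ * b₂) * a := by
        calc a * (b₁⁻¹ * b₂) = φ (b₁⁻¹ * b₂) * ((b₁⁻¹ * b₂) * a) := by simp only [φ]; group
          _ = _ := by rw [hab, one_mul]
      have hbb : b₁⁻¹ * b₂ ∈ B := mul_mem (inv_mem h1) h2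
      exact ⟨C.cA a ha haB _ (C.BS hbb) hc.symm, hbb⟩
    · intro e
      have : φ (b₁⁻¹ * b₂) = 1 := by
        show a * _ * a⁻¹ * _ = 1
        rw [C.A_comm ha e.1]; group
      rw [hab, this, mul_one]
  have hcardfib : ∀ b₀ ∈ B, (F.filter fun b => φ b = φ b₀).card = 4 := fun b₀ hb₀ => by
    rw [← hEF4]
    refine Finset.card_bij' (fun b _ => b₀⁻¹ * b) (fun e _ => b₀ * e) ?_ ?_ (fun b _ => by group) (fun e _ => by group)
    · intro b hb
      obtain ⟨hbB, e⟩ := Finset.mem_filter.1 hb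
      exact Finset.mem_filter.2 ⟨Finset.mem_univ _, (hfib b₀ hb₀ b (Finset.mem_filter.1 hbB).2).1 e.symm⟩
    · intro e he
      have he' := (Finset.mem_filter.1 he).2
      refine Finset.mem_filter.2 ⟨Finset.mem_filter.2 ⟨Finset.mem_univ _, mul_mem hb₀ he'.2⟩, ?_⟩
      exact ((hfib b₀ hb₀ _ (mul_mem hb₀ he'.2)).2 (by rwa [inv_mul_cancel_left])).symm
  have himg : F.image φ = EF := by
    refine Finset.eq_of_subset_of_card_le (fun e he => ?_) ?_
    · obtain ⟨b, hb, rfl⟩ := Finset.mem_image.1 he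
      exact Finset.mem_filter.2 ⟨Finset.mem_univ _, C.comm a ha b (Finset.mem_filter.1 hb).2⟩
    · have := Finset.card_le_mul_card_image (f := φ) F 4 (fun e he => by
        obtain ⟨b, hb, rfl⟩ := Finset.mem_image.1 he
        exact (hcardfib b (Finset.mem_filter.1 hb).2).le)
      omega
  obtain ⟨b₀, hb₀, e₀⟩ := Finset.mem_image.1
    (himg.symm ▸ Finset.mem_filter.2 ⟨Finset.mem_univ _, ⟨C.zA, C.zB⟩⟩ : z ∈ F.image φ)
  have hb₀B := (Finset.mem_filter.1 hb₀).2
  rw [Nat.card_eq_fintype_card, Fintype.card_subtype, ← hcardfib b₀ hb₀B, e₀]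
  refine congrArg Finset.card ?_
  ext j
  simp only [Finset.mem_filter, Finset.mem_univ, true_and, hF]
  constructor
  · rintro ⟨hj, e⟩
    have hc : a * j * z = z * (a * j) := by rw [← e]; group
    have hajS : a * j ∈ S := (mem_S_iff C).2 hc
    have hjS : j ∈ S := by simpa using mul_mem (inv_mem (C.AS ha)) hajS
    obtain ⟨hj2, -⟩ := orderOf_two'.1 hj
    rcases C.invol_mem hjS hj2 with h | h
    · exfalso
      rw [C.sqA _ (mul_mem ha h)] at e
      exact C.z1 e.symm
    · refine ⟨h, ?_⟩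
      show a * j * a⁻¹ * j⁻¹ = z
      rw [← comm_of_two_sq (C.sqA a ha) hj2, e]
  · rintro ⟨hj, e⟩
    have e' : a * j * a⁻¹ * j⁻¹ = z := e
    refine ⟨orderOf_two'.2 ⟨C.sqB j hj, fun h => C.z1 ?_⟩, by rw [comm_of_two_sq (C.sqA a ha) (C.sqB j hj), e']⟩
    rw [← e', h]; group

/-- Four involutions `j` give `(z j)² = w`. -/
theorem card_fibre_z {w : X} (hw : w ∈ A) (hwB : w ∉ B) :
    Nat.card {j : X // orderOf j = 2 ∧ z * j * (z * j) = w} = 4 := by
  obtain ⟨g, hg, e⟩ := C.trA w hw fun h => hwB (h ▸ one_mem B)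
  have ha : g⁻¹ * z * g ∈ A := by
    have := (mem_normalizer_iff.1 (inv_mem hg) z).1 C.zA
    simpa using this
  have haB : g⁻¹ * z * g ∉ B := fun hb => by
    have hSle : S ≤ centralizer ({g⁻¹ * z * g} : Set X) := fun x hx =>
      mem_centralizer_singleton_iff.2 (C.E_central ⟨ha, hb⟩ hx)
    have heq : centralizer ({g⁻¹ * z * g} : Set X) = S := (eq_of_le_of_card_ge hSle (by
      rw [C.cardS, C.card_cent (isConj_iff.2 ⟨g⁻¹, by group⟩)])).symm
    have hcent : ∀ x ∈ S, x * w = w * x := by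
      intro x hx
      have h1 : g⁻¹ * x * g ∈ centralizer ({g⁻¹ * z * g} : Set X) := by
        rw [mem_centralizer_singleton_iff]
        calc g⁻¹ * x * g * (g⁻¹ * z * g) = g⁻¹ * (x * z) * g := by group
          _ = g⁻¹ * z * g * (g⁻¹ * x * g) := by rw [(mem_S_iff C).1 hx]; group
      rw [heq] at h1
      have h2 := (mem_S_iff C).1 h1
      calc x * w = g * (g⁻¹ * x * g * z) * g⁻¹ := by rw [← e]; group
        _ = w * x := by rw [h2, ← e]; group
    have hBA : B ≤ A := fun b hb' => C.cA w hw hwB b (C.BS hb') (hcent b (C.BS hb'))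
    have := card_le_of_le (le_inf hBA le_rfl : B ≤ A ⊓ B)
    rw [C.cardB, C.cardE] at this
    omega
  rw [← C.card_fibre ha haB]
  refine Nat.card_congr (Equiv.subtypeEquiv (MulAut.conj g⁻¹).toEquiv fun j => ?_)
  show _ ↔ orderOf (g⁻¹ * j * g⁻¹⁻¹) = 2 ∧
    g⁻¹ * z * g * (g⁻¹ * j * g⁻¹⁻¹) * (g⁻¹ * z * g * (g⁻¹ * j * g⁻¹⁻¹)) = z
  rw [conj_order_eq]
  refine and_congr_right fun _ => ⟨fun h => ?_, fun h => ?_⟩
  · calc g⁻¹ * z * g * (g⁻¹ * j * g⁻¹⁻¹) * (g⁻¹ * z * g * (g⁻¹ * j * g⁻¹⁻¹)) = g⁻¹ * (z * j * (z * j)) * g := by group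
      _ = z := by rw [h, ← e]; group
  · calc z * j * (z * j)
        = g * (g⁻¹ * z * g * (g⁻¹ * j * g⁻¹⁻¹) * (g⁻¹ * z * g * (g⁻¹ * j * g⁻¹⁻¹))) * g⁻¹ := by group
      _ = w := by rw [h, e]

/-- The involutions give products of even order with `z` 123 times. -/
theorem card_even_partners :
    Nat.card {j : X // orderOf j = 2 ∧ ¬ (Odd (orderOf (z * j)) ∧ z * j ≠ 1)} = 123 := by
  classical
  haveI := Fintype.ofFinite X
  set FA := Finset.univ.filter (fun x => x ∈ A) with hFA
  set FB := Finset.univ.filter (fun x => x ∈ B) with hFB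
  have cA : FA.card = 16 := by rw [← Fintype.card_subtype, ← Nat.card_eq_fintype_card]; exact C.cardA
  have cB : FB.card = 16 := by rw [← Fintype.card_subtype, ← Nat.card_eq_fintype_card]; exact C.cardB
  have cI : (FA ∩ FB).card = 4 := by
    rw [show FA ∩ FB = Finset.univ.filter (fun x => x ∈ A ⊓ B) by ext; simp [hFA, hFB],
      ← Fintype.card_subtype, ← Nat.card_eq_fintype_card]
    exact C.cardE
  have h1mem : (1 : X) ∈ FA ∪ FB := by simp [hFA]
  set W := (FA \ FB) ∪ (FB \ FA) with hW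
  have cW : W.card = 24 := by
    rw [hW, Finset.card_union_of_disjoint (disjoint_sdiff_sdiff), Finset.card_sdiff, Finset.card_sdiff,
      Finset.inter_comm FB FA, cA, cB, cI]
  set J4 := Finset.univ.filter (fun j => orderOf j = 2 ∧ z * j * (z * j) ∈ W) with hJ4
  have c4 : J4.card = 96 := by
    have := Finset.card_eq_sum_card_fiberwise (s := J4) (t := W) (f := fun j => z * j * (z * j))
      (fun j hj => (Finset.mem_filter.1 hj).2.2)
    rw [this, Finset.sum_congr rfl (fun w hw => (?_ : _ = 4)), Finset.sum_const, cW]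
    · rfl
    have e : J4.filter (fun j => z * j * (z * j) = w) =
        Finset.univ.filter (fun j => orderOf j = 2 ∧ z * j * (z * j) = w) := by
      ext j
      simp only [hJ4, Finset.mem_filter, Finset.mem_univ, true_and]
      exact ⟨fun h => ⟨h.1.1, h.2⟩, fun h => ⟨⟨h.1, h.2 ▸ hw⟩, h.2⟩⟩
    rw [e, ← Fintype.card_subtype, ← Nat.card_eq_fintype_card]
    rcases Finset.mem_union.1 hw with h | h <;> simp only [Finset.mem_sdiff, hFA, hFB, Finset.mem_filter,
      Finset.mem_univ, true_and] at h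
    · exact C.card_fibre_z h.1 h.2
    · exact C.swap.card_fibre_z h.1 h.2
  set J2 := (FA ∪ FB).erase 1 with hJ2
  have c2 : J2.card = 27 := by
    rw [hJ2, Finset.card_erase_of_mem h1mem]
    have := Finset.card_union_add_card_inter FA FB
    omega
  have hdisj : Disjoint J2 J4 := by
    rw [Finset.disjoint_left]
    intro j h2 h4
    have hjS : j ∈ S := by
      rcases Finset.mem_union.1 (Finset.mem_erase.1 h2).2 with h | h <;> simp only [hFA, hFB, Finset.mem_filter] at h
      exacts [C.AS h.2, C.BS h.2]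
    have e : z * j * (z * j) = z * z * (j * j) := by
      rw [show z * j * (z * j) = z * (j * z) * j by group, (mem_S_iff C).1 hjS]; group
    have hj2 : j * j = 1 := by
      rcases Finset.mem_union.1 (Finset.mem_erase.1 h2).2 with h | h <;> simp only [hFA, hFB, Finset.mem_filter] at h
      exacts [C.sqA j h.2, C.sqB j h.2]
    have := (Finset.mem_filter.1 h4).2.2
    rw [e, C.z2, hj2, one_mul] at this
    simp [hW, hFA, hFB] at this
  rw [Nat.card_eq_fintype_card, Fintype.card_subtype]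
  suffices e : (Finset.univ.filter fun j => orderOf j = 2 ∧ ¬ (Odd (orderOf (z * j)) ∧ z * j ≠ 1)) = J2 ∪ J4 by
    rw [e, Finset.card_union_of_disjoint hdisj, c2, c4]
  ext j
  simp only [Finset.mem_filter, Finset.mem_univ, true_and, Finset.mem_union]
  constructor
  · rintro ⟨hj, hne⟩
    obtain ⟨hj2, hj1⟩ := orderOf_two'.1 hj
    set x := z * j with hx
    have hx4 : x * x * (x * x) = 1 := by
      by_cases hx1 : x = 1
      · rw [hx1]; simp
      have hev : Even (orderOf x) := Nat.not_odd_iff_even.1 fun h => hne ⟨h, hx1⟩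
      have hw := CfsgLib.Invol.orderOf_half (x := z) (y := j) hev
      have h4 := C.order_cent hw ((Commute.pow_right (Commute.refl x) _).eq)
      have h4' := orderOf_dvd_iff_pow_eq_one.1 h4
      rw [show (4 : ℕ) = 2 + 2 from rfl, pow_add, pow_two] at h4'
      exact h4'
    by_cases hx2 : x * x = 1
    · left
      have hzj : j * z = z * j := by
        have := inv_eq_of_mul_eq_one_right hx2
        rw [hx, mul_inv_rev, inv_eq_of_mul_eq_one_right hj2, inv_eq_of_mul_eq_one_right C.z2] at this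
        exact this
      refine Finset.mem_erase.2 ⟨hj1, ?_⟩
      rcases C.invol_mem ((mem_S_iff C).2 hzj) hj2 with h | h <;> simp [hFA, hFB, h]
    · right
      refine Finset.mem_filter.2 ⟨Finset.mem_univ _, hj, ?_⟩
      have hwz : x * x * z = z * (x * x) := by
        have hzx : z * x * z = x⁻¹ := by
          rw [hx, mul_inv_rev, inv_eq_of_mul_eq_one_right hj2, inv_eq_of_mul_eq_one_right C.z2,
            show z * (z * j) * z = z * z * (j * z) by group, C.z2, one_mul]
        have hxx : x⁻¹ * x⁻¹ = x * x := by rw [← mul_inv_rev]; exact inv_eq_of_mul_eq_one_right hx4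
        calc x * x * z = x⁻¹ * x⁻¹ * z := by rw [hxx]
          _ = z * x * z * (z * x * z) * z := by rw [hzx]
          _ = z * x * (z * z) * x * (z * z) := by group
          _ = z * (x * x) := by rw [C.z2]; group
      have hwS := (mem_S_iff C).2 hwz
      have hne' : x * x ∉ A ⊓ B := fun hE => by
        -- `x` would centralize `z`
        have hxS : x ∈ centralizer ({x * x} : Set X) := mem_centralizer_singleton_iff.2 (by group)
        have hS : centralizer ({x * x} : Set X) = S := (eq_of_le_of_card_ge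
          (fun s hs => mem_centralizer_singleton_iff.2 (C.E_central hE hs)) (by
            rw [C.cardS, C.card_cent (C.conj_all (orderOf_two'.2 ⟨hx4, hx2⟩))])).symm
        rw [hS] at hxS
        refine hx2 ?_
        have hjS : j ∈ S := by simpa [hx] using mul_mem (inv_mem (C.AS C.zA)) hxS
        rw [hx, show z * j * (z * j) = z * (j * z) * j by group, (mem_S_iff C).1 hjS]
        calc z * (z * j) * j = (z * z) * (j * j) := by group
          _ = 1 := by rw [C.z2, hj2, one_mul]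
      rcases C.invol_mem hwS hx4 with h | h
      · exact Finset.mem_union_left _ (Finset.mem_sdiff.2 ⟨Finset.mem_filter.2 ⟨Finset.mem_univ _, h⟩, fun hb => hne' ⟨h, (Finset.mem_filter.1 hb).2⟩⟩)
      · exact Finset.mem_union_right _ (Finset.mem_sdiff.2 ⟨Finset.mem_filter.2 ⟨Finset.mem_univ _, h⟩, fun ha => hne' ⟨(Finset.mem_filter.1 ha).2, h⟩⟩)
  · rintro (h | h)
    · obtain ⟨hj1, hmem⟩ := Finset.mem_erase.1 h
      obtain ⟨hjS, hj2⟩ : j ∈ S ∧ j * j = 1 := by
        rcases Finset.mem_union.1 hmem with h | h <;> simp only [hFA, hFB, Finset.mem_filter] at h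
        exacts [⟨C.AS h.2, C.sqA j h.2⟩, ⟨C.BS h.2, C.sqB j h.2⟩]
      refine ⟨orderOf_two'.2 ⟨hj2, hj1⟩, fun ⟨ho, hne⟩ => ?_⟩
      have h22 : z * j * (z * j) = 1 := by
        rw [show z * j * (z * j) = z * (j * z) * j by group, (mem_S_iff C).1 hjS]
        calc z * (z * j) * j = (z * z) * (j * j) := by group
          _ = 1 := by rw [C.z2, hj2, one_mul]
      have : orderOf (z * j) = 2 := orderOf_two'.2 ⟨h22, hne⟩
      rw [this] at ho
      exact absurd ho (by decide)
    · obtain ⟨-, hj, hw⟩ := Finset.mem_filter.1 h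
      refine ⟨hj, fun ⟨ho, _⟩ => ?_⟩
      obtain ⟨hwAB, hne⟩ : (z * j * (z * j)) * (z * j * (z * j)) = 1 ∧ z * j * (z * j) ≠ 1 := by
        rcases Finset.mem_union.1 hw with h | h <;> simp only [Finset.mem_sdiff, hFA, hFB, Finset.mem_filter,
          Finset.mem_univ, true_and] at h
        · exact ⟨C.sqA _ h.1, fun e => h.2 (e ▸ one_mem B)⟩
        · exact ⟨C.sqB _ h.1, fun e => h.2 (e ▸ one_mem A)⟩
      have h4 : orderOf (z * j) ∣ 2 ^ 2 := orderOf_dvd_of_pow_eq_one (by
        rw [show 2 ^ 2 = 2 + 2 from rfl, pow_add, pow_two]; exact hwAB)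
      have := Nat.Coprime.pow_right 2 (Nat.coprime_two_right.2 ho)
      have h1 := orderOf_eq_one_iff.1 (Nat.dvd_one.1 (this.dvd_of_dvd_mul_right (by simpa using h4)))
      rw [h1] at hne
      exact hne (one_mul 1)

end Cit

end CfsgLib.SuzType
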