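import Mathlib
import Cfsg.Agent.Lib.SuzType.Local.Cit
import Cfsg.Agent.Lib.Invol.ZStarFinal
import Cfsg.Agent.Lib.Invol.Isolated

/-!
Counting in a group with an involution centralizer of order 64: order, real elements, elements of order 7.
-/

set_option autoImplicit false
set_option linter.style.haveILetI false
set_option linter.unusedSectionVars false

namespace CfsgLib.SuzType

open Subgroup

variable {X : Type*} [Group X] [Finite X]

theorem conj_centralizer (g y : X) {w : X} :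
    w ∈ centralizer ({g * y * g⁻¹} : Set X) ↔ g⁻¹ * w * g ∈ centralizer ({y} : Set X) := by
  rw [mem_centralizer_singleton_iff, mem_centralizer_singleton_iff]
  constructor
  · intro h
    calc g⁻¹ * w * g * y = g⁻¹ * (w * (g * y * g⁻¹)) * g := by group
      _ = y * (g⁻¹ * w * g) := by rw [h]; group
  · intro h
    calc w * (g * y * g⁻¹) = g * (g⁻¹ * w * g * y) * g⁻¹ := by group
      _ = g * y * g⁻¹ * w := by rw [h]; group

namespace Cit

variable {z : X} {S A B : Subgroup X} (C : Cit z S A B)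

include C

theorem z_order : orderOf z = 2 := orderOf_two'.2 ⟨C.z2, C.z1⟩

theorem S_le_N : S ≤ normalizer (A : Set X) := by
  have key : ∀ x ∈ S, ∀ c ∈ A, x * c * x⁻¹ ∈ A := fun x hx c hc => by
    obtain ⟨a, ha, b, hb, rfl⟩ := C.prod x hx
    have : b * c * b⁻¹ = (c * b * c⁻¹ * b⁻¹)⁻¹ * c := by group
    rw [show a * b * c * (a * b)⁻¹ = a * (b * c * b⁻¹) * a⁻¹ by group, this]
    exact mul_mem (mul_mem ha (mul_mem (inv_mem (C.comm c hc b hb).1) hc)) (inv_mem ha)
  exact fun x hx => mem_normalizer_iff.2 fun c => ⟨key x hx c, fun h => by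
    have := key x⁻¹ (inv_mem hx) _ h
    simpa [mul_assoc] using this⟩

/-- The normalizer of `A` has order divisible by 960 and an involution outside `A`-closure inverting. -/
theorem card_normA : Nat.card (normalizer (A : Set X)) = 960 := by
  classical
  haveI := Fintype.ofFinite X
  let N : Subgroup X := normalizer (A : Set X)
  have h := CfsgLib.Invol.card_conjugates_mul (G := N) ⟨z, le_normalizer C.zA⟩
  have hc : Nat.card (centralizer ({(⟨z, le_normalizer C.zA⟩ : N)} : Set N)) = 64 := by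
    rw [← C.cardS]
    refine Nat.card_congr
      { toFun := fun w => ⟨((w : N) : X), (mem_S_iff C).2 (congrArg Subtype.val (mem_centralizer_singleton_iff.1 w.2))⟩
        invFun := fun w => ⟨⟨w, C.S_le_N w.2⟩, mem_centralizer_singleton_iff.2 (Subtype.ext ((mem_S_iff C).1 w.2))⟩
        left_inv := fun _ => rfl
        right_inv := fun _ => rfl }
  have hcl : Nat.card {y : N // IsConj (⟨z, le_normalizer C.zA⟩ : N) y} = 15 := by
    have h15 : ((Finset.univ.filter fun y => y ∈ A).erase 1).card = 15 := by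
      rw [Finset.card_erase_of_mem (Finset.mem_filter.2 ⟨Finset.mem_univ _, one_mem _⟩), ← Fintype.card_subtype,
        ← Nat.card_eq_fintype_card, C.cardA]
    have hset : ∀ y : X, y ∈ (Finset.univ.filter fun y => y ∈ A).erase 1 ↔ y ∈ A ∧ y ≠ 1 := fun y => by
      simp [and_comm]
    rw [← h15, ← Nat.card_eq_finsetCard]
    refine Nat.card_congr
      { toFun := fun y => ⟨((y : N) : X), (hset _).2 ?_⟩
        invFun := fun y => ⟨⟨y.1, le_normalizer ((hset _).1 y.2).1⟩, ?_⟩
        left_inv := fun _ => rfl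
        right_inv := fun _ => rfl }
    · obtain ⟨g, hg⟩ := isConj_iff.1 y.2
      rw [← hg]
      exact ⟨(mem_normalizer_iff.1 g.2 z).1 C.zA, fun h' => C.z1 (conj_eq_one_iff.1 h')⟩
    · obtain ⟨ha, h1⟩ := (hset _).1 y.2
      obtain ⟨g, hg, e⟩ := C.trA _ ha h1
      exact isConj_iff.2 ⟨⟨g, hg⟩, Subtype.ext e⟩
  rw [hc, hcl] at h
  exact h.symm

theorem exists_real35 : ∃ y : X, RealOdd y ∧ (3 ∣ orderOf y ∨ 5 ∣ orderOf y) := by
  classical
  haveI : Fact (Nat.Prime 2) := ⟨Nat.prime_two⟩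
  haveI := Fintype.ofFinite X
  let N : Subgroup X := normalizer (A : Set X)
  obtain ⟨w, hwB, hwA⟩ : ∃ w ∈ B, w ∉ A := by
    by_contra h
    push Not at h
    have := card_le_of_le (le_inf (fun b hb => h b hb) le_rfl : B ≤ A ⊓ B)
    rw [C.cardB, C.cardE] at this
    omega
  have hwN : w ∈ N := C.S_le_N (C.BS hwB)
  have hw2 : orderOf (⟨w, hwN⟩ : N) = 2 := by
    rw [Subgroup.orderOf_mk, orderOf_two']
    exact ⟨C.sqB w hwB, fun h => hwA (h ▸ one_mem A)⟩
  have hSN := C.S_le_N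
  obtain ⟨h, h1, hodd, hinv⟩ := CfsgLib.Invol.exists_inverted_odd (⟨w, hwN⟩ : N) hw2 fun M hM hMp hmem => by
    have hSp : IsPGroup 2 (S.subgroupOf N) := IsPGroup.of_card (n := 6) (by
      rw [Nat.card_congr (subgroupOfEquivOfLe hSN).toEquiv, C.cardS]; norm_num)
    have hsup := IsPGroup.to_sup_of_normal_left hMp hSp
    obtain ⟨e, he⟩ := IsPGroup.iff_card.1 hsup
    have hd := card_subgroup_dvd_card (M ⊔ S.subgroupOf N)
    rw [he, show Nat.card N = 960 from C.card_normA] at hd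
    have he6 : e ≤ 6 := by
      by_contra hlt
      have := (pow_dvd_pow 2 (show 7 ≤ e by omega)).trans hd
      norm_num at this
    have heq : M ⊔ S.subgroupOf N = S.subgroupOf N := (eq_of_le_of_card_ge le_sup_right (by
      rw [he, Nat.card_congr (subgroupOfEquivOfLe hSN).toEquiv, C.cardS]
      exact (Nat.pow_le_pow_right (by norm_num) he6).trans (by norm_num))).symm
    have hMS : ∀ x : N, x ∈ M → (x : X) ∈ S := fun x hx => by
      have : x ∈ M ⊔ S.subgroupOf N := le_sup_left (a := M) hx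
      rw [heq] at this
      exact this
    have hcomm : ∀ a ∈ A, a ≠ 1 → w * a = a * w := fun a ha ha1 => by
      obtain ⟨g, hg, e⟩ := C.trA a ha ha1
      have hz := (mem_S_iff C).1 (hMS _ (hM.conj_mem _ hmem (⟨g, hg⟩ : N)⁻¹))
      simp only [Subgroup.coe_mul, InvMemClass.coe_inv] at hz
      rw [← e]
      calc w * (g * z * g⁻¹) = g * ((g⁻¹ * w * g⁻¹⁻¹) * z) * g⁻¹ := by group
        _ = g * z * g⁻¹ * w := by rw [hz]; group
    obtain ⟨a, haA, haB⟩ : ∃ a ∈ A, a ∉ B := by
      by_contra h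
      push Not at h
      have := card_le_of_le (le_inf le_rfl (fun b hb => h b hb) : A ≤ A ⊓ B)
      rw [C.cardA, C.cardE] at this
      omega
    exact hwA (C.cA a haA haB w (C.BS hwB) (hcomm a haA fun e => haB (e ▸ one_mem B)))
  obtain ⟨p, hp, hpd⟩ := Nat.exists_prime_and_dvd (n := orderOf h) fun e => h1 (orderOf_eq_one_iff.1 e)
  have hp35 : p = 3 ∨ p = 5 := by
    have h960 : p ∣ 2 ^ 6 * 15 := by
      have := hpd.trans (orderOf_dvd_natCard h)
      rwa [show Nat.card N = 960 from C.card_normA] at this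
    have hp2 : p ≠ 2 := fun e => by
      have := hodd.of_dvd_nat hpd
      rw [e] at this
      exact absurd this (by decide)
    rcases hp.dvd_mul.1 h960 with h | h
    · exact absurd ((Nat.prime_dvd_prime_iff_eq hp Nat.prime_two).1 (hp.dvd_of_dvd_pow h)) hp2
    · rcases (Nat.Prime.dvd_mul (m := 3) (n := 5) hp).1 h with h | h
      · exact .inl ((Nat.prime_dvd_prime_iff_eq hp Nat.prime_three).1 h)
      · exact .inr ((Nat.prime_dvd_prime_iff_eq hp Nat.prime_five).1 h)
  refine ⟨(h : X), ⟨fun e => h1 (Subtype.ext e), by rwa [Subgroup.orderOf_coe], w, ?_, ?_⟩, ?_⟩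
  · rw [← hw2, Subgroup.orderOf_mk]
  · simpa using congrArg Subtype.val hinv
  · rw [Subgroup.orderOf_coe]
    rcases hp35 with rfl | rfl
    exacts [.inl hpd, .inr hpd]

theorem m_conj (g y : X) :
    Nat.card (centralizer ({g * y * g⁻¹} : Set X)) = Nat.card (centralizer ({y} : Set X)) :=
  CfsgLib.Invol.card_centralizer_of_isConj (isConj_iff.2 ⟨g, rfl⟩)

theorem norm_m {y : X} (hy : RealOdd y) : ∃ k, (k = 2 ∨ k = 4 ∨ k = 8) ∧
    Nat.card (normalizer (centralizer ({y} : Set X) : Set X)) = Nat.card (centralizer ({y} : Set X)) * k ∧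
    k ∣ Nat.card (centralizer ({y} : Set X)) - 1 := by
  obtain ⟨h1, hodd, i, hi, hiy⟩ := hy
  obtain ⟨g, rfl⟩ := isConj_iff.1 (C.conj_all hi)
  have hy' : RealOdd (g⁻¹ * y * g⁻¹⁻¹) := C.realOdd_conj ⟨h1, hodd, _, hi, hiy⟩ g⁻¹
  have hz' : z * (g⁻¹ * y * g⁻¹⁻¹) * z⁻¹ = (g⁻¹ * y * g⁻¹⁻¹)⁻¹ := by
    calc z * (g⁻¹ * y * g⁻¹⁻¹) * z⁻¹ = g⁻¹ * (g * z * g⁻¹ * y * (g * z * g⁻¹)⁻¹) * g⁻¹⁻¹ := by group
      _ = _ := by rw [hiy]; group
  obtain ⟨hk, hdvd, -⟩ := C.stab_facts hy' hz'
  have hn := C.norm_card hy' C.z_order hz'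
  rw [C.m_conj] at hn hdvd
  refine ⟨_, hk, ?_, hdvd⟩
  rw [← hn]
  refine Nat.card_congr (Equiv.subtypeEquiv (MulAut.conj g⁻¹).toEquiv fun w => ?_)
  show _ ↔ g⁻¹ * w * g⁻¹⁻¹ ∈ _
  simp only [mem_normalizer_iff, conj_centralizer]
  constructor
  · intro h x
    have := h (g * x * g⁻¹)
    simpa [mul_assoc] using this
  · intro h x
    have := h (g⁻¹ * x * g⁻¹⁻¹)
    simpa [mul_assoc] using this

/-- Conjugates of the centralizer: the count. -/
theorem card_class {y : X} (hy : RealOdd y) :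
    Nat.card {w : X // ∃ g : X, ∃ c, c * y = y * c ∧ c ≠ 1 ∧ g * c * g⁻¹ = w} *
        Nat.card (normalizer (centralizer ({y} : Set X) : Set X)) =
      Nat.card X * (Nat.card (centralizer ({y} : Set X)) - 1) := by
  classical
  haveI := Fintype.ofFinite X
  set M := centralizer ({y} : Set X) with hM
  set Dm := (Finset.univ : Finset X) ×ˢ ((Finset.univ.filter fun c => c ∈ M).erase 1) with hDm
  set f : X × X → X := fun p => p.1 * p.2 * p.1⁻¹ with hf
  have hfib : ∀ w ∈ Dm.image f, (Dm.filter fun p => f p = w).card = Nat.card (normalizer (M : Set X)) := by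
    intro w hw
    obtain ⟨⟨g₀, c₀⟩, hp, rfl⟩ := Finset.mem_image.1 hw
    obtain ⟨hc1, hc0⟩ := Finset.mem_erase.1 (Finset.mem_product.1 hp).2
    have hc0M := (Finset.mem_filter.1 hc0).2
    rw [Nat.card_eq_fintype_card, Fintype.card_subtype]
    refine Finset.card_bij' (fun p _ => g₀⁻¹ * p.1) (fun h _ => (g₀ * h, h⁻¹ * c₀ * h)) ?_ ?_ ?_ ?_
    · intro p hp'
      obtain ⟨hpD, e⟩ := Finset.mem_filter.1 hp'
      obtain ⟨hp1, hp2⟩ := Finset.mem_erase.1 (Finset.mem_product.1 hpD).2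
      have hpM := (Finset.mem_filter.1 hp2).2
      refine Finset.mem_filter.2 ⟨Finset.mem_univ _, mem_normalizer_iff.2 fun x => ?_⟩
      have e' : g₀⁻¹ * p.1 * p.2 * (g₀⁻¹ * p.1)⁻¹ = c₀ := by
        have e0 : p.1 * p.2 * p.1⁻¹ = g₀ * c₀ * g₀⁻¹ := e
        calc g₀⁻¹ * p.1 * p.2 * (g₀⁻¹ * p.1)⁻¹ = g₀⁻¹ * (p.1 * p.2 * p.1⁻¹) * g₀ := by group
          _ = c₀ := by rw [e0]; group
      rw [hM, ← (C.cent_eq hy (mem_centralizer_singleton_iff.1 hpM) hp1).2]
      rw [show centralizer ({p.2} : Set X) = centralizer ({c₀} : Set X) from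
        ((C.cent_eq hy (mem_centralizer_singleton_iff.1 hpM) hp1).2).trans
          ((C.cent_eq hy (mem_centralizer_singleton_iff.1 hc0M) hc1).2).symm]
      conv_rhs => rw [show c₀ = g₀⁻¹ * p.1 * p.2 * (g₀⁻¹ * p.1)⁻¹ from e'.symm]
      rw [conj_centralizer, show (g₀⁻¹ * p.1)⁻¹ * (g₀⁻¹ * p.1 * x * (g₀⁻¹ * p.1)⁻¹) * (g₀⁻¹ * p.1) = x by group,
        ((C.cent_eq hy (mem_centralizer_singleton_iff.1 hpM) hp1).2).trans
          ((C.cent_eq hy (mem_centralizer_singleton_iff.1 hc0M) hc1).2).symm]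
    · intro h hh
      have hhN := (Finset.mem_filter.1 hh).2
      refine Finset.mem_filter.2 ⟨Finset.mem_product.2 ⟨Finset.mem_univ _, Finset.mem_erase.2 ⟨?_,
        Finset.mem_filter.2 ⟨Finset.mem_univ _, ?_⟩⟩⟩, ?_⟩
      · intro e
        apply hc1
        have e' : h⁻¹ * c₀ * h = 1 := e
        calc c₀ = h * (h⁻¹ * c₀ * h) * h⁻¹ := by group
          _ = 1 := by rw [e']; group
      · have := (mem_normalizer_iff.1 (inv_mem hhN) c₀).1 hc0M
        simpa using this
      · simp only [hf]; group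
    · intro p hp'
      obtain ⟨-, e⟩ := Finset.mem_filter.1 hp'
      have e0 : p.1 * p.2 * p.1⁻¹ = g₀ * c₀ * g₀⁻¹ := e
      refine Prod.ext (by simp) ?_
      calc (g₀⁻¹ * p.1)⁻¹ * c₀ * (g₀⁻¹ * p.1) = p.1⁻¹ * (g₀ * c₀ * g₀⁻¹) * p.1 := by group
        _ = p.2 := by rw [← e0]; group
    · intro h _; simp
  have himg : Nat.card {w : X // ∃ g : X, ∃ c, c * y = y * c ∧ c ≠ 1 ∧ g * c * g⁻¹ = w} = (Dm.image f).card := by
    rw [Nat.card_eq_fintype_card, Fintype.card_subtype]
    congr 1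
    ext w
    simp only [Finset.mem_filter, Finset.mem_univ, true_and, Finset.mem_image, hDm, Finset.mem_product,
      Finset.mem_erase, hM, mem_centralizer_singleton_iff, hf]
    constructor
    · rintro ⟨g, c, h1, h2, h3⟩; exact ⟨(g, c), ⟨h2, h1⟩, h3⟩
    · rintro ⟨⟨g, c⟩, ⟨h2, h1⟩, h3⟩; exact ⟨g, c, h1, h2, h3⟩
  have := Finset.card_eq_sum_card_image f Dm
  rw [Finset.sum_congr rfl hfib, Finset.sum_const, smul_eq_mul] at this
  rw [himg, ← this, hDm, Finset.card_product, Finset.card_univ, Finset.card_erase_of_mem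
    (Finset.mem_filter.2 ⟨Finset.mem_univ _, one_mem _⟩), ← Fintype.card_subtype, ← Nat.card_eq_fintype_card,
    ← Nat.card_eq_fintype_card]

theorem same_class {y y' : X} (hy : RealOdd y) (hy' : RealOdd y') {p : ℕ} (hp : p.Prime)
    (h1 : p ∣ Nat.card (centralizer ({y} : Set X))) (h2 : p ∣ Nat.card (centralizer ({y'} : Set X))) :
    ∃ g, ∃ c, c * y = y * c ∧ c ≠ 1 ∧ g * c * g⁻¹ = y' := by
  haveI : Fact p.Prime := ⟨hp⟩
  obtain ⟨P⟩ : Nonempty (Sylow p X) := inferInstance
  obtain ⟨g, hg⟩ := C.hall hy hp h1 P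
  obtain ⟨g', hg'⟩ := C.hall hy' hp h2 P
  obtain ⟨w, hw⟩ := exists_prime_orderOf_dvd_card' (G := (P : Subgroup X)) p (by
    obtain ⟨e, he⟩ := IsPGroup.iff_card.1 P.2
    rcases e with _ | e
    · exfalso
      have hpx : p ∣ Nat.card X := h1.trans (card_subgroup_dvd_card _)
      have := P.dvd_card_of_dvd_card hpx
      rw [he, pow_zero] at this
      exact hp.one_lt.ne' (Nat.dvd_one.1 this)
    · rw [he]; exact dvd_pow_self p (by omega))
  have hw1 : (w : X) ≠ 1 := fun h => hp.ne_one (by rw [← hw, ← Subgroup.orderOf_coe, h, orderOf_one])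
  obtain ⟨-, c1⟩ := C.cent_eq hy (mem_centralizer_singleton_iff.1 (hg w w.2)) fun h => hw1 (conj_eq_one_iff.1 h)
  obtain ⟨-, c2⟩ := C.cent_eq hy' (mem_centralizer_singleton_iff.1 (hg' w w.2)) fun h => hw1 (conj_eq_one_iff.1 h)
  refine ⟨g' * g⁻¹, (g' * g⁻¹)⁻¹ * y' * (g' * g⁻¹), ?_, fun h => hy'.1 ?_, by group⟩
  · have : g'⁻¹ * y' * g' ∈ centralizer ({(w : X)} : Set X) := by
      rw [← conj_centralizer, c2]; exact mem_centralizer_singleton_iff.2 rfl
    have : g * (g'⁻¹ * y' * g') * g⁻¹ ∈ centralizer ({g * w * g⁻¹} : Set X) := by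
      rw [conj_centralizer]; simpa [mul_assoc] using this
    rw [c1, mem_centralizer_singleton_iff] at this
    rwa [show (g' * g⁻¹)⁻¹ * y' * (g' * g⁻¹) = g * (g'⁻¹ * y' * g') * g⁻¹ by group]
  · calc y' = g' * g⁻¹ * ((g' * g⁻¹)⁻¹ * y' * (g' * g⁻¹)) * (g' * g⁻¹)⁻¹ := by group
      _ = 1 := by rw [h]; group

theorem card_inverted :
    Nat.card {w : X // orderOf w = 2} = 123 + Nat.card {x : X // RealOdd x ∧ z * x * z⁻¹ = x⁻¹} := by
  classical
  haveI := Fintype.ofFinite X
  rw [← C.card_even_partners, ← Nat.card_congr (Equiv.sumCompl fun w : {w : X // orderOf w = 2} =>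
    ¬ (Odd (orderOf (z * (w : X))) ∧ z * (w : X) ≠ 1)), Nat.card_sum]
  have hzi : z⁻¹ = z := inv_eq_of_mul_eq_one_right C.z2
  congr 1
  · exact Nat.card_congr (Equiv.subtypeSubtypeEquivSubtypeInter (fun w : X => orderOf w = 2)
      fun w => ¬ (Odd (orderOf (z * w)) ∧ z * w ≠ 1))
  · refine Nat.card_congr
      { toFun := fun w => ⟨z * (w.1 : X), ?_⟩
        invFun := fun x => ⟨⟨z * (x : X), ?_⟩, ?_⟩
        left_inv := fun w => Subtype.ext (Subtype.ext (by show z * (z * _) = _; rw [← mul_assoc, C.z2, one_mul]))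
        right_inv := fun x => Subtype.ext (by show z * (z * (x : X)) = x; rw [← mul_assoc, C.z2, one_mul]) }
    · have hw := orderOf_two'.1 w.1.2
      obtain ⟨ho, hne⟩ := not_not.1 w.2
      have hinv : z * (z * (w.1 : X)) * z⁻¹ = (z * (w.1 : X))⁻¹ := by
        rw [mul_inv_rev, inv_eq_of_mul_eq_one_right hw.1, hzi,
          show z * (z * (w.1 : X)) * z = z * z * ((w.1 : X) * z) by group, C.z2, one_mul]
      exact ⟨⟨hne, ho, z, C.z_order, hinv⟩, hinv⟩
    · obtain ⟨⟨h1, hodd, -⟩, hx⟩ := x.2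
      refine orderOf_two'.2 ⟨?_, fun e => ?_⟩
      · rw [show z * (x : X) * (z * x) = z * x * z⁻¹ * (z * z) * x by group, hx, C.z2, mul_one, inv_mul_cancel]
      · rw [← inv_eq_of_mul_eq_one_right e, hzi, C.z_order] at hodd
        exact absurd hodd (by decide)
    · show ¬¬ (Odd (orderOf (z * (z * (x : X)))) ∧ z * (z * (x : X)) ≠ 1)
      rw [← mul_assoc, C.z2, one_mul, not_not]
      exact ⟨x.2.1.2.1, x.2.1.1⟩

theorem count_inverters :
    Nat.card {w : X // orderOf w = 2} * Nat.card {x : X // RealOdd x ∧ z * x * z⁻¹ = x⁻¹} =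
      Nat.card {p : X × X // orderOf p.1 = 2 ∧ RealOdd p.2 ∧ p.1 * p.2 * p.1⁻¹ = p.2⁻¹} := by
  classical
  haveI := Fintype.ofFinite X
  rw [← Nat.card_prod]
  choose g hg using fun w : {w : X // orderOf w = 2} => isConj_iff.1 (C.conj_all w.2)
  refine Nat.card_congr
    { toFun := fun p => ⟨((p.1 : X), g p.1 * (p.2 : X) * (g p.1)⁻¹), p.1.2, C.realOdd_conj p.2.2.1 _, ?_⟩
      invFun := fun p => (⟨p.1.1, p.2.1⟩,
        ⟨(g ⟨p.1.1, p.2.1⟩)⁻¹ * p.1.2 * (g ⟨p.1.1, p.2.1⟩)⁻¹⁻¹, C.realOdd_conj p.2.2.1 _, ?_⟩)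
      left_inv := fun p => Prod.ext rfl (Subtype.ext (by simp [mul_assoc]))
      right_inv := fun p => Subtype.ext (Prod.ext rfl (by simp [mul_assoc])) }
  · show (p.1 : X) * (g p.1 * (p.2 : X) * (g p.1)⁻¹) * (p.1 : X)⁻¹ = _
    rw [← hg p.1]
    calc g p.1 * z * (g p.1)⁻¹ * (g p.1 * (p.2 : X) * (g p.1)⁻¹) * (g p.1 * z * (g p.1)⁻¹)⁻¹
        = g p.1 * (z * (p.2 : X) * z⁻¹) * (g p.1)⁻¹ := by group
      _ = _ := by rw [p.2.2.2]; group
  · have e := p.2.2.2
    have hgp : g ⟨p.1.1, p.2.1⟩ * z * (g ⟨p.1.1, p.2.1⟩)⁻¹ = p.1.1 := hg ⟨p.1.1, p.2.1⟩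
    generalize g ⟨p.1.1, p.2.1⟩ = k at hgp ⊢
    calc z * (k⁻¹ * p.1.2 * k⁻¹⁻¹) * z⁻¹ = k⁻¹ * ((k * z * k⁻¹) * p.1.2 * (k * z * k⁻¹)⁻¹) * k := by group
      _ = _ := by rw [hgp, e]; group

theorem pairs_eq_sum [Fintype X] [DecidablePred fun x : X => RealOdd x] :
    Nat.card {p : X × X // orderOf p.1 = 2 ∧ RealOdd p.2 ∧ p.1 * p.2 * p.1⁻¹ = p.2⁻¹} =
      ∑ x ∈ Finset.univ.filter (fun x : X => RealOdd x), Nat.card (centralizer ({x} : Set X)) := by
  classical
  rw [Nat.card_eq_fintype_card, Fintype.card_subtype, Finset.card_eq_sum_card_fiberwise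
    (f := fun p : X × X => p.2) (t := Finset.univ.filter fun x : X => RealOdd x)
    (fun p hp => Finset.mem_filter.2 ⟨Finset.mem_univ _, (Finset.mem_filter.1 hp).2.2.1⟩)]
  refine Finset.sum_congr rfl fun x hx => ?_
  have hxR := (Finset.mem_filter.1 hx).2
  obtain ⟨h1, hodd, i, hi, hix⟩ := (Finset.mem_filter.1 hx).2
  have hii : i * i = 1 := (orderOf_two'.1 hi).1
  have hi' : i⁻¹ = i := inv_eq_of_mul_eq_one_right hii
  rw [Nat.card_eq_fintype_card, Fintype.card_subtype]
  refine Finset.card_bij' (fun p _ => i * p.1) (fun c _ => (i * c, x)) ?_ ?_ ?_ ?_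
  · intro p hp
    obtain ⟨hp', e⟩ := Finset.mem_filter.1 hp
    obtain ⟨-, -, -, hpx⟩ := Finset.mem_filter.1 hp'
    have e2 : p.2 = x := e
    rw [e2] at hpx
    refine Finset.mem_filter.2 ⟨Finset.mem_univ _, mem_centralizer_singleton_iff.2 (mul_inv_eq_iff_eq_mul.1 ?_)⟩
    calc i * p.1 * x * (i * p.1)⁻¹ = i * (p.1 * x * p.1⁻¹) * i⁻¹ := by group
      _ = (i * x * i⁻¹)⁻¹ := by rw [hpx]; group
      _ = x := by rw [hix, inv_inv]
  · intro c hc
    have hcx := mem_centralizer_singleton_iff.1 (Finset.mem_filter.1 hc).2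
    have hinv := C.inverts hodd h1 hi hix hcx
    have hne : i * c ≠ 1 := fun e => by
      have hci : c = i := by rw [← inv_eq_of_mul_eq_one_right e, hi']
      have h4 := C.order_cent hi (x := x) (by rw [← hci]; exact hcx.symm)
      have hcop : Nat.Coprime (orderOf x) (2 ^ 2) := Nat.Coprime.pow_right 2 (Nat.coprime_two_right.2 hodd)
      exact h1 (orderOf_eq_one_iff.1 (Nat.dvd_one.1 (hcop.dvd_of_dvd_mul_right (by simpa using h4))))
    refine Finset.mem_filter.2 ⟨Finset.mem_filter.2 ⟨Finset.mem_univ _, orderOf_two'.2 ⟨?_, hne⟩, hxR, ?_⟩, rfl⟩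
    · rw [hi'] at hinv
      rw [show i * c * (i * c) = i * c * i * c by group, hinv, inv_mul_cancel]
    · calc i * c * x * (i * c)⁻¹ = i * (c * x) * c⁻¹ * i⁻¹ := by group
        _ = x⁻¹ := by rw [hcx, show i * (x * c) * c⁻¹ * i⁻¹ = i * x * i⁻¹ by group, hix]
  · intro p hp
    obtain ⟨-, e⟩ := Finset.mem_filter.1 hp
    exact Prod.ext (by rw [← mul_assoc, hii, one_mul]) (show x = p.2 from e.symm)
  · intro c _; show i * (i * c) = c; rw [← mul_assoc, hii, one_mul]

theorem four_count [Fintype X] [DecidableEq X] :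
    12 * (Finset.univ.filter fun w : X => orderOf w = 2).card ≤
      (Finset.univ.filter fun x : X => orderOf (x * x) = 2).card := by
  classical
  set FA := Finset.univ.filter fun a => a ∈ A ∧ a ∉ B with hFA
  have cFA : FA.card = 12 := by
    have h1 : (Finset.univ.filter fun a => a ∈ A).card = 16 := by
      rw [← Fintype.card_subtype, ← Nat.card_eq_fintype_card]; exact C.cardA
    have h2 : (Finset.univ.filter fun a => a ∈ A ⊓ B).card = 4 := by
      rw [← Fintype.card_subtype, ← Nat.card_eq_fintype_card]; exact C.cardE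
    rw [show FA = (Finset.univ.filter fun a => a ∈ A) \ (Finset.univ.filter fun a => a ∈ A ⊓ B) by
      ext a; simp [hFA]; tauto, Finset.card_sdiff_of_subset (fun a ha => by simp at ha ⊢; exact ha.1), h1, h2]
  set F : X → Finset X := fun w => Finset.univ.filter fun x => x * x = w with hF
  have hz : 12 ≤ (F z).card := by
    set D := FA.biUnion fun a => (Finset.univ.filter fun j => orderOf j = 2 ∧ a * j * (a * j) = z).image
      fun j => (a, j) with hD
    have hc : D.card = 48 := by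
      rw [hD, Finset.card_biUnion, Finset.sum_congr rfl (fun a ha => (?_ : _ = 4)), Finset.sum_const, cFA]
      · rfl
      · rw [Finset.card_image_of_injective _ fun j j' h => (Prod.ext_iff.1 h).2, ← Fintype.card_subtype,
          ← Nat.card_eq_fintype_card]
        obtain ⟨h1, h2⟩ := (Finset.mem_filter.1 ha).2
        exact C.card_fibre h1 h2
      · intro a _ a' _ hne
        simp only [Function.onFun, Finset.disjoint_left, Finset.mem_image]
        rintro _ ⟨j, -, rfl⟩ ⟨j', -, e⟩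
        exact hne (Prod.ext_iff.1 e).1.symm
    have hmem : ∀ p ∈ D, p.1 ∈ A ∧ p.1 ∉ B ∧ p.2 ∈ B ∧ p.1 * p.2 * (p.1 * p.2) = z := by
      intro p hp
      obtain ⟨a, ha, hp'⟩ := Finset.mem_biUnion.1 hp
      obtain ⟨j, hj, rfl⟩ := Finset.mem_image.1 hp'
      obtain ⟨h1, h2⟩ := (Finset.mem_filter.1 ha).2
      obtain ⟨hj2, e⟩ := (Finset.mem_filter.1 hj).2
      have haj : a * j ∈ S := (mem_S_iff C).2 (by rw [← e]; group)
      have hjS : j ∈ S := by simpa using mul_mem (inv_mem (C.AS h1)) haj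
      refine ⟨h1, h2, (C.invol_mem hjS (orderOf_two'.1 hj2).1).resolve_left fun hjA => C.z1 ?_, e⟩
      rw [← e]; exact C.sqA _ (mul_mem h1 hjA)
    have hfib : ∀ x ∈ D.image (fun p => p.1 * p.2), (D.filter fun p => p.1 * p.2 = x).card ≤ 4 := by
      intro x hx
      obtain ⟨p₀, hp₀, rfl⟩ := Finset.mem_image.1 hx
      refine le_trans (Finset.card_le_card_of_injOn (fun p => p₀.1⁻¹ * p.1)
        (t := Finset.univ.filter fun a => a ∈ A ⊓ B) ?_ ?_) (le_of_eq ?_)
      · intro p hp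
        obtain ⟨hpD, e⟩ := Finset.mem_filter.1 hp
        refine Finset.mem_filter.2 ⟨Finset.mem_univ _, ?_⟩
        show p₀.1⁻¹ * p.1 ∈ A ⊓ B
        refine mem_inf.2 ⟨mul_mem (inv_mem (hmem p₀ hp₀).1) (hmem p hpD).1, ?_⟩
        rw [show p₀.1⁻¹ * p.1 = p₀.2 * p.2⁻¹ by
          calc p₀.1⁻¹ * p.1 = p₀.1⁻¹ * (p.1 * p.2) * p.2⁻¹ := by group
            _ = _ := by rw [e]; group]
        exact mul_mem (hmem p₀ hp₀).2.2.1 (inv_mem (hmem p hpD).2.2.1)
      · intro p hp p' hp' e
        have e1 : p.1 = p'.1 := mul_left_cancel e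
        have e2 : p.1 * p.2 = p'.1 * p'.2 := (Finset.mem_filter.1 hp).2.trans (Finset.mem_filter.1 hp').2.symm
        rw [e1] at e2
        exact Prod.ext e1 (mul_left_cancel e2)
      · rw [← Fintype.card_subtype, ← Nat.card_eq_fintype_card]; exact C.cardE
    have h := Finset.card_le_mul_card_image D 4 hfib
    have hsub : D.image (fun p => p.1 * p.2) ⊆ F z := fun x hx => by
      obtain ⟨p, hp, rfl⟩ := Finset.mem_image.1 hx
      exact Finset.mem_filter.2 ⟨Finset.mem_univ _, (hmem p hp).2.2.2⟩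
    have := Finset.card_le_card hsub
    omega
  have hall : ∀ w ∈ Finset.univ.filter (fun w : X => orderOf w = 2), 12 ≤ (F w).card := fun w hw => by
    obtain ⟨g, rfl⟩ := isConj_iff.1 (C.conj_all (Finset.mem_filter.1 hw).2)
    refine hz.trans (Finset.card_le_card_of_injOn (fun x => g * x * g⁻¹) ?_ fun x _ y _ e =>
      mul_left_cancel (mul_right_cancel e))
    intro x hx
    refine Finset.mem_filter.2 ⟨Finset.mem_univ _, ?_⟩
    rw [← (Finset.mem_filter.1 hx).2]; group
  rw [Finset.card_eq_sum_card_fiberwise (s := Finset.univ.filter fun x : X => orderOf (x * x) = 2)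
    (t := Finset.univ.filter fun w : X => orderOf w = 2) (f := fun x => x * x)
    (fun x hx => Finset.mem_filter.2 ⟨Finset.mem_univ _, (Finset.mem_filter.1 hx).2⟩), mul_comm, ← smul_eq_mul]
  refine Finset.card_nsmul_le_sum _ _ _ fun w hw => (hall w hw).trans (Finset.card_le_card fun x hx => ?_)
  have e := (Finset.mem_filter.1 hx).2
  refine Finset.mem_filter.2 ⟨Finset.mem_filter.2 ⟨Finset.mem_univ _, ?_⟩, e⟩
  rw [e]; exact (Finset.mem_filter.1 hw).2

/-- The order, and the real elements of odd order. -/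
theorem main_count : Nat.card X = 20160 ∧
    (∀ y : X, RealOdd y → Nat.card (centralizer ({y} : Set X)) = 5 ∧
        Nat.card (normalizer (centralizer ({y} : Set X) : Set X)) ≤ 20 ∨
      Nat.card (centralizer ({y} : Set X)) = 9) ∧
    (∃ y : X, RealOdd y ∧ Nat.card (centralizer ({y} : Set X)) = 5) ∧
    ∃ y : X, RealOdd y ∧ Nat.card (centralizer ({y} : Set X)) = 9 := by
  classical
  haveI := Fintype.ofFinite X
  set Re := Finset.univ.filter (fun x : X => RealOdd x) with hRe
  set m : X → ℕ := fun y => Nat.card (centralizer ({y} : Set X)) with hm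
  choose! k hk hkN hkd using fun y (hy : RealOdd y) => C.norm_m hy
  set cls : X → Finset X := fun y =>
    Finset.univ.filter fun w => ∃ g : X, ∃ c, c * y = y * c ∧ c ≠ 1 ∧ g * c * g⁻¹ = w with hcls
  have hmem : ∀ {y}, RealOdd y → y ∈ cls y := fun {y} hy =>
    Finset.mem_filter.2 ⟨Finset.mem_univ _, 1, y, rfl, hy.1, by group⟩
  have hsame : ∀ {y w}, RealOdd y → w ∈ cls y → RealOdd w ∧ m w = m y ∧ cls w = cls y := by
    intro y w hy hw
    obtain ⟨g, c, hc, hc1, rfl⟩ := (Finset.mem_filter.1 hw).2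
    obtain ⟨hcR, hcc⟩ := C.cent_eq hy hc hc1
    refine ⟨C.realOdd_conj hcR g, by simp only [hm]; rw [C.m_conj, hcc], ?_⟩
    have hiff : ∀ {d : X}, d * (g * c * g⁻¹) = (g * c * g⁻¹) * d ↔ g⁻¹ * d * g * y = y * (g⁻¹ * d * g) := fun {d} => by
      rw [← mem_centralizer_singleton_iff, conj_centralizer, hcc, mem_centralizer_singleton_iff]
    ext v
    simp only [hcls, Finset.mem_filter, Finset.mem_univ, true_and]
    constructor
    · rintro ⟨k, d, hd, hd1, rfl⟩
      refine ⟨k * g, g⁻¹ * d * g, hiff.1 hd, fun e => hd1 ?_, by group⟩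
      calc d = g * (g⁻¹ * d * g) * g⁻¹ := by group
        _ = 1 := by rw [e]; group
    · rintro ⟨k, d, hd, hd1, rfl⟩
      refine ⟨k * g⁻¹, g * d * g⁻¹, hiff.2 ?_, fun e => hd1 (conj_eq_one_iff.1 e), by group⟩
      rwa [show g⁻¹ * (g * d * g⁻¹) * g = d by group]
  have hrep : ∀ S' ∈ Re.image cls, ∃ y, RealOdd y ∧ cls y = S' := fun S' h => by
    obtain ⟨y, hy, e⟩ := Finset.mem_image.1 h
    exact ⟨y, (Finset.mem_filter.1 hy).2, e⟩
  choose! rep hrep1 hrep2 using hrep
  set T := (Re.image cls).image rep with hT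
  have hTR : ∀ {i}, i ∈ T → RealOdd i := fun {i} hi => by
    obtain ⟨S', h, rfl⟩ := Finset.mem_image.1 hi; exact hrep1 S' h
  have hTc : ∀ {i j}, i ∈ T → j ∈ T → cls i = cls j → i = j := fun {i j} hi hj e => by
    obtain ⟨a, ha, rfl⟩ := Finset.mem_image.1 hi
    obtain ⟨b, hb, rfl⟩ := Finset.mem_image.1 hj
    rw [hrep2 a ha, hrep2 b hb] at e
    rw [e]
  have hcover : ∀ {y}, RealOdd y → ∃ i ∈ T, cls i = cls y := fun {y} hy => by
    have h : cls y ∈ Re.image cls := Finset.mem_image_of_mem cls (Finset.mem_filter.2 ⟨Finset.mem_univ _, hy⟩)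
    exact ⟨rep (cls y), Finset.mem_image_of_mem rep h, hrep2 _ h⟩
  have hfibre : ∀ i ∈ T, Re.filter (fun y => cls y = cls i) = cls i := fun i hi => by
    ext w
    constructor
    · intro hw
      obtain ⟨hwR, e⟩ := Finset.mem_filter.1 hw
      rw [← e]; exact hmem (Finset.mem_filter.1 hwR).2
    · intro hw
      obtain ⟨hwR, -, e⟩ := hsame (hTR hi) hw
      exact Finset.mem_filter.2 ⟨Finset.mem_filter.2 ⟨Finset.mem_univ _, hwR⟩, e⟩
  set n := Nat.card {w : X // orderOf w = 2} with hn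
  have hX := C.card_X
  rw [← hn] at hX
  have hmodd : ∀ i ∈ T, Odd (m i) ∧ 3 ≤ m i := fun i hi => by
    obtain ⟨h1, hodd, -⟩ := hTR hi
    have ho := C.cent_odd hodd h1
    refine ⟨ho, ?_⟩
    rcases Nat.lt_or_ge (m i) 3 with hlt | h
    · exfalso
      have h1' : Nat.card (centralizer ({i} : Set X)) = 1 := by
        have hlt' : Nat.card (centralizer ({i} : Set X)) < 3 := hlt
        obtain ⟨q, hq⟩ := ho
        omega
      have := Subgroup.eq_bot_of_card_eq _ h1'
      exact h1 (Subgroup.mem_bot.1 (this ▸ mem_centralizer_singleton_iff.2 rfl))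
    · exact h
  have hdivn : ∀ i ∈ T, m i ∣ n := fun i hi => by
    have hd : m i ∣ n * 2 ^ 6 := by
      rw [show (2 : ℕ) ^ 6 = 64 by norm_num, hX]; exact card_subgroup_dvd_card _
    exact (Nat.Coprime.pow_right 6 (Nat.coprime_two_right.2 (hmodd i hi).1)).dvd_of_dvd_mul_right hd
  have hhall : ∀ i ∈ T, Nat.Coprime (m i) (n / m i) := fun i hi => by
    refine Nat.coprime_of_dvd fun p hp hp1 hp2 => ?_
    haveI : Fact p.Prime := ⟨hp⟩
    obtain ⟨P⟩ : Nonempty (Sylow p X) := inferInstance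
    obtain ⟨g, hg⟩ := C.hall (hTR hi) hp hp1 P
    have hle : (P : Subgroup X).map (MulAut.conj g).toMonoidHom ≤ centralizer ({i} : Set X) := by
      rintro _ ⟨w, hw, rfl⟩; exact hg w hw
    have hdvd := card_dvd_of_le hle
    rw [card_map_of_injective (MulEquiv.injective _), P.card_eq_multiplicity] at hdvd
    obtain ⟨q, hq⟩ := hp2
    have hX' : m i * p ∣ Nat.card X := by
      refine ⟨64 * q, ?_⟩
      rw [← hX, ← Nat.div_mul_cancel (hdivn i hi), hq]; ring
    have hX0 : Nat.card X ≠ 0 := Nat.card_pos.ne'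
    have h2 : p ^ ((Nat.card X).factorization p + 1) ∣ Nat.card X :=
      (by rw [pow_succ]; exact Nat.mul_dvd_mul_right hdvd p :
        p ^ ((Nat.card X).factorization p + 1) ∣ m i * p).trans hX'
    exact Nat.pow_succ_factorization_not_dvd hX0 hp h2
  have hco : ∀ i ∈ T, ∀ j ∈ T, i ≠ j → Nat.Coprime (m i) (m j) := fun i hi j hj hne => by
    refine Nat.coprime_of_dvd fun p hp hp1 hp2 => hne (hTc hi hj ?_)
    obtain ⟨g, c, h1, h2, h3⟩ := C.same_class (hTR hi) (hTR hj) hp hp1 hp2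
    exact (hsame (hTR hi) (Finset.mem_filter.2 ⟨Finset.mem_univ _, g, c, h1, h2, h3⟩)).2.2.symm
  have h15 : 15 ∣ n := by
    have h := card_subgroup_dvd_card (normalizer (A : Set X))
    rw [C.card_normA, ← hX] at h
    exact Nat.dvd_of_mul_dvd_mul_right (show 0 < 64 by norm_num) (by norm_num; exact h)
  have hclsc : ∀ i ∈ T, (cls i).card * m i = n * (64 / k i) * (m i - 1) := fun i hi => by
    have h := C.card_class (hTR hi)
    rw [hkN i (hTR hi), Nat.card_eq_fintype_card, Fintype.card_subtype, ← hX] at h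
    have h64 : 64 / k i * k i = 64 := by rcases hk i (hTR hi) with e | e | e <;> rw [e]
    refine Nat.eq_of_mul_eq_mul_right (show 0 < k i by rcases hk i (hTR hi) with e | e | e <;> rw [e] <;> norm_num) ?_
    calc (cls i).card * m i * k i = (cls i).card * (m i * k i) := by ring
      _ = n * 64 * (m i - 1) := h
      _ = n * (64 / k i) * (m i - 1) * k i := by conv_lhs => rw [← h64]
                                                 ring
  have himgT : Re.image cls = T.image cls := by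
    ext S'
    constructor
    · intro h
      exact Finset.mem_image.2 ⟨rep S', Finset.mem_image_of_mem rep h, hrep2 S' h⟩
    · intro h
      obtain ⟨i, hi, rfl⟩ := Finset.mem_image.1 h
      exact Finset.mem_image_of_mem cls (Finset.mem_filter.2 ⟨Finset.mem_univ _, hTR hi⟩)
  have hsumRe : ∀ f : X → ℕ, ∑ y ∈ Re, f y = ∑ i ∈ T, ∑ y ∈ cls i, f y := fun f => by
    rw [← Finset.sum_fiberwise_of_maps_to (g := cls) (t := Re.image cls) (fun y hy => Finset.mem_image_of_mem cls hy),
      himgT, Finset.sum_image (fun i hi j hj e => hTc hi hj e)]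
    exact Finset.sum_congr rfl fun i hi => by rw [hfibre i hi]
  have hcI : Nat.card {x : X // RealOdd x ∧ z * x * z⁻¹ = x⁻¹} = ∑ i ∈ T, 64 / k i * (m i - 1) := by
    have h := C.count_inverters.trans C.pairs_eq_sum
    rw [← hn, ← hRe, hsumRe] at h
    refine Nat.eq_of_mul_eq_mul_left (show 0 < n by
      rw [hn]; exact Nat.card_pos_iff.2 ⟨⟨⟨z, C.z_order⟩⟩, inferInstance⟩) (h.trans ?_)
    rw [Finset.mul_sum]
    refine Finset.sum_congr rfl fun i hi => ?_
    rw [Finset.sum_congr rfl fun y hy => (hsame (hTR hi) hy).2.1, Finset.sum_const, smul_eq_mul, hclsc i hi, mul_assoc]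
  have hsum : n = 123 + ∑ i ∈ T, 64 / k i * (m i - 1) := by rw [← hcI]; exact C.card_inverted
  have hRs : 1 + 13 * n + ∑ i ∈ T, (cls i).card ≤ 64 * n := by
    have hRec : Re.card = ∑ i ∈ T, (cls i).card := by
      rw [Finset.card_eq_sum_ones, hsumRe]; simp
    have h4 := C.four_count
    have hI : (Finset.univ.filter fun w : X => orderOf w = 2).card = n := by
      rw [hn, Nat.card_eq_fintype_card, Fintype.card_subtype]
    rw [hI] at h4
    set I2 := Finset.univ.filter fun w : X => orderOf w = 2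
    set F4 := Finset.univ.filter fun x : X => orderOf (x * x) = 2
    have hd1 : Disjoint I2 F4 := by
      rw [Finset.disjoint_left]
      intro x h1 h2
      rw [Finset.mem_filter, (orderOf_two'.1 (Finset.mem_filter.1 h1).2).1, orderOf_one] at h2
      exact absurd h2.2 (by norm_num)
    have hd2 : Disjoint (I2 ∪ F4) Re := by
      rw [Finset.disjoint_left]
      intro x h1 h2
      have hodd := (Finset.mem_filter.1 h2).2.2.1
      rcases Finset.mem_union.1 h1 with h | h
      · rw [(Finset.mem_filter.1 h).2] at hodd; exact absurd hodd (by decide)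
      · have hd := orderOf_pow_dvd (x := x) 2
        rw [pow_two, (Finset.mem_filter.1 h).2] at hd
        exact (Nat.not_even_iff_odd.2 hodd) (even_iff_two_dvd.2 hd)
    have h1 : (1 : X) ∉ I2 ∪ F4 ∪ Re := fun h => by
      rcases Finset.mem_union.1 h with h | h
      · rcases Finset.mem_union.1 h with h | h <;> simp [I2, F4] at h
      · exact (Finset.mem_filter.1 h).2.1 rfl
    have := Finset.card_le_univ (insert (1 : X) (I2 ∪ F4 ∪ Re))
    rw [Finset.card_insert_of_notMem h1, Finset.card_union_of_disjoint hd2, Finset.card_union_of_disjoint hd1,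
      ← Nat.card_eq_fintype_card, ← hX, hI, hRec] at this
    omega
  obtain ⟨hn315, htypes⟩ := CitArith.solve T m k (fun i => (cls i).card) n hmodd (fun i hi => hk i (hTR hi))
    (fun i hi => hkd i (hTR hi)) hdivn hhall hco h15 hsum hclsc hRs (by
      obtain ⟨y, hy, h35⟩ := C.exists_real35
      obtain ⟨i, hi, e⟩ := hcover hy
      refine ⟨i, hi, ?_⟩
      have hd : orderOf y ∣ m y := orderOf_dvd_natCard _ (mem_centralizer_singleton_iff.2 rfl)
      rw [(hsame (hTR hi) (e ▸ hmem hy)).2.1] at hd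
      exact h35.imp (·.trans hd) (·.trans hd))
  have hno : ∀ c : ℕ, c % 2 = 1 → 3 ≤ c → (∀ q : ℕ, q = 2 ∨ q = 4 ∨ q = 8 → 64 / q * (c - 1) ≠ 192) →
      ¬ ∀ i ∈ T, m i = c := by
    intro c _ h3 hq hall
    have h1 : T.card ≤ 1 := Finset.card_le_one.2 fun i hi j hj => by
      by_contra hne
      have := hco i hi j hj hne
      rw [hall i hi, hall j hj, Nat.coprime_self] at this
      omega
    rcases Nat.eq_zero_or_pos T.card with h | h
    · rw [Finset.card_eq_zero.1 h] at hsum; simp at hsum; omega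
    · obtain ⟨i, hT1⟩ := Finset.card_eq_one.1 (le_antisymm h1 h)
      have hi : i ∈ T := hT1 ▸ Finset.mem_singleton_self i
      rw [hT1, Finset.sum_singleton, hall i hi] at hsum
      exact hq (k i) (hk i (hTR hi)) (by omega)
  refine ⟨by rw [← hX, hn315], fun y hy => ?_, ?_, ?_⟩
  · obtain ⟨i, hi, e⟩ := hcover hy
    have hym := (hsame (hTR hi) (e ▸ hmem hy)).2.1
    rcases htypes i hi with ⟨h5, hk4⟩ | h9
    · left
      refine ⟨hym.trans h5, ?_⟩
      obtain ⟨g, c, hc, hc1, rfl⟩ := (Finset.mem_filter.1 (e ▸ hmem hy : y ∈ cls i)).2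
      have hcc := (C.cent_eq (hTR hi) hc hc1).2
      have e1 : Nat.card (normalizer (centralizer ({g * c * g⁻¹} : Set X) : Set X)) =
          Nat.card (normalizer (centralizer ({i} : Set X) : Set X)) := by
        refine Nat.card_congr (Equiv.subtypeEquiv (MulAut.conj g⁻¹).toEquiv fun w => ?_)
        show _ ↔ g⁻¹ * w * g⁻¹⁻¹ ∈ _
        rw [← hcc]
        simp only [mem_normalizer_iff, conj_centralizer]
        constructor
        · intro h x
          have := h (g * x * g⁻¹)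
          simpa [mul_assoc] using this
        · intro h x
          have := h (g⁻¹ * x * g⁻¹⁻¹)
          simpa [mul_assoc] using this
      rw [e1, hkN i (hTR hi), show Nat.card (centralizer ({i} : Set X)) = 5 from h5]
      omega
    · exact .inr (hym.trans h9)
  · by_contra hne
    push Not at hne
    exact hno 9 (by norm_num) (by norm_num) (by rintro q (rfl | rfl | rfl) <;> norm_num) fun i hi =>
      (htypes i hi).resolve_left fun h => hne i (hTR hi) h.1
  · by_contra hne
    push Not at hne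
    exact hno 5 (by norm_num) (by norm_num) (by rintro q (rfl | rfl | rfl) <;> norm_num) fun i hi =>
      ((htypes i hi).resolve_right fun h => hne i (hTR hi) h).1

/-- Elements of order 3 or 5 are real. -/
theorem real_of_prime {p : ℕ} (hp : p = 3 ∨ p = 5) {y : X} (hy : orderOf y = p) : RealOdd y := by
  haveI : Fact p.Prime := ⟨by rcases hp with rfl | rfl <;> norm_num⟩
  obtain ⟨-, -, ⟨a, ha, ha5⟩, b, hb, hb9⟩ := C.main_count
  obtain ⟨c, hc, hcd⟩ : ∃ c, RealOdd c ∧ p ∣ Nat.card (centralizer ({c} : Set X)) := by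
    rcases hp with rfl | rfl
    · exact ⟨b, hb, by rw [hb9]; norm_num⟩
    · exact ⟨a, ha, by rw [ha5]⟩
  obtain ⟨P, hP⟩ := (IsPGroup.of_card (p := p) (G := zpowers y) (n := 1) (by
    rw [Nat.card_zpowers, hy, pow_one])).exists_le_sylow
  obtain ⟨g, hg⟩ := C.hall hc (Fact.out) hcd P
  have hy1 : y ≠ 1 := fun h => by rw [h, orderOf_one] at hy; rcases hp with rfl | rfl <;> omega
  have := (C.cent_eq hc (mem_centralizer_singleton_iff.1 (hg y (hP (mem_zpowers y))))
    fun h => hy1 (conj_eq_one_iff.1 h)).1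
  have h2 := C.realOdd_conj this g⁻¹
  rwa [show g⁻¹ * (g * y * g⁻¹) * g⁻¹⁻¹ = y by group] at h2

theorem cent_five {y : X} (hy : orderOf y = 5) :
    centralizer ({y} : Set X) = zpowers y ∧ Nat.card (normalizer (centralizer ({y} : Set X) : Set X)) ≤ 20 := by
  have hyR := C.real_of_prime (.inr rfl) hy
  rcases C.main_count.2.1 y hyR with ⟨h5, hN⟩ | h9
  · refine ⟨(eq_of_le_of_card_ge (zpowers_le.2 (mem_centralizer_singleton_iff.2 rfl)) ?_).symm, hN⟩
    rw [h5, Nat.card_zpowers, hy]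
  · have := orderOf_dvd_natCard _ (mem_centralizer_singleton_iff.2 rfl : y ∈ centralizer ({y} : Set X))
    rw [hy, h9] at this
    norm_num at this

theorem not_real_seven {b : X} (hb : orderOf b = 7) : ¬ RealOdd b := fun h => by
  have := orderOf_dvd_natCard _ (mem_centralizer_singleton_iff.2 rfl : b ∈ centralizer ({b} : Set X))
  rw [hb] at this
  rcases C.main_count.2.1 b h with ⟨e, -⟩ | e <;> rw [e] at this <;> norm_num at this

theorem cent_seven {b : X} (hb : orderOf b = 7) :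
    centralizer ({b} : Set X) = zpowers b ∧ Nat.card (normalizer (zpowers b : Set X)) = 21 := by
  classical
  haveI : Fact (Nat.Prime 7) := ⟨by norm_num⟩
  haveI : Fact (Nat.Prime 2) := ⟨Nat.prime_two⟩
  haveI := Fintype.ofFinite X
  obtain ⟨hX, hall, -, -⟩ := C.main_count
  have hb1 : b ≠ 1 := fun h => by rw [h, orderOf_one] at hb; omega
  have hbodd : Odd (orderOf b) := by rw [hb]; decide
  set M := centralizer ({b} : Set X) with hM
  have hodd : Odd (Nat.card M) := C.cent_odd hbodd hb1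
  have hprime : ∀ p : ℕ, p.Prime → p ∣ Nat.card M → p = 7 := by
    intro p hp hd
    haveI : Fact p.Prime := ⟨hp⟩
    have hpX : p ∣ 20160 := hX ▸ hd.trans (card_subgroup_dvd_card M)
    have hp' : p = 2 ∨ p = 3 ∨ p = 5 ∨ p = 7 := by
      rw [show 20160 = 2 ^ 6 * (3 ^ 2 * (5 * 7)) by norm_num] at hpX
      rcases hp.dvd_mul.1 hpX with h | h
      · exact .inl ((Nat.prime_dvd_prime_iff_eq hp Nat.prime_two).1 (hp.dvd_of_dvd_pow h))
      rcases hp.dvd_mul.1 h with h | h
      · exact .inr (.inl ((Nat.prime_dvd_prime_iff_eq hp Nat.prime_three).1 (hp.dvd_of_dvd_pow h)))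
      rcases hp.dvd_mul.1 h with h | h
      · exact .inr (.inr (.inl ((Nat.prime_dvd_prime_iff_eq hp Nat.prime_five).1 h)))
      · exact .inr (.inr (.inr ((Nat.prime_dvd_prime_iff_eq hp (by norm_num)).1 h)))
    rcases hp' with rfl | h35 | h35 | rfl
    · have := hodd.of_dvd_nat hd
      exact absurd this (by decide)
    rotate_right
    · rfl
    all_goals
      exfalso
      obtain ⟨y, hy⟩ := exists_prime_orderOf_dvd_card' (G := M) p hd
      have hyo : orderOf (y : X) = p := by rw [Subgroup.orderOf_coe, hy]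
      have hyR := C.real_of_prime (by omega) hyo
      have hby : b ∈ centralizer ({(y : X)} : Set X) :=
        mem_centralizer_singleton_iff.2 (mem_centralizer_singleton_iff.1 y.2).symm
      have := orderOf_dvd_natCard _ hby
      rw [hb] at this
      rcases hall _ hyR with ⟨e, -⟩ | e <;> rw [e] at this <;> norm_num at this
  have h7M : 7 ∣ Nat.card M := hb ▸ orderOf_dvd_natCard M (mem_centralizer_singleton_iff.2 rfl)
  have hM7 : Nat.card M = 7 := by
    have hpow := Nat.eq_prime_pow_of_unique_prime_dvd Nat.card_pos.ne' (fun {d} hd hdvd => hprime d hd hdvd)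
    generalize (Nat.card M).primeFactorsList.length = j at hpow
    have hd : 7 ^ j ∣ 20160 := by
      have := card_subgroup_dvd_card M
      rw [hpow, hX] at this
      exact this
    rcases j with _ | _ | j
    · rw [hpow] at h7M; norm_num at h7M
    · rw [hpow]; norm_num
    · have := (pow_dvd_pow 7 (show 2 ≤ j + 2 by omega)).trans hd
      norm_num at this
  have hBM : zpowers b ≤ M := zpowers_le.2 (mem_centralizer_singleton_iff.2 rfl)
  have hMB : M = zpowers b := (eq_of_le_of_card_ge hBM (by rw [hM7, Nat.card_zpowers, hb])).symm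
  refine ⟨hMB, ?_⟩
  let P : Sylow 7 X := Sylow.ofCard (zpowers b) (by
    rw [Nat.card_zpowers, hb, hX]
    have h1 : 7 ^ 1 ∣ 20160 := by norm_num
    have h2 : ¬ 7 ^ 2 ∣ 20160 := by norm_num
    have e1 := (Nat.Prime.pow_dvd_iff_le_factorization (show Nat.Prime 7 by norm_num)
      (show 20160 ≠ 0 by norm_num)).1 h1
    have e2 := mt (Nat.Prime.pow_dvd_iff_le_factorization (show Nat.Prime 7 by norm_num)
      (show 20160 ≠ 0 by norm_num)).2 h2
    rw [show Nat.factorization 20160 7 = 1 by omega, pow_one])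
  set N := normalizer (zpowers b : Set X) with hN
  have hmod : Nat.card (Sylow 7 X) ≡ 1 [MOD 7] := card_sylow_modEq_one 7 X
  rw [P.card_eq_index_normalizer] at hmod
  have hidx := card_mul_index N
  rw [hX] at hidx
  have hN42 : Nat.card N ∣ 42 := by
    have hker : (zpowers b).normalizerMonoidHom.ker = (centralizer (zpowers b : Set X)).subgroupOf N :=
      Subgroup.normalizerMonoidHom_ker _
    have h := card_mul_index ((zpowers b).normalizerMonoidHom.ker)
    rw [index_ker] at h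
    have hr : Nat.card (zpowers b).normalizerMonoidHom.range ∣ 6 := by
      refine (card_subgroup_dvd_card _).trans (dvd_of_eq ?_)
      haveI : IsCyclic (zpowers b) := inferInstance
      rw [IsCyclic.card_mulAut, Nat.card_zpowers, hb]
      exact Nat.totient_prime (by norm_num)
    have hk7 : Nat.card (zpowers b).normalizerMonoidHom.ker = 7 := by
      have hcz : centralizer (zpowers b : Set X) = M := by
        rw [zpowers_eq_closure, centralizer_closure]
      rw [hker, Nat.card_congr (subgroupOfEquivOfLe ?_).toEquiv, hcz, hM7]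
      rw [hcz, hMB]
      exact le_normalizer
    rw [hk7] at h
    rw [← h]
    exact Nat.mul_dvd_mul_left 7 hr
  have hNodd : Odd (Nat.card N) := by
    by_contra he
    obtain ⟨w, hw⟩ := exists_prime_orderOf_dvd_card' (G := N) 2 (even_iff_two_dvd.1 (Nat.not_odd_iff_even.1 he))
    have hwX : orderOf (w : X) = 2 := by rw [Subgroup.orderOf_coe, hw]
    obtain ⟨i, hi⟩ := mem_zpowers_iff.1 ((mem_normalizer_iff.1 w.2 b).1 (mem_zpowers b))
    have hww := (orderOf_two'.1 hwX).1
    have hsq : b ^ (i * i) = b := by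
      rw [zpow_mul, hi, conj_zpow, hi]
      calc (w : X) * ((w : X) * b * (w : X)⁻¹) * (w : X)⁻¹ = ((w : X) * (w : X)) * b * ((w : X) * (w : X))⁻¹ := by group
        _ = b := by rw [hww]; group
    have hd : (7 : ℤ) ∣ (i - 1) * (i + 1) := by
      rw [show (7 : ℤ) = (orderOf b : ℤ) by rw [hb]; rfl, orderOf_dvd_iff_zpow_eq_one,
        show (i - 1) * (i + 1) = i * i - 1 by ring, zpow_sub, hsq, zpow_one, mul_inv_cancel]
    rcases (Int.prime_iff_natAbs_prime.2 (by norm_num : Nat.Prime (7 : ℤ).natAbs)).dvd_or_dvd hd with h | h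
    · have e : b ^ (i - 1) = 1 := orderOf_dvd_iff_zpow_eq_one.1 (by rwa [hb])
      rw [zpow_sub, zpow_one, mul_inv_eq_one] at e
      rw [e] at hi
      have hwM : (w : X) ∈ M := mem_centralizer_singleton_iff.2 (mul_inv_eq_iff_eq_mul.1 hi.symm)
      have := orderOf_dvd_natCard M hwM
      rw [hwX, hM7] at this
      norm_num at this
    · have e : b ^ (i + 1) = 1 := orderOf_dvd_iff_zpow_eq_one.1 (by rwa [hb])
      rw [zpow_add, zpow_one] at e
      exact C.not_real_seven hb ⟨hb1, hbodd, (w : X), hwX, by rw [← hi]; exact eq_inv_of_mul_eq_one_left e⟩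
  have hN7 : 7 ∣ Nat.card N := by
    have := card_dvd_of_le (le_normalizer : zpowers b ≤ N)
    rwa [Nat.card_zpowers, hb] at this
  obtain ⟨j, hj⟩ := hN7
  rw [hj] at hN42 hidx hNodd
  have hj6 : j ∣ 6 := Nat.dvd_of_mul_dvd_mul_left (by norm_num) hN42
  have hj_le : j ≤ 6 := Nat.le_of_dvd (by norm_num) hj6
  have hjo : Odd j := Nat.Odd.of_mul_right hNodd
  have hj3 : j = 1 ∨ j = 3 := by
    interval_cases j
    all_goals first | exact .inl rfl | exact .inr rfl | exact absurd hjo (by decide) | exact absurd hj6 (by decide)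
  rcases hj3 with rfl | rfl
  · exfalso
    have : N.index = 2880 := by omega
    change N.index ≡ 1 [MOD 7] at hmod
    rw [this] at hmod
    exact absurd hmod (by decide)
  · exact hj

/-- An automorphism of order two exchanging `A` and `B` fixes no element of order 5 or 7. -/
theorem no_fixed {σ : X ≃* X} (hσ : ∀ x, σ (σ x) = x) (hz : σ z = z) (hAB : ∀ a ∈ A, σ a ∈ B)
    (hBA : ∀ b ∈ B, σ b ∈ A) (hE : ∀ e ∈ A ⊓ B, σ e = e → e = 1 ∨ e = z) {x : X} (hx : σ x = x) :
    orderOf x ≠ 5 ∧ orderOf x ≠ 7 := by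
  classical
  haveI : Fact (Nat.Prime 2) := ⟨Nat.prime_two⟩
  haveI := Fintype.ofFinite X
  suffices H : ¬ (orderOf x = 5 ∨ orderOf x = 7) from ⟨fun h => H (.inl h), fun h => H (.inr h)⟩
  intro hord
  let Y : Subgroup X := σ.toMonoidHom.eqLocus (MonoidHom.id X)
  have hY : ∀ {w}, w ∈ Y ↔ σ w = w := Iff.rfl
  have hzY : z ∈ Y := hz
  have hEm : ∀ e ∈ A ⊓ B, σ e ∈ A ⊓ B := fun e he => ⟨hBA e he.2, hAB e he.1⟩
  have huniq : ∀ w ∈ S ⊓ Y, w * w = 1 → w ≠ 1 → w = z := fun w hw h2 h1 => by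
    have hwY : σ w = w := hw.2
    rcases C.invol_mem hw.1 h2 with h | h
    · exact (hE w ⟨h, hwY ▸ hAB w h⟩ hwY).resolve_left h1
    · exact (hE w ⟨hwY ▸ hBA w h, h⟩ hwY).resolve_left h1
  -- the moved element of the centre
  obtain ⟨t, htE, htm⟩ : ∃ t ∈ A ⊓ B, σ t = z * t := by
    obtain ⟨t, htE, ht1, htz⟩ : ∃ t ∈ A ⊓ B, t ≠ 1 ∧ t ≠ z := by
      by_contra h
      push Not at h
      have hsub : ((A ⊓ B : Subgroup X) : Set X) ⊆ {1, z} := fun e he => by
        by_cases h1 : e = 1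
        · exact .inl h1
        · exact .inr (h e he h1)
      have := Nat.card_mono (Set.toFinite _) hsub
      rw [SetLike.coe_sort_coe, C.cardE, Nat.card_coe_set_eq, Set.ncard_pair C.z1.symm] at this
      omega
    have hzE : z ∈ A ⊓ B := ⟨C.zA, C.zB⟩
    have a3 : z * t ≠ 1 := fun h => htz (by rw [← inv_eq_of_mul_eq_one_right h, inv_eq_of_mul_eq_one_right C.z2])
    have hsub : (({1, z, t, z * t} : Finset X) : Set X) ⊆ ((A ⊓ B : Subgroup X) : Set X) := by
      intro e he
      simp only [Finset.coe_insert, Finset.coe_singleton, Set.mem_insert_iff, Set.mem_singleton_iff] at he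
      rcases he with rfl | rfl | rfl | rfl
      exacts [one_mem _, hzE, htE, mul_mem hzE htE]
    have hcard : ({1, z, t, z * t} : Finset X).card = 4 := by
      have b1 : z ≠ z * t := fun h => ht1 (mul_eq_left.1 h.symm)
      have b2 : t ≠ z * t := fun h => C.z1 (mul_eq_right.1 h.symm)
      simp [C.z1.symm, ht1.symm, a3.symm, htz.symm, b1, b2]
    have heq := Set.eq_of_subset_of_ncard_le hsub (by
      rw [Set.ncard_coe_finset, hcard, ← Nat.card_coe_set_eq, SetLike.coe_sort_coe, C.cardE])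
    refine ⟨t, htE, ?_⟩
    have hmem : σ t ∈ (({1, z, t, z * t} : Finset X) : Set X) := heq.symm ▸ hEm t htE
    simp only [Finset.coe_insert, Finset.coe_singleton, Set.mem_insert_iff, Set.mem_singleton_iff] at hmem
    rcases hmem with h | h | h | h
    · exact absurd (σ.map_eq_one_iff.1 h) ht1
    · exact absurd (σ.injective (h.trans hz.symm)) htz
    · exact ((hE t htE h).elim ht1 htz).elim
    · exact h
  have hfix : ∀ a ∈ A, ∃ w ∈ S ⊓ Y, a⁻¹ * w ∈ B := by
    intro a ha
    have hb := hAB a ha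
    set c := a * σ a * a⁻¹ * (σ a)⁻¹ with hc
    have hcE : c ∈ A ⊓ B := C.comm a ha _ hb
    have hx : σ (a * σ a) = c⁻¹ * (a * σ a) := by rw [map_mul, hσ, hc]; group
    have hcc : σ c = c := by
      rw [hc, map_mul, map_mul, map_mul, map_inv, map_inv, hσ,
        show σ a * a * (σ a)⁻¹ * a⁻¹ = (a * σ a * a⁻¹ * (σ a)⁻¹)⁻¹ by group, ← hc]
      exact inv_eq_of_mul_eq_one_right (C.sqA _ hcE.1)
    rcases hE c hcE hcc with h | h
    · refine ⟨a * σ a, mem_inf.2 ⟨mul_mem (C.AS ha) (C.BS hb), ?_⟩, by rwa [inv_mul_cancel_left]⟩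
      rw [h, inv_one, one_mul] at hx; exact hx
    · refine ⟨a * σ a * t, mem_inf.2 ⟨mul_mem (mul_mem (C.AS ha) (C.BS hb)) (C.AS htE.1), ?_⟩, ?_⟩
      · show σ (a * σ a * t) = a * σ a * t
        rw [map_mul σ (a * σ a) t, hx, htm, h, inv_eq_of_mul_eq_one_right C.z2]
        calc z * (a * σ a) * (z * t) = z * ((a * σ a) * z) * t := by group
          _ = a * σ a * t := by
            rw [C.E_central ⟨C.zA, C.zB⟩ (mul_mem (C.AS ha) (C.BS hb)), ← mul_assoc z, C.z2, one_mul]
      · rw [mul_assoc a, inv_mul_cancel_left]; exact mul_mem hb htE.2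
  choose! f hf hfB using hfix
  set SY := Finset.univ.filter fun w => w ∈ S ⊓ Y with hSY
  have h8 : 8 ≤ SY.card := by
    set D := (Finset.univ.filter fun a => a ∈ A) ×ˢ ({1, z} : Finset X) with hD
    have hDc : D.card = 32 := by
      rw [hD, Finset.card_product, ← Fintype.card_subtype, ← Nat.card_eq_fintype_card, Finset.card_pair C.z1.symm,
        show Nat.card {a // a ∈ A} = 16 from C.cardA]
    have hzz : ∀ {a}, a ∈ ({1, z} : Finset X) → a ∈ S ⊓ Y ∧ a ∈ B := fun {a} ha => by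
      rcases Finset.mem_insert.1 ha with rfl | ha
      · exact ⟨one_mem _, one_mem _⟩
      · rw [Finset.mem_singleton] at ha; rw [ha]; exact ⟨⟨C.AS C.zA, hzY⟩, C.zB⟩
    have hfib : ∀ w ∈ D.image (fun p => f p.1 * p.2), (D.filter fun p => f p.1 * p.2 = w).card ≤ 4 := by
      intro w hw
      obtain ⟨p₀, hp₀, rfl⟩ := Finset.mem_image.1 hw
      have hp₀A := (Finset.mem_filter.1 (Finset.mem_product.1 hp₀).1).2
      refine le_trans (Finset.card_le_card_of_injOn (fun p => p₀.1⁻¹ * p.1)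
        (t := Finset.univ.filter fun a => a ∈ A ⊓ B) ?_ ?_) (le_of_eq ?_)
      · intro p hp
        obtain ⟨hpD, e⟩ := Finset.mem_filter.1 hp
        have hpA := (Finset.mem_filter.1 (Finset.mem_product.1 hpD).1).2
        refine Finset.mem_filter.2 ⟨Finset.mem_univ _, ?_⟩
        show p₀.1⁻¹ * p.1 ∈ A ⊓ B
        refine mem_inf.2 ⟨mul_mem (inv_mem hp₀A) hpA, ?_⟩
        have e' : f p.1 * p.2 = f p₀.1 * p₀.2 := e
        rw [show p₀.1⁻¹ * p.1 = (p₀.1⁻¹ * f p₀.1) * (p₀.2 * p.2⁻¹) * (p.1⁻¹ * f p.1)⁻¹ by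
          calc p₀.1⁻¹ * p.1 = p₀.1⁻¹ * (f p.1 * p.2) * p.2⁻¹ * (p.1⁻¹ * f p.1)⁻¹ := by group
            _ = _ := by rw [e']; group]
        exact mul_mem (mul_mem (hfB _ hp₀A) (mul_mem (hzz (Finset.mem_product.1 hp₀).2).2
          (inv_mem (hzz (Finset.mem_product.1 hpD).2).2))) (inv_mem (hfB _ hpA))
      · intro p hp p' hp' e
        have e1 : p.1 = p'.1 := mul_left_cancel e
        have e2 : f p.1 * p.2 = f p'.1 * p'.2 := (Finset.mem_filter.1 hp).2.trans (Finset.mem_filter.1 hp').2.symm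
        rw [e1] at e2
        exact Prod.ext e1 (mul_left_cancel e2)
      · rw [← Fintype.card_subtype, ← Nat.card_eq_fintype_card]; exact C.cardE
    have h := Finset.card_le_mul_card_image D 4 hfib
    have := Finset.card_le_card (s := D.image fun p => f p.1 * p.2) (t := SY) (fun w hw => by
      obtain ⟨p, hp, rfl⟩ := Finset.mem_image.1 hw
      exact Finset.mem_filter.2 ⟨Finset.mem_univ _, mul_mem (hf _ (Finset.mem_filter.1 (Finset.mem_product.1 hp).1).2)
        (hzz (Finset.mem_product.1 hp).2).1⟩)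
    omega
  have hSYc : 8 ≤ Nat.card ↥(S ⊓ Y) := by
    rw [Nat.card_eq_fintype_card, Fintype.card_subtype]; exact h8
  -- `z` is isolated
  have hiso : Cfsg.IsIsolatedInvolution (⟨z, hzY⟩ : Y) := by
    refine ⟨by rw [Subgroup.orderOf_mk]; exact C.z_order, fun g hc => Subtype.ext ?_⟩
    refine huniq _ ⟨(mem_S_iff C).2 (congrArg Subtype.val hc.eq).symm, (g * ⟨z, hzY⟩ * g⁻¹).2⟩ ?_ fun h => C.z1 ?_
    · show (g : X) * z * (g : X)⁻¹ * ((g : X) * z * (g : X)⁻¹) = 1
      rw [show (g : X) * z * (g : X)⁻¹ * ((g : X) * z * (g : X)⁻¹) = (g : X) * (z * z) * (g : X)⁻¹ by group, C.z2,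
        mul_one, mul_inv_cancel]
    · exact conj_eq_one_iff.1 h
  haveI hOn : (Cfsg.oddCore Y).Normal := by
    have := CfsgLib.Cores.pPrimeCore_characteristic (G := Y) 2
    infer_instance
  set O := (Cfsg.oddCore Y).map Y.subtype with hO
  have hOodd : Odd (Nat.card O) := by
    rw [hO, card_map_of_injective Y.subtype_injective]; exact CfsgLib.Cores.odd_card_oddCore
  have hOconj : ∀ g ∈ Y, ∀ o ∈ O, g * o * g⁻¹ ∈ O := by
    rintro g hg _ ⟨o, ho, rfl⟩
    exact ⟨⟨g, hg⟩ * o * ⟨g, hg⟩⁻¹, hOn.conj_mem o ho _, rfl⟩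
  have hxY : x ∈ Y := hx
  set c := z * x * z⁻¹ * x⁻¹ with hcdef
  have hcO : c ∈ O := ⟨_, CfsgLib.Invol.zstar hiso ⟨x, hxY⟩, rfl⟩
  have hcop : ∀ {w : X}, Odd (orderOf w) → w * z = z * w → w = 1 := fun {w} ho he => by
    have h4 := C.order_cent C.z_order he
    have hc : Nat.Coprime (orderOf w) (2 ^ 2) := Nat.Coprime.pow_right 2 (Nat.coprime_two_right.2 ho)
    exact orderOf_eq_one_iff.1 (Nat.dvd_one.1 (hc.dvd_of_dvd_mul_right (by simpa using h4)))
  have hxodd : Odd (orderOf x) := by rcases hord with h | h <;> rw [h] <;> decide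
  have hc1 : c ≠ 1 := fun h => by
    have hzx : x * z = z * x := (mul_inv_eq_iff_eq_mul.1 (mul_inv_eq_one.1 h)).symm
    have := hcop hxodd hzx
    rw [this, orderOf_one] at hord; omega
  have hzi : z⁻¹ = z := inv_eq_of_mul_eq_one_right C.z2
  have hinvO : ∀ y ∈ O, z * y * z⁻¹ = y⁻¹ := by
    intro y hy
    let φ : O → O := fun o => ⟨(o : X)⁻¹ * (z * o * z⁻¹), mul_mem (inv_mem o.2) (hOconj z hzY _ o.2)⟩
    have hinj : Function.Injective φ := fun a b h => by
      have h' : (a : X)⁻¹ * (z * a * z⁻¹) = (b : X)⁻¹ * (z * b * z⁻¹) := congrArg Subtype.val h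
      have hba : (b : X) * (a : X)⁻¹ ∈ O := mul_mem b.2 (inv_mem a.2)
      have := hcop (hOodd.of_dvd_nat (orderOf_dvd_natCard O hba)) (mul_inv_eq_iff_eq_mul.1 (by
        calc z * ((b : X) * (a : X)⁻¹) * z⁻¹ = (z * b * z⁻¹) * (z * a * z⁻¹)⁻¹ := by group
          _ = (b : X) * ((b : X)⁻¹ * (z * b * z⁻¹)) * ((a : X)⁻¹ * (z * a * z⁻¹))⁻¹ * (a : X)⁻¹ := by group
          _ = (b : X) * (a : X)⁻¹ := by rw [← h']; group)).symm
      exact Subtype.ext (mul_inv_eq_one.1 this).symm
    obtain ⟨a, ha⟩ := Finite.surjective_of_injective hinj ⟨y, hy⟩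
    have e : (a : X)⁻¹ * (z * a * z⁻¹) = y := congrArg Subtype.val ha
    rw [← e, hzi]
    calc z * ((a : X)⁻¹ * (z * a * z)) * z = z * (a : X)⁻¹ * z * a * (z * z) := by group
      _ = ((a : X)⁻¹ * (z * a * z))⁻¹ := by rw [C.z2, mul_one, mul_inv_rev, mul_inv_rev, mul_inv_rev, hzi]; group
  have hOreal : ∀ y ∈ O, y ≠ 1 → RealOdd y := fun y hy h1 =>
    ⟨h1, hOodd.of_dvd_nat (orderOf_dvd_natCard O hy), z, C.z_order, hinvO y hy⟩
  have hOcomm : ∀ a ∈ O, ∀ b ∈ O, a * b = b * a := fun a ha b hb => by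
    have h := hinvO _ (mul_mem ha hb)
    rw [show z * (a * b) * z⁻¹ = (z * a * z⁻¹) * (z * b * z⁻¹) by group, hinvO a ha, hinvO b hb, ← mul_inv_rev,
      inv_inj] at h
    exact h.symm
  set M := centralizer ({c} : Set X) with hM
  set N := normalizer (M : Set X) with hN
  have hcR := hOreal c hcO hc1
  have hYN : Y ≤ N := fun g hg => by
    have hgc := hOconj g hg c hcO
    have hg1 : g * c * g⁻¹ ≠ 1 := fun h => hc1 (conj_eq_one_iff.1 h)
    have e := (C.cent_eq hcR (hOcomm _ hgc c hcO) hg1).2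
    rw [hN, mem_normalizer_iff]
    intro w
    conv_rhs => rw [hM, ← e]
    rw [conj_centralizer, show g⁻¹ * (g * w * g⁻¹) * g = w by group]
  obtain ⟨hkset, -, -⟩ := C.stab_facts hcR (hinvO c hcO)
  have hNk : Nat.card N = Nat.card M * Nat.card ↥(N ⊓ centralizer ({z} : Set X)) :=
    C.norm_card hcR C.z_order (hinvO c hcO)
  have hSYle : S ⊓ Y ≤ N ⊓ centralizer ({z} : Set X) :=
    le_inf (inf_le_right.trans hYN) (inf_le_left.trans C.cz.ge)
  have hk8 := hSYc.trans (card_le_of_le hSYle)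
  rcases C.main_count.2.1 c hcR with ⟨h5, hle⟩ | h9
  · rw [hNk, h5] at hle
    omega
  · have hxN : x ∈ N := hYN hxY
    have hd := orderOf_dvd_natCard N hxN
    rw [hNk, h9] at hd
    rcases hkset with e | e | e <;> rw [e] at hd <;> rcases hord with h | h <;> rw [h] at hd <;> norm_num at hd

end Cit

end CfsgLib.SuzType
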