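import Mathlib
import Cfsg.Agent.Lib.SuzType.NotConj

/-!
Suzuki type: coordinates on the radical of a four group `⟨z, t⟩`.
-/

set_option autoImplicit false
set_option linter.style.haveILetI false
set_option linter.unusedSectionVars false
set_option linter.unusedSimpArgs false

namespace CfsgLib.SuzType

open Subgroup CfsgLib.Classical

variable {G : Type*} [Group G] [Finite G]

/-- The element of the four group with the given exponents. -/
def zeta (z t : G) (i j : ZMod 2) : G := zb z i * zb t j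

/-- Coordinates of an element of the radical, modulo the four group. -/
def Co (z t : G) (Q R : Subgroup G) (π : G → V6) (ρ : G → qAut qm) (c : G) (x y : V6) : Prop :=
  ∃ a b, a ∈ Q ∧ a * t = t * a ∧ b ∈ R ∧ b * z = z * b ∧ c = a * b ∧ Pm (π t) (π a + x) ∧
    Pm (π t) (tv (π t) (ρ b) + y)

theorem pm_add_add {p x x' y y' : V6} (h : Pm p (x + x')) (h' : Pm p (y + y')) : Pm p (x + y + (x' + y')) := by
  rw [add_add_add_comm]; exact h.add h'

namespace Pair

variable {z t : G} {Q R : Subgroup G} {π π' : G → V6} {ρ ρ' : G → qAut qm}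
  (P : Pair z t Q R π π' ρ ρ')

include P

theorem zeta_comm {x : G} (hz : x * z = z * x) (ht : x * t = t * x) (i j : ZMod 2) :
    x * zeta z t i j = zeta z t i j * x := by
  have h1 : ∀ i, Commute x (zb z i) := fun i => by
    rcases two_cases i with rfl | rfl
    · rw [zb_zero]; exact Commute.one_right x
    · rw [zb_one]; exact hz
  have h2 : ∀ i, Commute x (zb t i) := fun i => by
    rcases two_cases i with rfl | rfl
    · rw [zb_zero]; exact Commute.one_right x
    · rw [zb_one]; exact ht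
  exact ((h1 i).mul_right (h2 j)).eq

theorem zeta_mem (i j : ZMod 2) : zeta z t i j ∈ Q ∧ zeta z t i j ∈ R := by
  rcases two_cases i with rfl | rfl <;> rcases two_cases j with rfl | rfl <;>
    simp [zeta, zb_zero, zb_one, P.S.zQ, P.zR, P.tQ, P.S'.zQ, mul_mem P.S.zQ P.tQ, mul_mem P.zR P.S'.zQ]

theorem zeta_mul (i j k l : ZMod 2) : zeta z t i j * zeta z t k l = zeta z t (i + k) (j + l) := by
  rw [zeta, zeta, zeta, ← zb_mul P.S.z2, ← zb_mul P.S'.z2, mul_assoc, ← mul_assoc (zb t j),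
    P.zb_comm_tt]
  simp only [mul_assoc]

theorem zeta_eq_one {i j : ZMod 2} (h : zeta z t i j = 1) : i = 0 ∧ j = 0 := P.zb_ne h

theorem exists_zeta {e : G} (he : e ∈ Q) (he' : e ∈ R) : ∃ i j, e = zeta z t i j := by
  rcases P.E_cases he he' with rfl | rfl | rfl | rfl
  · exact ⟨0, 0, by simp [zeta, zb_zero]⟩
  · exact ⟨1, 0, by simp [zeta, zb_zero, zb_one]⟩
  · exact ⟨0, 1, by simp [zeta, zb_zero, zb_one]⟩
  · exact ⟨1, 1, by simp [zeta, zb_one]⟩

theorem pm_zeta (i j : ZMod 2) : Pm (π t) (π (zeta z t i j)) := by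
  rcases two_cases i with rfl | rfl <;> rcases two_cases j with rfl | rfl <;>
    simp [zeta, zb_zero, zb_one, Pm, P.S.pi_one, P.S.pi_z, P.S.pi_zmul P.tQ]

theorem zeta_tz (i j : ZMod 2) : zeta z t i j * z = z * zeta z t i j ∧ zeta z t i j * t = t * zeta z t i j :=
  ⟨(P.zeta_comm rfl P.zt_comm i j).symm, (P.zeta_comm P.zt_comm.symm rfl i j).symm⟩

theorem polar_eq {b b' : G} (hb : b ∈ R) (hbz : b * z = z * b) (hb' : b' ∈ R) (hbz' : b' * z = z * b') :
    pb (π' b) (π' b') = pb (tv (π t) (ρ b)) (tv (π t) (ρ b')) := by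
  have hz : b * b' * z = z * (b * b') := (Commute.mul_left (show Commute b z from hbz) hbz').eq
  have h := P.quad_eq (mul_mem hb hb') hz
  rw [pm_quad P.p_sing (P.w_mul hb hbz hb' hbz')
    (by rw [pb_add_right, P.w_perp hb hbz, P.w_perp hb' hbz', add_zero]),
    P.S'.pi_mul b hb b' hb', qm_add, qm_add, P.quad_eq hb hbz, P.quad_eq hb' hbz'] at h
  exact (add_left_cancel h).symm

variable {c c' : G} {x y x' y' : V6}

theorem co_comm_zt (h : Co z t Q R π ρ c x y) : c * z = z * c ∧ c * t = t * c := by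
  obtain ⟨a, b, ha, hat, hb, hbz, rfl, -, -⟩ := h
  exact ⟨(Commute.mul_left (show Commute a z from P.S.z_comm ha) hbz).eq,
    (Commute.mul_left (show Commute a t from hat) (show Commute b t from P.S'.z_comm hb)).eq⟩

theorem co_perp (h : Co z t Q R π ρ c x y) : pb (π t) x = 0 ∧ pb (π t) y = 0 := by
  obtain ⟨a, b, ha, hat, hb, hbz, rfl, h1, h2⟩ := h
  have e1 := h1.polar (pb_self (π t))
  have e2 := h2.polar (pb_self (π t))
  rw [pb_comm, pb_add_right, P.perp ha hat, zero_add] at e1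
  rw [pb_comm, pb_add_right, P.w_perp hb hbz, zero_add] at e2
  exact ⟨e1, e2⟩

theorem co_of_Q {a : G} (ha : a ∈ Q) (hat : a * t = t * a) : Co z t Q R π ρ a (π a) 0 :=
  ⟨a, 1, ha, hat, one_mem _, by simp, (mul_one a).symm, pm_self _,
    by rw [P.S.rho_one, tv_one, add_zero]; exact .inl rfl⟩

theorem co_of_R {b : G} (hb : b ∈ R) (hbz : b * z = z * b) : Co z t Q R π ρ b 0 (tv (π t) (ρ b)) :=
  ⟨1, b, one_mem _, by simp, hb, hbz, (one_mul b).symm, by rw [P.S.pi_one, add_zero]; exact .inl rfl,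
    pm_self _⟩

theorem co_congr (h : Co z t Q R π ρ c x y) (hx : Pm (π t) (x + x')) (hy : Pm (π t) (y + y')) :
    Co z t Q R π ρ c x' y' := by
  obtain ⟨a, b, ha, hat, hb, hbz, rfl, h1, h2⟩ := h
  exact ⟨a, b, ha, hat, hb, hbz, rfl, pm_trans h1 hx, pm_trans h2 hy⟩

theorem co_zeta (i j : ZMod 2) : Co z t Q R π ρ (zeta z t i j) 0 0 :=
  P.co_congr (P.co_of_Q (P.zeta_mem i j).1 (P.zeta_tz i j).2) (by rw [add_zero]; exact P.pm_zeta i j) (pm_self 0)

theorem co_rho (h : Co z t Q R π ρ c x y) :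
    InT (π t) (ρ c) ∧ Pm (π t) (tv (π t) (ρ c) + y) := by
  obtain ⟨a, b, ha, hat, hb, hbz, rfl, -, h2⟩ := h
  rw [P.S.rho_mul a (P.S.le ha) b (P.R_z hb hbz).1, P.S.rho_Q ha, one_mul]
  exact ⟨P.inT hb hbz, h2⟩

theorem co_unique (h : Co z t Q R π ρ c x y) (h' : Co z t Q R π ρ c x' y') :
    Pm (π t) (x + x') ∧ Pm (π t) (y + y') := by
  refine ⟨?_, pm_trans (pm_symm (P.co_rho h).2) (P.co_rho h').2⟩
  obtain ⟨a, b, ha, hat, hb, hbz, rfl, h1, -⟩ := h
  obtain ⟨a', b', ha', hat', hb', hbz', e, h1', -⟩ := h'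
  have hd : a'⁻¹ * a = b' * b⁻¹ := by
    calc a'⁻¹ * a = a'⁻¹ * (a * b) * b⁻¹ := by group
      _ = b' * b⁻¹ := by rw [e]; group
  have hdR : a'⁻¹ * a ∈ R := hd ▸ mul_mem hb' (inv_mem hb)
  obtain ⟨i, j, hij⟩ := P.exists_zeta (mul_mem (inv_mem ha') ha) hdR
  have hpm : Pm (π t) (π a' + π a) := by
    rw [← P.S.pi_inv ha', ← P.S.pi_mul _ (inv_mem ha') a ha, hij]; exact P.pm_zeta i j
  exact pm_trans (pm_trans (pm_symm h1) (pm_symm hpm)) h1'

theorem co_zero (h : Co z t Q R π ρ c x y) (hx : Pm (π t) x) (hy : Pm (π t) y) : ∃ i j, c = zeta z t i j := by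
  obtain ⟨a, b, ha, hat, hb, hbz, rfl, h1, h2⟩ := h
  have haR : a ∈ R := P.mem_E_of_pm ha (by simpa [add_assoc, add_self6] using h1.add hx)
  have hbQ : b ∈ Q := (P.w_pm_iff hb hbz).1 (by simpa [add_assoc, add_self6] using h2.add hy)
  exact P.exists_zeta (mul_mem ha hbQ) (mul_mem haR hb)

theorem swap_eq {a b : G} (ha : a ∈ Q) (hat : a * t = t * a) (hb : b ∈ R) (hbz : b * z = z * b) :
    b * a = zeta z t (pb (π a) (tv (π t) (ρ b))) (pb (π a) (tv (π t) (ρ b))) * (a * b) := by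
  rw [zeta, ← P.comm_eq ha hat hb hbz]; group

theorem co_mul (h : Co z t Q R π ρ c x y) (h' : Co z t Q R π ρ c' x' y') :
    Co z t Q R π ρ (c * c') (x + x') (y + y') := by
  obtain ⟨a, b, ha, hat, hb, hbz, rfl, h1, h2⟩ := h
  obtain ⟨a', b', ha', hat', hb', hbz', rfl, h1', h2'⟩ := h'
  set e := zeta z t (pb (π a') (tv (π t) (ρ b))) (pb (π a') (tv (π t) (ρ b))) with he
  have heQ : e ∈ Q := (P.zeta_mem _ _).1
  refine ⟨a * e * a', b * b', mul_mem (mul_mem ha heQ) ha', ?_, mul_mem hb hb',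
    (Commute.mul_left (show Commute b z from hbz) hbz').eq, ?_, ?_, ?_⟩
  · exact ((Commute.mul_left (show Commute a t from hat) (P.zeta_tz _ _).2).mul_left hat').eq
  · calc a * b * (a' * b') = a * (b * a') * b' := by group
      _ = a * (e * (a' * b)) * b' := by rw [P.swap_eq ha' hat' hb hbz]
      _ = a * e * a' * (b * b') := by group
  · rw [P.S.pi_mul _ (mul_mem ha heQ) a' ha', P.S.pi_mul a ha e heQ]
    refine pm_add_add ?_ h1'
    rw [add_right_comm]
    exact h1.add (P.pm_zeta _ _)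
  · exact pm_trans (P.w_mul hb hbz hb' hbz') (pm_add_add h2 h2')

theorem co_comm (h : Co z t Q R π ρ c x y) (h' : Co z t Q R π ρ c' x' y') :
    c * c' = zeta z t (pb x x' + (pb x y' + pb x' y)) (pb y y' + (pb x y' + pb x' y)) * (c' * c) := by
  have hp := P.co_perp h
  have hp' := P.co_perp h'
  obtain ⟨a, b, ha, hat, hb, hbz, rfl, h1, h2⟩ := h
  obtain ⟨a', b', ha', hat', hb', hbz', rfl, h1', h2'⟩ := h'
  have e1 : pb x x' = pb (π a) (π a') := by
    rw [pm_polar h1 (P.perp ha' hat'), pb_comm x, pb_comm x, pm_polar h1' hp.1]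
  have e2 : pb y y' = pb (π' b) (π' b') := by
    rw [P.polar_eq hb hbz hb' hbz', pm_polar h2 (P.w_perp hb' hbz'), pb_comm y, pb_comm y, pm_polar h2' hp.2]
  have e3 : pb x y' = pb (π a) (tv (π t) (ρ b')) := by
    rw [pm_polar h1 (P.w_perp hb' hbz'), pb_comm x, pb_comm x, pm_polar h2' hp.1]
  have e4 : pb x' y = pb (π a') (tv (π t) (ρ b)) := by
    rw [pm_polar h1' (P.w_perp hb hbz), pb_comm x', pb_comm x', pm_polar h2 hp'.1]
  rw [e1, e2, e3, e4]
  have hab : ∀ {u v : G}, u ∈ Q → u * t = t * u → v ∈ R → v * z = z * v → ∀ i j,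
      u * zeta z t i j = zeta z t i j * u ∧ v * zeta z t i j = zeta z t i j * v := fun hu hut hv hvz i j =>
    ⟨P.zeta_comm (P.S.z_comm hu) hut i j, P.zeta_comm hvz (P.S'.z_comm hv) i j⟩
  have q1 : a * a' = zeta z t (pb (π a) (π a')) 0 * (a' * a) := by
    rw [zeta, zb_zero, mul_one]; exact P.S.comm ha ha'
  have q2 : b * b' = zeta z t 0 (pb (π' b) (π' b')) * (b' * b) := by
    rw [zeta, zb_zero, one_mul]; exact P.S'.comm hb hb'
  generalize pb (π a) (π a') = i, pb (π' b) (π' b') = j at q1 q2 ⊢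
  have sw := P.swap_eq ha hat hb' hbz'
  have sw' := P.swap_eq ha' hat' hb hbz
  generalize pb (π a) (tv (π t) (ρ b')) = k, pb (π a') (tv (π t) (ρ b)) = k' at sw sw' ⊢
  calc a * b * (a' * b') = a * (b * a') * b' := by group
    _ = a * zeta z t k' k' * a' * (b * b') := by rw [sw']; group
    _ = zeta z t k' k' * (a * a') * (b * b') := by rw [(hab ha hat hb hbz k' k').1]; group
    _ = zeta z t k' k' * zeta z t i 0 * ((a' * a) * zeta z t 0 j) * (b' * b) := by rw [q1, q2]; group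
    _ = zeta z t k' k' * zeta z t i 0 * zeta z t 0 j * (a' * (a * b') * b) := by
        rw [P.zeta_comm (P.S.z_comm (mul_mem ha' ha)) (Commute.mul_left (show Commute a' t from hat') hat).eq 0 j]
        group
    _ = zeta z t k' k' * zeta z t i 0 * zeta z t 0 j * (a' * (zeta z t k k * (b' * a)) * b) := by
        have hkk : zeta z t k k * zeta z t k k = 1 := by
          rw [P.zeta_mul, CharTwo.add_self_eq_zero]; simp [zeta, zb_zero]
        rw [sw, ← mul_assoc (zeta z t k k), hkk, one_mul]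
    _ = zeta z t k' k' * zeta z t i 0 * zeta z t 0 j * zeta z t k k * (a' * b' * (a * b)) := by
        rw [show a' * (zeta z t k k * (b' * a)) * b = a' * zeta z t k k * (b' * a * b) by group,
          (hab ha' hat' hb' hbz' k k).1]
        group
    _ = zeta z t (i + (k + k')) (j + (k + k')) * (a' * b' * (a * b)) := by
        rw [P.zeta_mul, P.zeta_mul, P.zeta_mul, show k' + i + 0 + k = i + (k + k') by abel,
          show k' + 0 + j + k = j + (k + k') by abel]

theorem co_commute_iff (h : Co z t Q R π ρ c x y) (h' : Co z t Q R π ρ c' x' y') :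
    c * c' = c' * c ↔ pb x x' + (pb x y' + pb x' y) = 0 ∧ pb y y' + (pb x y' + pb x' y) = 0 := by
  rw [P.co_comm h h', mul_eq_right]
  exact ⟨P.zeta_eq_one, fun ⟨e1, e2⟩ => by rw [e1, e2]; simp [zeta, zb_zero]⟩

theorem co_sq (h : Co z t Q R π ρ c x y) : c * c = zeta z t (qm x + pb x y) (qm y + pb x y) := by
  obtain ⟨hpx, hpy⟩ := P.co_perp h
  obtain ⟨a, b, ha, hat, hb, hbz, rfl, h1, h2⟩ := h
  have e1 : qm x = qm (π a) := (pm_quad P.p_sing h1 hpx).symm
  have e2 : qm y = qm (π' b) := by rw [← pm_quad P.p_sing h2 hpy, P.quad_eq hb hbz]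
  have e3 : pb x y = pb (π a) (tv (π t) (ρ b)) := by
    rw [pm_polar h1 (P.w_perp hb hbz), pb_comm x, pb_comm x, pm_polar h2 hpx]
  rw [e1, e2, e3]
  have sw := P.swap_eq ha hat hb hbz
  generalize pb (π a) (tv (π t) (ρ b)) = k at sw ⊢
  calc a * b * (a * b) = a * (b * a) * b := by group
    _ = a * zeta z t k k * a * (b * b) := by rw [sw]; group
    _ = zeta z t k k * (zeta z t (qm (π a)) 0 * zeta z t 0 (qm (π' b))) := by
        rw [P.zeta_comm (P.S.z_comm ha) hat, show zeta z t (qm (π a)) 0 = a * a by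
          rw [zeta, zb_zero, mul_one, P.S.sq a ha], show zeta z t 0 (qm (π' b)) = b * b by
          rw [zeta, zb_zero, one_mul, P.S'.sq b hb]]
        group
    _ = zeta z t (qm (π a) + k) (qm (π' b) + k) := by
        rw [P.zeta_mul, P.zeta_mul, show k + (qm (π a) + 0) = qm (π a) + k by abel,
          show k + (0 + qm (π' b)) = qm (π' b) + k by abel]

theorem co_conj {d : G} (hd : d ∈ centralizer ({z} : Set G)) (hdt : d ∈ centralizer ({t} : Set G))
    (h : Co z t Q R π ρ c x y) : Co z t Q R π ρ (d * c * d⁻¹) ((ρ d).1 x) ((ρ d).1 y) := by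
  obtain ⟨a, b, ha, hat, hb, hbz, rfl, h1, h2⟩ := h
  have gp := P.rho_p hd hdt
  refine ⟨d * a * d⁻¹, d * b * d⁻¹, P.S.conj_mem hd ha, ?_, P.S'.conj_mem hdt hb, ?_, by group, ?_, ?_⟩
  · exact mem_centralizer_singleton_iff.1
      (mul_mem (mul_mem hdt (mem_centralizer_singleton_iff.2 hat)) (inv_mem hdt))
  · exact mem_centralizer_singleton_iff.1
      (mul_mem (mul_mem hd (mem_centralizer_singleton_iff.2 hbz)) (inv_mem hd))
  · rw [P.S.rho_pi d hd a ha, ← map_add]; exact pm_map gp h1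
  · refine pm_trans (P.w_conj hb hbz hd hdt) ?_
    rw [← map_add]; exact pm_map gp h2

/-- Classes are realised. -/
theorem co_exists (hx : pb (π t) x = 0) (hy : pb (π t) y = 0) : ∃ c, Co z t Q R π ρ c x y := by
  obtain ⟨a, ha, rfl⟩ := P.S.pi_surj x
  obtain ⟨b, hb, hbz, hbw⟩ := P.w_surj hy
  exact ⟨a * b, a, b, ha, mem_centralizer_singleton_iff.1 ((P.mem_A ha).2 hx), hb, hbz, rfl, pm_self _, hbw⟩

/-- The elements of the second kind. -/
theorem co_typeOne (h : Co z t Q R π ρ c x y) (h2 : c * c = 1) (hq : qm y = 1) :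
    TypeOne z t Q R π π' c := by
  obtain ⟨-, hpy⟩ := P.co_perp h
  obtain ⟨a, b, ha, hat, hb, hbz, rfl, -, hy⟩ := h
  have hqb : qm (π' b) = 1 := by rw [← P.quad_eq hb hbz, pm_quad P.p_sing hy hpy, hq]
  have hbQ : b ∉ Q := fun hbQ => by
    have h3 := P.S'.sq b hb
    rw [P.E_sq hbQ hb, hqb, zb_one] at h3
    exact P.S'.z1 h3.symm
  exact P.typeOne_of ha hat hb hbz hbQ h2 hqb

theorem co_zclass (hzt : IsConj z t) (h : Co z t Q R π ρ c x y) (h2 : c * c = 1) (h1 : c ≠ 1) (hq : qm y = 0) :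
    IsConj z c := by
  obtain ⟨-, hpy⟩ := P.co_perp h
  obtain ⟨a, b, ha, hat, hb, hbz, rfl, -, hy⟩ := h
  have hqb : qm (π' b) = 0 := by rw [← P.quad_eq hb hbz, pm_quad P.p_sing hy hpy, hq]
  by_cases hbQ : b ∈ Q
  · exact P.q_conj hzt (mul_mem ha hbQ) h2 h1
  · exact P.conj_z_of_zero hzt ha hat hb hbz hbQ h2 hqb

end Pair

namespace Config

variable {z t : G} {Q R : Subgroup G} {π π' : G → V6} {ρ ρ' : G → qAut qm}
  (C : Config z t Q R π π' ρ ρ')

include C

theorem co_of_rad {c : G} (hc : c ∈ C.rad) : ∃ x y, Co z t Q R π ρ c x y := by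
  obtain ⟨a, b, ha, hat, hb, hbz, rfl⟩ := C.rad_decomp hc
  exact ⟨π a, tv (π t) (ρ b), a, b, ha, hat, hb, hbz, rfl, pm_self _, pm_self _⟩

theorem co_mem_rad {c : G} {x y : V6} (h : Co z t Q R π ρ c x y) : c ∈ C.rad := by
  obtain ⟨a, b, ha, hat, hb, hbz, rfl, -, -⟩ := h
  exact mul_mem (C.mem_rad_Q ha hat) (C.mem_rad_R hb hbz)

end Config

end CfsgLib.SuzType
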