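import Mathlib
import Cfsg.Agent.Lib.SuzType.Local.Coords

/-!
Suzuki type: the frame at an involution of the second kind.
-/

set_option autoImplicit false
set_option linter.style.haveILetI false
set_option linter.unusedSectionVars false
set_option linter.unusedSimpArgs false

namespace CfsgLib.SuzType

open Subgroup CfsgLib.Classical

variable {G : Type*} [Group G] [Finite G]

/-- The vectors of a frame. -/
structure Basis4 (p m n u v : V6) : Prop where
  m1 : qm m = 1
  n1 : qm n = 1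
  u0 : qm u = 0
  v0 : qm v = 0
  pm : pb p m = 0
  pn : pb p n = 0
  pu : pb p u = 0
  pv : pb p v = 0
  mn : pb m n = 1
  uv : pb u v = 1
  um : pb u m = 0
  un : pb u n = 0
  vm : pb v m = 0
  vn : pb v n = 0
  dec : ∀ x, pb p x = 0 → Pm p (x + (pb x n • m + pb x m • n + pb x v • u + pb x u • v))

namespace Basis4

variable {p m n u v : V6} (B : Basis4 p m n u v)

include B

theorem mp : pb m p = 0 := by rw [pb_comm]; exact B.pm
theorem np : pb n p = 0 := by rw [pb_comm]; exact B.pn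
theorem up : pb u p = 0 := by rw [pb_comm]; exact B.pu
theorem vp : pb v p = 0 := by rw [pb_comm]; exact B.pv
theorem nm : pb n m = 1 := by rw [pb_comm]; exact B.mn
theorem vu : pb v u = 1 := by rw [pb_comm]; exact B.uv
theorem mu : pb m u = 0 := by rw [pb_comm]; exact B.um
theorem nu : pb n u = 0 := by rw [pb_comm]; exact B.un
theorem mv : pb m v = 0 := by rw [pb_comm]; exact B.vm
theorem nv : pb n v = 0 := by rw [pb_comm]; exact B.vn

theorem nvec_m : NVec p m := ⟨B.m1, B.pm⟩
theorem nvec_n : NVec p n := ⟨B.n1, B.pn⟩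
theorem mn1 : qm (m + n) = 1 := by rw [qm_add, B.m1, B.n1, B.mn]; decide

end Basis4

theorem exists_basis4 {p m n : V6} (hp : Sing p) (hm : NVec p m) (hn : NVec p n) (hmn : pb m n = 1) :
    ∃ u v, Basis4 p m n u v := by
  obtain ⟨u, v, hu, hv, um, un, vm, vn, huv, hspan⟩ := fact_11 hp hn hm hmn
  have hnm : pb n m = 1 := by rw [pb_comm, hmn]
  have hvu : pb v u = 1 := by rw [pb_comm, huv]
  have mu' : pb m u = 0 := by rw [pb_comm, um]
  have mv' : pb m v = 0 := by rw [pb_comm, vm]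
  have nu' : pb n u = 0 := by rw [pb_comm, un]
  have nv' : pb n v = 0 := by rw [pb_comm, vn]
  refine ⟨u, v, hm.1, hn.1, hu.1, hv.1, hm.2, hn.2, hu.2.1, hv.2.1, hmn, huv, um, un, vm, vn, fun x hx => ?_⟩
  refine hspan _ ?_ ?_ ?_ ?_ ?_ <;>
    simp only [pb_add_left, pb_add_right, pb_smul_left, pb_smul_right, hx, hm.2, hn.2, hu.2.1, hv.2.1, pb_self,
      hmn, hnm, huv, hvu, um, un, vm, vn, mu', mv', nu', nv'] <;>
    simp [CharTwo.add_self_eq_zero]

theorem zeta_zero (z t : G) : zeta z t 0 0 = 1 := by simp [zeta, zb_zero]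

omit [Finite G] in
theorem commute_of_order_three {w c e : G} (hw : w * w * w = 1) (he2 : e * e = 1) (hwe : w * e = e * w)
    (h : w * c * w⁻¹ = e * c) : w * c = c * w := by
  have hc : ∀ x, w * (e * x) * w⁻¹ = e * (w * x * w⁻¹) := fun x => by rw [← mul_assoc w, hwe]; group
  have h3 : w * (w * (w * c * w⁻¹) * w⁻¹) * w⁻¹ = c := by
    calc w * (w * (w * c * w⁻¹) * w⁻¹) * w⁻¹ = (w * w * w) * c * (w * w * w)⁻¹ := by group
      _ = c := by rw [hw]; group
  rw [h, hc, h, hc, hc, h, ← mul_assoc e e, he2, one_mul] at h3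
  rw [h3] at h
  exact mul_inv_eq_iff_eq_mul.1 h

/-- The frame: an involution `r` of the second kind, its four group and the fixing element of order three. -/
structure Frm (z t : G) (Q R : Subgroup G) (π π' : G → V6) (ρ ρ' : G → qAut qm)
    (r s ω au bu av bv : G) (m n u v : V6) : Prop where
  C : Config z t Q R π π' ρ ρ'
  B : Basis4 (π t) m n u v
  cr : Co z t Q R π ρ r m n
  cs : Co z t Q R π ρ s n (m + n)
  cau : Co z t Q R π ρ au u 0
  cbu : Co z t Q R π ρ bu 0 u
  cav : Co z t Q R π ρ av v 0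
  cbv : Co z t Q R π ρ bv 0 v
  w3 : ω * ω * ω = 1
  wz : ω * z = z * ω
  wt : ω * t = t * ω
  wau : ω * au = au * ω
  wbu : ω * bu = bu * ω
  wav : ω * av = av * ω
  wbv : ω * bv = bv * ω
  ws : s = ω * r * ω⁻¹
  prod : r * s * (ω * s * ω⁻¹) = 1

theorem rho_pow {z : G} {Q : Subgroup G} {π : G → V6} {ρ : G → qAut qm} (S : Setup z Q π ρ) {c : G}
    (hc : c ∈ centralizer ({z} : Set G)) (k : ℕ) : ρ (c ^ k) = ρ c ^ k := by
  induction k with
  | zero => rw [pow_zero, pow_zero, S.rho_one]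
  | succ k ih => rw [pow_succ, pow_succ, S.rho_mul _ (pow_mem hc k) c hc, ih]

theorem qAut_fix_inv {g : qAut qm} {x : V6} (h : g.1 x = x) : (g⁻¹).1 x = x := by
  apply g.1.injective
  rw [h, ← qAut_mul_apply, mul_inv_cancel]
  rfl

/-- The isometry of order three moving `m` to `n` to `m + n`. -/
theorem exists_rot {p m n u v : V6} (B : Basis4 p m n u v) :
    ∃ g : qAut qm, g ∈ Ev ∧ g * g * g = 1 ∧ g.1 p = p ∧ g.1 u = u ∧ g.1 v = v ∧ g.1 m = n ∧ g.1 n = m + n := by
  refine ⟨rf m B.m1 * rf n B.n1, rf_mul_mem B.m1 B.n1, qAut_ext fun x => ?_, ?_, ?_, ?_, ?_, ?_⟩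
  · simp only [qAut_mul_apply, rf_apply, pb_add_left, pb_smul_left, B.nm, B.mn, pb_self]
    show _ = x
    funext i
    simp only [Pi.add_apply, Pi.smul_apply, smul_eq_mul]
    generalize pb x m = α, pb x n = β, x i = a, m i = b, n i = c
    revert α β a b c
    decide
  · rw [qAut_mul_apply, rf_fix B.n1 B.pn, rf_fix B.m1 B.pm]
  · rw [qAut_mul_apply, rf_fix B.n1 B.un, rf_fix B.m1 B.um]
  · rw [qAut_mul_apply, rf_fix B.n1 B.vn, rf_fix B.m1 B.vm]
  · rw [qAut_mul_apply, rf_move B.n1 B.mn, rf_move B.m1 (by rw [pb_add_left, pb_self, B.nm, zero_add]),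
      add_comm m n, add_assoc, add_self6, add_zero]
  · rw [qAut_mul_apply, rf_fix B.n1 (pb_self n), rf_move B.m1 B.nm, add_comm]

/-- Frames exist. -/
theorem Config.exists_frm {z t : G} {Q R : Subgroup G} {π π' : G → V6} {ρ ρ' : G → qAut qm}
    (C : Config z t Q R π π' ρ ρ') {x : G} (hx : TypeOne z t Q R π π' x) :
    ∃ s ω au bu av bv m n u v, Frm z t Q R π π' ρ ρ' x s ω au bu av bv m n u v := by
  have P := C.P
  obtain ⟨a, b, ha, hat, hb, hbz, hbQ, rfl, h2, hqb, hqa⟩ := hx
  have hmn : pb (π a) (tv (π t) (ρ b)) = 1 := ((P.invol_iff ha hat hb hbz).1 h2).2.symm.trans hqb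
  obtain ⟨u, v, B⟩ := exists_basis4 P.p_sing ⟨hqa, P.perp ha hat⟩
    ⟨(P.quad_eq hb hbz).trans hqb, P.w_perp hb hbz⟩ hmn
  have cr : Co z t Q R π ρ (a * b) (π a) (tv (π t) (ρ b)) :=
    ⟨a, b, ha, hat, hb, hbz, rfl, pm_self _, pm_self _⟩
  obtain ⟨au, cau⟩ := P.co_exists B.pu (pb_zero_right (π t))
  obtain ⟨bu, cbu⟩ := P.co_exists (pb_zero_right (π t)) B.pu
  obtain ⟨av, cav⟩ := P.co_exists B.pv (pb_zero_right (π t))
  obtain ⟨bv, cbv⟩ := P.co_exists (pb_zero_right (π t)) B.pv
  set m := π a with hm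
  set n := tv (π t) (ρ b) with hn
  set r := a * b with hr
  obtain ⟨g, hg, g3, gp, gu, gv, gm, gn⟩ := exists_rot B
  obtain ⟨c, hc, hct, hρc⟩ := P.exists_lift hg gp
  obtain ⟨j, M, hM, hord⟩ := Nat.exists_eq_two_pow_mul_odd (orderOf_pos c).ne'
  set w := c ^ 4 ^ j with hw
  have hwz : w ∈ centralizer ({z} : Set G) := pow_mem hc _
  have hwt : w ∈ centralizer ({t} : Set G) := pow_mem hct _
  have hρw : ρ w = g := by
    have h3 : g ^ 3 = 1 := by rw [pow_succ, pow_two]; exact g3
    rw [hw, rho_pow P.S hc, hρc, pow_eq_pow_mod _ h3, Nat.pow_mod]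
    simp
  have hodd : Odd (orderOf w) := by
    have hd : orderOf w ∣ M := by
      refine orderOf_dvd_of_pow_eq_one ?_
      rw [hw, ← pow_mul, ← orderOf_dvd_iff_pow_eq_one, hord]
      exact mul_dvd_mul_right (by rw [show (4 : ℕ) = 2 * 2 by norm_num, mul_pow]; exact dvd_mul_right _ _) M
    exact hM.of_dvd_nat hd
  have hw3 : w * w * w = 1 := by
    have hQ : w ^ 3 ∈ Q := (P.S.rho_ker _ (pow_mem hwz 3)).1 (by
      rw [rho_pow P.S hwz, hρw, pow_succ, pow_two]; exact g3)
    have h128 : orderOf (w ^ 3) ∣ 2 ^ 7 := by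
      have := Subgroup.orderOf_dvd_natCard Q hQ
      rw [P.S.card] at this
      simpa using this
    have hwodd : Odd (orderOf (w ^ 3)) := hodd.of_dvd_nat (orderOf_pow_dvd 3)
    obtain ⟨i, -, hi⟩ := (Nat.dvd_prime_pow Nat.prime_two).1 h128
    rcases i with _ | i
    · rw [pow_zero, orderOf_eq_one_iff, pow_succ, pow_two] at hi; exact hi
    · rw [hi] at hwodd; exact absurd hwodd (by simp [Nat.odd_pow_iff])
  have hwz' : w * z = z * w := mem_centralizer_singleton_iff.1 hwz
  have hwt' : w * t = t * w := mem_centralizer_singleton_iff.1 hwt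
  have hzeta : ∀ i j, w * zeta z t i j = zeta z t i j * w := P.zeta_comm hwz' hwt'
  have zsq : ∀ i j, zeta z t i j * zeta z t i j = 1 := fun i j => by
    rw [P.zeta_mul, CharTwo.add_self_eq_zero, CharTwo.add_self_eq_zero, zeta_zero]
  have fix : ∀ {c : G} {x y : V6}, Co z t Q R π ρ c x y → g.1 x = x → g.1 y = y → w * c = c * w := by
    intro c x y h gx gy
    have h1 := P.co_conj hwz hwt h
    rw [hρw, gx, gy] at h1
    obtain ⟨ux, uy, hd⟩ : ∃ i j, w * c * w⁻¹ * (c * 1)⁻¹ = zeta z t i j := by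
      obtain ⟨i, j, e⟩ := P.co_zero (P.co_mul h1 h) (.inl (add_self6 x)) (.inl (add_self6 y))
      obtain ⟨i', j', e'⟩ := P.co_zero (P.co_mul h h) (.inl (add_self6 x)) (.inl (add_self6 y))
      refine ⟨i + i', j + j', ?_⟩
      have hci : c⁻¹ = c * zeta z t i' j' := by
        refine inv_eq_of_mul_eq_one_right ?_
        rw [← mul_assoc, e', zsq]
      rw [mul_one, hci, ← mul_assoc, e, P.zeta_mul]
    exact commute_of_order_three hw3 (zsq _ _) (hzeta _ _) (by rw [← hd]; group)
  have hcm : ∀ {k : G} {x y : V6}, Co z t Q R π ρ k x y → ∀ i j, k * zeta z t i j = zeta z t i j * k :=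
    fun h => P.zeta_comm (P.co_comm_zt h).1 (P.co_comm_zt h).2
  -- the defect
  have cs := P.co_conj hwz hwt cr
  rw [hρw, gm, gn] at cs
  have cs2 := P.co_conj hwz hwt cs
  rw [hρw, gn, map_add, gm, gn] at cs2
  set s := w * r * w⁻¹ with hs
  set s2 := w * s * w⁻¹ with hs2
  obtain ⟨i, j, hij⟩ := P.co_zero (P.co_mul (P.co_mul cr cs) cs2)
    (.inl (by funext k; simp only [Pi.add_apply, Pi.zero_apply]; generalize m k = p, n k = q; revert p q; decide))
    (.inl (by funext k; simp only [Pi.add_apply, Pi.zero_apply]; generalize m k = p, n k = q; revert p q; decide))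
  set x := j • m + (i + j) • n with hxdef
  have hxn : pb x n = j := by
    rw [hxdef, pb_add_left, pb_smul_left, pb_smul_left, B.mn, pb_self, mul_one, mul_zero, add_zero]
  have hxm : pb x m = i + j := by
    rw [hxdef, pb_add_left, pb_smul_left, pb_smul_left, B.nm, pb_self, mul_one, mul_zero, zero_add]
  obtain ⟨d, cd⟩ := P.co_exists (x := x) (y := 0)
    (by rw [hxdef, pb_add_right, pb_smul_right, pb_smul_right, B.pm, B.pn, mul_zero, mul_zero, add_zero])
    (pb_zero_right _)
  have hdr : d * r * d⁻¹ = zeta z t i j * r := by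
    have h := P.co_comm cd cr
    rw [hxn, hxm, pb_zero_right, pb_zero_left, add_zero,
      show i + j + j = i by rw [add_assoc, CharTwo.add_self_eq_zero, add_zero], zero_add] at h
    rw [h]; group
  obtain ⟨dz, dt⟩ := P.co_comm_zt cd
  set ω := d * w * d⁻¹ with hω
  have hωc : ∀ {k : G} {x y : V6}, Co z t Q R π ρ k x y → g.1 x = x → g.1 y = y → ω * k = k * ω := by
    intro k x' y' h gx gy
    have h1 := fix h gx gy
    have h2 := P.co_comm cd h
    generalize pb x x' + (pb x y' + pb x' 0) = i', pb 0 y' + (pb x y' + pb x' 0) = j' at h2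
    have hd' : d⁻¹ * k * d = zeta z t i' j' * k := by
      calc d⁻¹ * k * d = d⁻¹ * (zeta z t i' j' * zeta z t i' j') * (k * d) := by rw [zsq]; group
        _ = d⁻¹ * zeta z t i' j' * (d * k) := by rw [h2]; group
        _ = d⁻¹ * (zeta z t i' j' * d) * k := by group
        _ = zeta z t i' j' * k := by rw [← P.zeta_comm dz dt]; group
    calc ω * k = d * (w * (d⁻¹ * k * d)) * d⁻¹ := by rw [hω]; group
      _ = d * ((d⁻¹ * k * d) * w) * d⁻¹ := by
          rw [hd', show w * (zeta z t i' j' * k) = zeta z t i' j' * k * w by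
            rw [← mul_assoc, hzeta, mul_assoc, h1, ← mul_assoc]]
      _ = k * ω := by rw [hω]; group
  have hd0 : d⁻¹ * r * d = zeta z t i j * r := by
    calc d⁻¹ * r * d = d⁻¹ * (zeta z t i j * (zeta z t i j * r)) * d := by rw [← mul_assoc (zeta z t i j), zsq, one_mul]
      _ = d⁻¹ * (zeta z t i j * (d * r * d⁻¹)) * d := by rw [hdr]
      _ = d⁻¹ * (d * zeta z t i j) * (r * d⁻¹) * d := by rw [P.zeta_comm dz dt]; group
      _ = zeta z t i j * r := by group
  have hs' : ω * r * ω⁻¹ = zeta z t i j * (d * s * d⁻¹) := by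
    calc ω * r * ω⁻¹ = d * (w * (d⁻¹ * r * d) * w⁻¹) * d⁻¹ := by rw [hω]; group
      _ = d * (w * zeta z t i j * r * w⁻¹) * d⁻¹ := by rw [hd0]; group
      _ = d * zeta z t i j * (w * r * w⁻¹) * d⁻¹ := by rw [hzeta]; group
      _ = zeta z t i j * (d * s * d⁻¹) := by rw [P.zeta_comm dz dt, hs]; group
  refine ⟨ω * r * ω⁻¹, ω, au, bu, av, bv, m, n, u, v, C, B, cr, ?_, cau, cbu, cav, cbv, ?_, ?_, ?_,
    hωc cau gu (map_zero _), hωc cbu (map_zero _) gu, hωc cav gv (map_zero _), hωc cbv (map_zero _) gv, rfl, ?_⟩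
  · rw [hs']
    have h := P.co_comm cd cs
    generalize pb x n + (pb x (m + n) + pb n 0) = i', pb 0 (m + n) + (pb x (m + n) + pb n 0) = j' at h
    have hds : d * s * d⁻¹ = zeta z t i' j' * s := by rw [h]; group
    rw [hds, ← mul_assoc, P.zeta_mul]
    have := P.co_mul (P.co_zeta (i + i') (j + j')) cs
    rwa [zero_add, zero_add] at this
  · rw [hω]
    calc d * w * d⁻¹ * (d * w * d⁻¹) * (d * w * d⁻¹) = d * (w * w * w) * d⁻¹ := by group
      _ = 1 := by rw [hw3]; group
  · exact (Commute.mul_left (Commute.mul_left (show Commute d z from dz) hwz') (Commute.inv_left dz)).eq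
  · exact (Commute.mul_left (Commute.mul_left (show Commute d t from dt) hwt') (Commute.inv_left dt)).eq
  · have e2 : ω * (ω * r * ω⁻¹) * ω⁻¹ = zeta z t i j * (d * s2 * d⁻¹) := by
      rw [hs', hω]
      calc d * w * d⁻¹ * (zeta z t i j * (d * s * d⁻¹)) * (d * w * d⁻¹)⁻¹
          = d * (w * ((d⁻¹ * zeta z t i j) * d) * s * w⁻¹) * d⁻¹ := by group
        _ = d * (w * zeta z t i j * s * w⁻¹) * d⁻¹ := by
            rw [show d⁻¹ * zeta z t i j * d = d⁻¹ * (zeta z t i j * d) by group, ← P.zeta_comm dz dt,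
              inv_mul_cancel_left]
        _ = d * zeta z t i j * s2 * d⁻¹ := by rw [hzeta, hs2]; group
        _ = zeta z t i j * (d * s2 * d⁻¹) := by rw [P.zeta_comm dz dt]; group
    have hr2 : r * r = 1 := h2
    have hss : s * s2 = r * zeta z t i j := by
      rw [← hij, ← mul_assoc r (r * s) s2, ← mul_assoc r r s, hr2, one_mul]
    rw [e2, hs']
    calc r * (zeta z t i j * (d * s * d⁻¹)) * (zeta z t i j * (d * s2 * d⁻¹))
        = r * zeta z t i j * ((d * s * d⁻¹) * zeta z t i j) * (d * s2 * d⁻¹) := by group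
      _ = r * zeta z t i j * (zeta z t i j * (d * s * d⁻¹)) * (d * s2 * d⁻¹) := by
          rw [P.zeta_comm (Commute.mul_left (Commute.mul_left (show Commute d z from dz) (P.co_comm_zt cs).1)
            (Commute.inv_left dz)).eq (Commute.mul_left (Commute.mul_left (show Commute d t from dt) (P.co_comm_zt cs).2)
            (Commute.inv_left dt)).eq]
      _ = r * (zeta z t i j * zeta z t i j) * (d * (s * s2) * d⁻¹) := by group
      _ = r * (d * (r * zeta z t i j) * d⁻¹) := by rw [zsq, hss, mul_one]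
      _ = r * (d * (zeta z t i j * r) * d⁻¹) := by rw [hcm cr]
      _ = r * (zeta z t i j * (d * r * d⁻¹)) := by
          rw [← mul_assoc d (zeta z t i j) r, P.zeta_comm dz dt]; group
      _ = 1 := by rw [hdr, ← mul_assoc (zeta z t i j), zsq, one_mul, hr2]

end CfsgLib.SuzType
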