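import Mathlib
import Cfsg.Agent.Lib.SuzType.Local.Coords

/-!
Suzuki type: the centralizer in `C(z)` of involutions of the second kind, and the symmetry of the coordinates.
-/

set_option autoImplicit false
set_option linter.style.haveILetI false
set_option linter.unusedSectionVars false
set_option linter.unusedSimpArgs false

namespace CfsgLib.SuzType

open Subgroup CfsgLib.Classical

variable {G : Type*} [Group G] [Finite G]

namespace Pair

variable {z t : G} {Q R : Subgroup G} {π π' : G → V6} {ρ ρ' : G → qAut qm}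
  (P : Pair z t Q R π π' ρ ρ') {c c' d r : G} {x y x' y' : V6}

include P

/-- The action of an element moving `t` inside `Q`. -/
theorem co_swap {q : G} (hq : q ∈ Q) (hq1 : pb (π t) (π q) = 1) (h : Co z t Q R π ρ c x y) :
    Co z t Q R π ρ (q * c * q⁻¹) (x + y) y := by
  obtain ⟨hpx, hpy⟩ := P.co_perp h
  obtain ⟨a, b, ha, hat, hb, hbz, rfl, h1, h2⟩ := h
  obtain ⟨hbC, hbt⟩ := P.R_z hb hbz
  have hd : q * b * q⁻¹ * b⁻¹ ∈ Q := by
    rw [show q * b * q⁻¹ * b⁻¹ = q * (b * q⁻¹ * b⁻¹) by group]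
    exact mul_mem hq (P.S.conj_mem hbC (inv_mem hq))
  have hπd : Pm (π t) (π (q * b * q⁻¹ * b⁻¹) + tv (π t) (ρ b)) := by
    rw [show q * b * q⁻¹ * b⁻¹ = q * (b * q⁻¹ * b⁻¹) by group, P.S.pi_mul q hq _ (P.S.conj_mem hbC (inv_mem hq)),
      P.S.rho_pi b hbC _ (inv_mem hq), P.S.pi_inv hq, add_comm (π q), inT_formula P.p_sing (P.inT hb hbz), hq1,
      one_smul, one_smul, add_comm, add_cancel6]
    rcases two_cases (pb (π q + pt (π t)) (tv (π t) (ρ b))) with e | e <;> rw [e]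
    · exact .inl (zero_smul _ _)
    · exact .inr (one_smul _ _)
  have hqa : q * a * q⁻¹ ∈ Q := mul_mem (mul_mem hq ha) (inv_mem hq)
  have hπ : π (q * a * q⁻¹ * (q * b * q⁻¹ * b⁻¹)) = π a + π (q * b * q⁻¹ * b⁻¹) := by
    rw [P.S.pi_mul _ hqa _ hd, P.S.pi_mul (q * a) (mul_mem hq ha) _ (inv_mem hq), P.S.pi_mul q hq a ha,
      P.S.pi_inv hq, add_comm (π q), add_assoc (π a), add_self6, add_zero]
  have hpm : Pm (π t) (π (q * a * q⁻¹ * (q * b * q⁻¹ * b⁻¹)) + (x + y)) := by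
    rw [hπ]
    exact pm_add_add h1 (pm_trans hπd h2)
  have hperp : pb (π t) (π (q * a * q⁻¹ * (q * b * q⁻¹ * b⁻¹))) = 0 := by
    have e := hpm.polar (pb_self (π t))
    rw [pb_comm, pb_add_right, pb_add_right, hpx, hpy, add_zero, add_zero] at e
    exact e
  exact ⟨q * a * q⁻¹ * (q * b * q⁻¹ * b⁻¹), b, mul_mem hqa hd,
    mem_centralizer_singleton_iff.1 ((P.mem_A (mul_mem hqa hd)).2 hperp), hb, hbz, by group, hpm, h2⟩

/-- An element of `C(z)` centralizing an element of the second kind fixes the class of `t`. -/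
theorem fix_p (hd : d ∈ centralizer ({z} : Set G)) (hdr : d * r = r * d) (h : Co z t Q R π ρ r x y)
    (hy : qm y = 1) {w : V6} (hw : pb (π t) w = 0) (hwy : pb w y = 1) :
    (ρ d).1 (π t) = π t ∧ (d * t * d⁻¹ = t ∨ d * t * d⁻¹ = z * t) := by
  obtain ⟨hpx, hpy⟩ := P.co_perp h
  obtain ⟨hT, hTy⟩ := P.co_rho h
  have hrC : r ∈ centralizer ({z} : Set G) := mem_centralizer_singleton_iff.2 (P.co_comm_zt h).1
  have hq : qm (tv (π t) (ρ r)) = 1 := (pm_quad P.p_sing hTy hpy).trans hy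
  have hfix := inT_apply P.p_sing hT hw
  rw [pb_comm w, pm_polar hTy hw, pb_comm y, hwy, one_smul] at hfix
  have hc : ∀ v, (ρ d).1 ((ρ r).1 v) = (ρ r).1 ((ρ d).1 v) := fun v => by
    rw [← qAut_mul_apply, ← qAut_mul_apply, ← P.S.rho_mul d hd r hrC, ← P.S.rho_mul r hrC d hd, hdr]
  have h1 : (ρ r).1 ((ρ d).1 w) + (ρ d).1 w = (ρ d).1 (π t) := by rw [← hc, ← map_add, hfix]
  have h2 : Pm (π t) ((ρ r).1 ((ρ d).1 w) + (ρ d).1 w) := by
    refine inT_sing_unique P.p_sing hT hq ?_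
    rw [h1]; exact (qAut_map (ρ d) _).trans P.p_sing.2
  rw [h1] at h2
  have gp : (ρ d).1 (π t) = π t :=
    h2.resolve_left fun e => P.p_sing.1 ((ρ d).1.map_eq_zero_iff.1 e)
  refine ⟨gp, P.S.pi_eq P.tQ (P.S.conj_mem hd P.tQ) ?_⟩
  rw [P.S.rho_pi d hd t P.tQ, gp]

/-- In `C(t)` such an element lies in the radical. -/
theorem inT_cent (hd : d ∈ centralizer ({z} : Set G)) (hdt : d ∈ centralizer ({t} : Set G)) (hdr : d * r = r * d)
    (h : Co z t Q R π ρ r x y) (hx : qm x = 1) (hy : qm y = 1) (hxy : pb x y = 1) : InT (π t) (ρ d) := by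
  obtain ⟨hpx, hpy⟩ := P.co_perp h
  have h1 := P.co_conj hd hdt h
  rw [hdr, mul_inv_cancel_right] at h1
  obtain ⟨ex, ey⟩ := P.co_unique h1 h
  exact inT_of_fix_pair P.p_sing ⟨hy, hpy⟩ ⟨hx, hpx⟩ hxy (P.S.rho_mem hd) (P.rho_p hd hdt) ey ex

/-- Centralizing two elements with independent classes forces centralizing `t`. -/
theorem comm_t {r' : G} (hd : d ∈ centralizer ({z} : Set G)) (hdr : d * r = r * d) (hdr' : d * r' = r' * d)
    (h : Co z t Q R π ρ r x y) (h' : Co z t Q R π ρ r' x' y') (hy : qm y = 1) (hy' : qm y' = 1)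
    (hyy : pb y y' = 1) : d * t = t * d := by
  obtain ⟨hpx, hpy⟩ := P.co_perp h
  obtain ⟨hpx', hpy'⟩ := P.co_perp h'
  obtain ⟨gp, hcase⟩ := P.fix_p hd hdr h hy hpy' (by rw [pb_comm, hyy])
  rcases hcase with e | e
  · exact mul_inv_eq_iff_eq_mul.1 e
  exfalso
  have hg : InT (π t) (ρ d) := by
    have hfix : ∀ {r : G} {x y : V6}, d * r = r * d → Co z t Q R π ρ r x y →
        Pm (π t) ((ρ d).1 y + y) := by
      intro r x y hdr h
      obtain ⟨hT, hTy⟩ := P.co_rho h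
      have hrC : r ∈ centralizer ({z} : Set G) := mem_centralizer_singleton_iff.2 (P.co_comm_zt h).1
      have e1 := (inT_conj P.p_sing gp hT).2
      rw [← P.S.rho_mul d hd r hrC, hdr, P.S.rho_mul r hrC d hd, mul_inv_cancel_right] at e1
      have e2 := pm_map gp hTy
      rw [map_add] at e2
      exact pm_trans (pm_symm (pm_trans e1 e2)) hTy
    exact inT_of_fix_pair P.p_sing ⟨hy, hpy⟩ ⟨hy', hpy'⟩ (by rw [pb_comm, hyy]) (P.S.rho_mem hd) gp
      (hfix hdr h) (hfix hdr' h')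
  obtain ⟨q, hq, hq1, hqt⟩ := P.exists_swap
  have hqd : q * d ∈ centralizer ({z} : Set G) := mul_mem (P.S.le hq) hd
  have hqdt : q * d ∈ centralizer ({t} : Set G) := by
    refine mem_centralizer_singleton_iff.2 (mul_inv_eq_iff_eq_mul.1 ?_)
    calc q * d * t * (q * d)⁻¹ = q * (d * t * d⁻¹) * q⁻¹ := by group
      _ = q * z * q⁻¹ * (q * t * q⁻¹) := by rw [e]; group
      _ = t := by rw [hqt, P.S.z_comm hq, mul_inv_cancel_right, ← mul_assoc, P.S.z2, one_mul]
  have h1 := P.co_conj hqd hqdt h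
  rw [show q * d * r * (q * d)⁻¹ = q * (d * r * d⁻¹) * q⁻¹ by group, hdr, mul_inv_cancel_right] at h1
  obtain ⟨ex, -⟩ := P.co_unique h1 (P.co_swap hq hq1 h)
  rw [P.S.rho_mul q (P.S.le hq) d hd, P.S.rho_Q hq, one_mul] at ex
  have e2 := pm_trans (pm_symm (hg.2 x hpx)) ex
  rw [add_cancel6] at e2
  rcases e2 with e2 | e2 <;> rw [e2] at hy
  · rw [QuadraticMap.map_zero] at hy; exact zero_ne_one hy
  · rw [P.p_sing.2] at hy; exact zero_ne_one hy

/-- The coordinates from the other side. -/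
theorem co_symm (h : Co z t Q R π ρ c x y) : ∃ a b, a ∈ Q ∧ a * t = t * a ∧ b ∈ R ∧ b * z = z * b ∧
    Pm (π t) (π a + x) ∧ Pm (π t) (tv (π t) (ρ b) + y) ∧
      Co t z R Q π' ρ' c (π' b) (tv (π' z) (ρ' a)) := by
  obtain ⟨a, b, ha, hat, hb, hbz, rfl, h1, h2⟩ := h
  refine ⟨a, b, ha, hat, hb, hbz, h1, h2, ?_⟩
  set k := pb (π a) (tv (π t) (ρ b)) with hk
  have hcz : ∀ i j, b * zeta z t i j = zeta z t i j * b := P.zeta_comm hbz (P.S'.z_comm hb)
  have hzz : zeta z t k k * zeta z t k k = 1 := by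
    rw [P.zeta_mul, CharTwo.add_self_eq_zero]; simp [zeta, zb_zero]
  refine ⟨b, zeta z t k k * a, hb, hbz, mul_mem (P.zeta_mem k k).1 ha,
    (Commute.mul_left (P.zeta_tz k k).2 hat).eq, ?_, pm_self _, ?_⟩
  · symm
    calc b * (zeta z t k k * a) = zeta z t k k * (b * a) := by rw [← mul_assoc, hcz]; group
      _ = a * b := by rw [P.swap_eq ha hat hb hbz, ← hk, ← mul_assoc, hzz, one_mul]
  · rw [P.S'.rho_mul _ (P.S'.le (P.zeta_mem k k).2) a (mem_centralizer_singleton_iff.2 hat),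
      P.S'.rho_Q (P.zeta_mem k k).2, one_mul]
    exact pm_self _

/-- Two elements of the second kind seen from the other side. -/
theorem comm_z {r' : G} (hd : d ∈ centralizer ({t} : Set G)) (hdr : d * r = r * d) (hdr' : d * r' = r' * d)
    (h : Co z t Q R π ρ r x y) (h' : Co z t Q R π ρ r' x' y') (hx : qm x = 1) (hx' : qm x' = 1)
    (hxx : pb x x' = 1) : d * z = z * d := by
  obtain ⟨hpx, -⟩ := P.co_perp h
  obtain ⟨hpx', -⟩ := P.co_perp h'
  obtain ⟨a, b, ha, hat, hb, hbz, ea, -, hs⟩ := P.co_symm h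
  obtain ⟨a', b', ha', hat', hb', hbz', ea', -, hs'⟩ := P.co_symm h'
  refine P.symm.comm_t hd hdr hdr' hs hs' ?_ ?_ ?_
  · rw [P.symm.quad_eq ha hat, pm_quad P.p_sing ea hpx, hx]
  · rw [P.symm.quad_eq ha' hat', pm_quad P.p_sing ea' hpx', hx']
  · rw [← P.symm.polar_eq ha hat ha' hat', pm_polar ea (P.perp ha' hat'), pb_comm, pm_polar ea' hpx, pb_comm, hxx]

end Pair

end CfsgLib.SuzType
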