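import Mathlib
import Cfsg.Agent.Lib.SuzType.Local.Frm
import Cfsg.Agent.Lib.SuzType.Local.Outer

/-!
Suzuki type: the subgroup `H` of index two in the Sylow 2-subgroup of `C(r)` and its two elementary subgroups.
-/

set_option autoImplicit false
set_option linter.style.haveILetI false
set_option linter.unusedSectionVars false
set_option linter.unusedSimpArgs false

namespace CfsgLib.SuzType

open Subgroup CfsgLib.Classical

variable {G : Type*} [Group G] [Finite G]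

/-- The centralizer of two elements. -/
def CV (r s : G) : Subgroup G := centralizer ({r} : Set G) ⊓ centralizer ({s} : Set G)

/-- The centralizer of three elements. -/
def HH (z r s : G) : Subgroup G := centralizer ({z} : Set G) ⊓ CV r s

/-- The centralizer of four elements. -/
def AA (z r s a : G) : Subgroup G := HH z r s ⊓ centralizer ({a} : Set G)

/-- A general element of `H`. -/
def wd (z t r s au bu av bv : G) (p : (ZMod 2 × ZMod 2) × (ZMod 2 × ZMod 2) × (ZMod 2 × ZMod 2) × (ZMod 2 × ZMod 2)) :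
    G :=
  zeta z t p.1.1 p.1.2 * zb r p.2.1.1 * zb s p.2.1.2 * zb au p.2.2.1.1 * zb bu p.2.2.1.2 * zb av p.2.2.2.1 *
    zb bv p.2.2.2.2

theorem mem_CV {r s d : G} : d ∈ CV r s ↔ d * r = r * d ∧ d * s = s * d := by
  rw [CV, mem_inf, mem_centralizer_singleton_iff, mem_centralizer_singleton_iff]

theorem mem_HH {z r s d : G} : d ∈ HH z r s ↔ d * z = z * d ∧ d * r = r * d ∧ d * s = s * d := by
  rw [HH, mem_inf, mem_centralizer_singleton_iff, mem_CV]

theorem mem_AA {z r s a d : G} : d ∈ AA z r s a ↔ d ∈ HH z r s ∧ d * a = a * d := by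
  rw [AA, mem_inf, mem_centralizer_singleton_iff]

namespace Frm

variable {z t : G} {Q R : Subgroup G} {π π' : G → V6} {ρ ρ' : G → qAut qm} {r s ω au bu av bv : G}
  {m n u v : V6} (F : Frm z t Q R π π' ρ ρ' r s ω au bu av bv m n u v)

include F

theorem P : Pair z t Q R π π' ρ ρ' := F.C.P

theorem zero_pm : Pm (π t) (0 : V6) := .inl rfl

theorem expand {x y : V6} (hx : pb (π t) x = 0) (hy : pb (π t) y = 0) :
    pb x y = pb x n * pb y m + pb x m * pb y n + (pb x v * pb y u + pb x u * pb y v) := by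
  have hmy := pm_polar (F.B.dec x hx) hy
  rw [hmy, pb_add_left, pb_add_left, pb_add_left, pb_smul_left, pb_smul_left, pb_smul_left, pb_smul_left,
    pb_comm m y, pb_comm n y, pb_comm u y, pb_comm v y]
  ring

theorem expand_q {x : V6} (hx : pb (π t) x = 0) :
    qm x = pb x n + pb x m + pb x n * pb x m + pb x v * pb x u := by
  have hperp : pb (π t) (pb x n • m + pb x m • n + pb x v • u + pb x u • v) = 0 := by
    simp only [pb_add_right, pb_smul_right, F.B.pm, F.B.pn, F.B.pu, F.B.pv]; simp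
  have hq := pm_quad F.P.p_sing (F.B.dec x hx) hperp
  rw [hq]
  simp only [qm_add, quad_smul, pb_add_left, pb_smul_left, pb_smul_right, F.B.m1, F.B.n1, F.B.u0, F.B.v0, F.B.mn,
    F.B.mu, F.B.mv, F.B.nu, F.B.nv, F.B.uv]
  generalize pb x n = i, pb x m = j, pb x v = k, pb x u = l
  revert i j k l
  decide

/-! ### The generators -/

theorem r2 : r * r = 1 := by
  rw [F.P.co_sq F.cr, F.B.m1, F.B.n1, F.B.mn, show (1 : ZMod 2) + 1 = 0 by decide, zeta_zero]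

theorem s2 : s * s = 1 := by
  rw [F.P.co_sq F.cs, F.B.n1, F.B.mn1, pb_add_right, F.B.nm, pb_self, add_zero,
    show (1 : ZMod 2) + 1 = 0 by decide, zeta_zero]

theorem rs : r * s = s * r := by
  rw [F.P.co_commute_iff F.cr F.cs, pb_add_right, pb_add_right, pb_self, F.B.mn, F.B.nm, pb_self]
  decide

theorem au2 : au * au = 1 := by
  rw [F.P.co_sq F.cau, F.B.u0, QuadraticMap.map_zero, pb_zero_right, add_zero, zeta_zero]

theorem bu2 : bu * bu = 1 := by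
  rw [F.P.co_sq F.cbu, F.B.u0, QuadraticMap.map_zero, pb_zero_left, add_zero, zeta_zero]

theorem av2 : av * av = 1 := by
  rw [F.P.co_sq F.cav, F.B.v0, QuadraticMap.map_zero, pb_zero_right, add_zero, zeta_zero]

theorem bv2 : bv * bv = 1 := by
  rw [F.P.co_sq F.cbv, F.B.v0, QuadraticMap.map_zero, pb_zero_left, add_zero, zeta_zero]

/-! ### The coordinates on `H` -/

theorem comm_r_iff {c : G} {x y : V6} (h : Co z t Q R π ρ c x y) :
    c * r = r * c ↔ pb y m = pb x m + pb x n ∧ pb y n = pb x m := by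
  rw [F.P.co_commute_iff h F.cr, pb_comm m y]
  generalize pb x n = i, pb x m = j, pb y n = k, pb y m = l
  revert i j k l
  decide

theorem comm_s_of_r {c : G} {x y : V6} (h : Co z t Q R π ρ c x y) (hc : c * r = r * c) : c * s = s * c := by
  obtain ⟨e1, e2⟩ := (F.comm_r_iff h).1 hc
  rw [F.P.co_commute_iff h F.cs, pb_add_right, pb_add_right, pb_comm n y, e1, e2]
  generalize pb x n = i, pb x m = j
  revert i j
  decide

theorem r_co : r * z = z * r ∧ r * t = t * r := F.P.co_comm_zt F.cr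

theorem s_co : s * z = z * s ∧ s * t = t * s := F.P.co_comm_zt F.cs

theorem comm_t_of_mem {d : G} (hd : d ∈ HH z r s) : d * t = t * d := by
  obtain ⟨h1, h2, h3⟩ := mem_HH.1 hd
  exact F.P.comm_t (mem_centralizer_singleton_iff.2 h1) h2 h3 F.cr F.cs F.B.n1 F.B.mn1
    (by rw [pb_add_right, F.B.nm, pb_self, add_zero])

theorem comm_z_of {d : G} (hd : d * t = t * d) (h2 : d * r = r * d) (h3 : d * s = s * d) : d * z = z * d :=
  F.P.comm_z (mem_centralizer_singleton_iff.2 hd) h2 h3 F.cr F.cs F.B.m1 F.B.n1 F.B.mn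

theorem co_of_cent {d : G} (hz : d * z = z * d) (ht : d * t = t * d) (hr : d * r = r * d) :
    ∃ x y, Co z t Q R π ρ d x y :=
  F.C.co_of_rad (F.C.mem_rad.2 ⟨mem_centralizer_singleton_iff.2 hz, mem_centralizer_singleton_iff.2 ht,
    F.P.inT_cent (mem_centralizer_singleton_iff.2 hz) (mem_centralizer_singleton_iff.2 ht) hr F.cr
      F.B.m1 F.B.n1 F.B.mn⟩)

theorem mem_H_of {d : G} (hz : d * z = z * d) (ht : d * t = t * d) (hr : d * r = r * d) : d ∈ HH z r s := by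
  obtain ⟨x, y, h⟩ := F.co_of_cent hz ht hr
  exact mem_HH.2 ⟨hz, hr, F.comm_s_of_r h hr⟩

theorem mem_H_iff {d : G} : d ∈ HH z r s ↔ ∃ x y, Co z t Q R π ρ d x y ∧
    pb y m = pb x m + pb x n ∧ pb y n = pb x m := by
  constructor
  · intro hd
    obtain ⟨h1, h2, -⟩ := mem_HH.1 hd
    obtain ⟨x, y, h⟩ := F.co_of_cent h1 (F.comm_t_of_mem hd) h2
    exact ⟨x, y, h, (F.comm_r_iff h).1 h2⟩
  · rintro ⟨x, y, h, e⟩
    have hr := (F.comm_r_iff h).2 e
    exact mem_HH.2 ⟨(F.P.co_comm_zt h).1, hr, F.comm_s_of_r h hr⟩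

theorem comm_au_iff {c : G} {x y : V6} (h : Co z t Q R π ρ c x y) :
    c * au = au * c ↔ pb x u = 0 ∧ pb y u = 0 := by
  rw [F.P.co_commute_iff h F.cau, pb_zero_right, pb_zero_right, pb_comm u y]
  generalize pb x u = i, pb y u = j
  revert i j
  decide

theorem comm_bu_iff {c : G} {x y : V6} (h : Co z t Q R π ρ c x y) :
    c * bu = bu * c ↔ pb x u = 0 ∧ pb y u = 0 := by
  rw [F.P.co_commute_iff h F.cbu, pb_zero_right, pb_zero_left]
  generalize pb x u = i, pb y u = j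
  revert i j
  decide

theorem comm_av_iff {c : G} {x y : V6} (h : Co z t Q R π ρ c x y) :
    c * av = av * c ↔ pb x v = 0 ∧ pb y v = 0 := by
  rw [F.P.co_commute_iff h F.cav, pb_zero_right, pb_zero_right, pb_comm v y]
  generalize pb x v = i, pb y v = j
  revert i j
  decide

theorem comm_bv_iff {c : G} {x y : V6} (h : Co z t Q R π ρ c x y) :
    c * bv = bv * c ↔ pb x v = 0 ∧ pb y v = 0 := by
  rw [F.P.co_commute_iff h F.cbv, pb_zero_right, pb_zero_left]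
  generalize pb x v = i, pb y v = j
  revert i j
  decide

/-- The general formula for commuting. -/
theorem comm_iff {c c' : G} {x y x' y' : V6} (h : Co z t Q R π ρ c x y) (h' : Co z t Q R π ρ c' x' y')
    (e : pb y m = pb x m + pb x n ∧ pb y n = pb x m) (e' : pb y' m = pb x' m + pb x' n ∧ pb y' n = pb x' m) :
    c * c' = c' * c ↔
      (pb x v * pb x' u + pb x u * pb x' v) + ((pb x v * pb y' u + pb x u * pb y' v) +
        (pb x' v * pb y u + pb x' u * pb y v)) = 0 ∧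
      (pb y v * pb y' u + pb y u * pb y' v) + ((pb x v * pb y' u + pb x u * pb y' v) +
        (pb x' v * pb y u + pb x' u * pb y v)) = 0 := by
  obtain ⟨p1, p2⟩ := F.P.co_perp h
  obtain ⟨p1', p2'⟩ := F.P.co_perp h'
  rw [F.P.co_commute_iff h h', F.expand p1 p1', F.expand p2 p2', F.expand p1 p2', F.expand p1' p2, e.1, e.2, e'.1,
    e'.2]
  generalize pb x v * pb x' u + pb x u * pb x' v = A, pb y v * pb y' u + pb y u * pb y' v = B,
    pb x v * pb y' u + pb x u * pb y' v = C', pb x' v * pb y u + pb x' u * pb y v = D,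
    pb x n = i, pb x m = j, pb x' n = i', pb x' m = j'
  revert A B C' D i j i' j'
  decide

theorem sq_eq {c : G} {x y : V6} (h : Co z t Q R π ρ c x y)
    (e : pb y m = pb x m + pb x n ∧ pb y n = pb x m) :
    c * c = zeta z t (pb x v * pb x u + (pb x v * pb y u + pb x u * pb y v))
      (pb y v * pb y u + (pb x v * pb y u + pb x u * pb y v)) := by
  obtain ⟨p1, p2⟩ := F.P.co_perp h
  rw [F.P.co_sq h, F.expand_q p1, F.expand_q p2, F.expand p1 p2, e.1, e.2]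
  generalize pb x v * pb x u = A, pb y v * pb y u = B, pb x v * pb y u + pb x u * pb y v = C',
    pb x n = i, pb x m = j
  congr 1
  · revert A C' i j; decide
  · revert B C' i j; decide

/-! ### The two elementary subgroups -/

theorem mem_Au_iff {d : G} : d ∈ AA z r s au ↔ ∃ x y, Co z t Q R π ρ d x y ∧
    (pb y m = pb x m + pb x n ∧ pb y n = pb x m) ∧ pb x u = 0 ∧ pb y u = 0 := by
  rw [mem_AA, F.mem_H_iff]
  constructor
  · rintro ⟨⟨x, y, h, e⟩, hd⟩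
    exact ⟨x, y, h, e, (F.comm_au_iff h).1 hd⟩
  · rintro ⟨x, y, h, e, e'⟩
    exact ⟨⟨x, y, h, e⟩, (F.comm_au_iff h).2 e'⟩

theorem mem_Av_iff {d : G} : d ∈ AA z r s av ↔ ∃ x y, Co z t Q R π ρ d x y ∧
    (pb y m = pb x m + pb x n ∧ pb y n = pb x m) ∧ pb x v = 0 ∧ pb y v = 0 := by
  rw [mem_AA, F.mem_H_iff]
  constructor
  · rintro ⟨⟨x, y, h, e⟩, hd⟩
    exact ⟨x, y, h, e, (F.comm_av_iff h).1 hd⟩
  · rintro ⟨x, y, h, e, e'⟩
    exact ⟨⟨x, y, h, e⟩, (F.comm_av_iff h).2 e'⟩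

theorem Au_eq_bu : AA z r s au = AA z r s bu := by
  ext d
  rw [mem_AA, mem_AA]
  refine and_congr_right fun hd => ?_
  obtain ⟨x, y, h, -⟩ := F.mem_H_iff.1 hd
  rw [F.comm_au_iff h, F.comm_bu_iff h]

theorem Au_comm {c c' : G} (hc : c ∈ AA z r s au) (hc' : c' ∈ AA z r s au) : c * c' = c' * c := by
  obtain ⟨x, y, h, e, a, b⟩ := F.mem_Au_iff.1 hc
  obtain ⟨x', y', h', e', a', b'⟩ := F.mem_Au_iff.1 hc'
  rw [F.comm_iff h h' e e', a, b, a', b']
  simp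

theorem Au_sq {c : G} (hc : c ∈ AA z r s au) : c * c = 1 := by
  obtain ⟨x, y, h, e, a, b⟩ := F.mem_Au_iff.1 hc
  rw [F.sq_eq h e, a, b]
  simp [zeta_zero]

theorem Av_comm {c c' : G} (hc : c ∈ AA z r s av) (hc' : c' ∈ AA z r s av) : c * c' = c' * c := by
  obtain ⟨x, y, h, e, a, b⟩ := F.mem_Av_iff.1 hc
  obtain ⟨x', y', h', e', a', b'⟩ := F.mem_Av_iff.1 hc'
  rw [F.comm_iff h h' e e', a, b, a', b']
  simp

theorem Av_sq {c : G} (hc : c ∈ AA z r s av) : c * c = 1 := by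
  obtain ⟨x, y, h, e, a, b⟩ := F.mem_Av_iff.1 hc
  rw [F.sq_eq h e, a, b]
  simp [zeta_zero]

theorem both_central {c d : G} (hu : c ∈ AA z r s au) (hv : c ∈ AA z r s av) (hd : d ∈ HH z r s) :
    c * d = d * c := by
  obtain ⟨x, y, h, e, a, b⟩ := F.mem_Au_iff.1 hu
  obtain ⟨x', y', h', -, a', b'⟩ := F.mem_Av_iff.1 hv
  obtain ⟨e1, e2⟩ := F.P.co_unique h h'
  rw [← pm_polar e1 F.B.pv] at a'
  rw [← pm_polar e2 F.B.pv] at b'
  obtain ⟨x2, y2, h2, e2'⟩ := F.mem_H_iff.1 hd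
  rw [F.comm_iff h h2 e e2', a, b, a', b']
  simp

theorem mem_Au_of_comm {c d : G} (hc : c ∈ AA z r s au) (hcv : c ∉ AA z r s av) (hd : d ∈ HH z r s)
    (hcd : c * d = d * c) : d ∈ AA z r s au := by
  obtain ⟨x, y, h, e, a, b⟩ := F.mem_Au_iff.1 hc
  obtain ⟨x', y', h', e'⟩ := F.mem_H_iff.1 hd
  have hne : ¬ (pb x v = 0 ∧ pb y v = 0) := fun hxy => hcv (F.mem_Av_iff.2 ⟨x, y, h, e, hxy⟩)
  obtain ⟨g1, g2⟩ := (F.comm_iff h h' e e').1 hcd
  refine F.mem_Au_iff.2 ⟨x', y', h', e', ?_⟩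
  rw [a, b] at g1 g2
  revert hne g1 g2
  generalize pb x v = i, pb y v = j, pb x' u = k, pb y' u = l, pb x' v = i', pb y' v = j'
  revert i j k l i' j'
  decide

theorem mem_Av_of_comm {c d : G} (hc : c ∈ AA z r s av) (hcu : c ∉ AA z r s au) (hd : d ∈ HH z r s)
    (hcd : c * d = d * c) : d ∈ AA z r s av := by
  obtain ⟨x, y, h, e, a, b⟩ := F.mem_Av_iff.1 hc
  obtain ⟨x', y', h', e'⟩ := F.mem_H_iff.1 hd
  have hne : ¬ (pb x u = 0 ∧ pb y u = 0) := fun hxy => hcu (F.mem_Au_iff.2 ⟨x, y, h, e, hxy⟩)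
  obtain ⟨g1, g2⟩ := (F.comm_iff h h' e e').1 hcd
  refine F.mem_Av_iff.2 ⟨x', y', h', e', ?_⟩
  rw [a, b] at g1 g2
  revert hne g1 g2
  generalize pb x u = i, pb y u = j, pb x' u = k, pb y' u = l, pb x' v = i', pb y' v = j'
  revert i j k l i' j'
  decide

/-- Squares and commutators of `H` lie in the four group. -/
theorem sq_zeta {c : G} (hc : c ∈ HH z r s) : ∃ i j, c * c = zeta z t i j := by
  obtain ⟨x, y, h, e⟩ := F.mem_H_iff.1 hc
  exact ⟨_, _, F.sq_eq h e⟩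

theorem comm_zeta {c c' : G} (hc : c ∈ HH z r s) (hc' : c' ∈ HH z r s) :
    ∃ i j, c * c' * c⁻¹ = zeta z t i j * c' := by
  obtain ⟨x, y, h, -⟩ := F.mem_H_iff.1 hc
  obtain ⟨x', y', h', -⟩ := F.mem_H_iff.1 hc'
  have hh := F.P.co_comm h h'
  generalize pb x x' + (pb x y' + pb x' y) = i, pb y y' + (pb x y' + pb x' y) = j at hh
  exact ⟨i, j, by rw [hh]; group⟩

/-! ### Counting -/

theorem co_zb {c : G} {x y : V6} (h : Co z t Q R π ρ c x y) (i : ZMod 2) :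
    Co z t Q R π ρ (zb c i) (i • x) (i • y) := by
  rcases two_cases i with rfl | rfl
  · rw [zb_zero, zero_smul, zero_smul, ← zeta_zero z t]; exact F.P.co_zeta 0 0
  · rw [zb_one, one_smul, one_smul]; exact h

theorem co_wd (p : (ZMod 2 × ZMod 2) × (ZMod 2 × ZMod 2) × (ZMod 2 × ZMod 2) × (ZMod 2 × ZMod 2)) :
    Co z t Q R π ρ (wd z t r s au bu av bv p)
      (p.2.1.1 • m + p.2.1.2 • n + p.2.2.1.1 • u + p.2.2.2.1 • v)
      (p.2.1.1 • n + p.2.1.2 • (m + n) + p.2.2.1.2 • u + p.2.2.2.2 • v) := by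
  have P := F.P
  have h := P.co_mul (P.co_mul (P.co_mul (P.co_mul (P.co_mul (P.co_mul (P.co_zeta p.1.1 p.1.2) (F.co_zb F.cr p.2.1.1))
    (F.co_zb F.cs p.2.1.2)) (F.co_zb F.cau p.2.2.1.1)) (F.co_zb F.cbu p.2.2.1.2)) (F.co_zb F.cav p.2.2.2.1))
    (F.co_zb F.cbv p.2.2.2.2)
  simp only [smul_zero, add_zero, zero_add] at h
  exact h

theorem wd_coords (p : (ZMod 2 × ZMod 2) × (ZMod 2 × ZMod 2) × (ZMod 2 × ZMod 2) × (ZMod 2 × ZMod 2))
    {x y : V6} (h : Co z t Q R π ρ (wd z t r s au bu av bv p) x y) :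
    pb x n = p.2.1.1 ∧ pb x m = p.2.1.2 ∧ pb y m = p.2.1.1 + p.2.1.2 ∧ pb y n = p.2.1.2 ∧
      pb x v = p.2.2.1.1 ∧ pb y v = p.2.2.1.2 ∧ pb x u = p.2.2.2.1 ∧ pb y u = p.2.2.2.2 := by
  obtain ⟨ex, ey⟩ := F.P.co_unique h (F.co_wd p)
  rw [pm_polar ex F.B.pn, pm_polar ex F.B.pm, pm_polar ey F.B.pm, pm_polar ey F.B.pn, pm_polar ex F.B.pv,
    pm_polar ey F.B.pv, pm_polar ex F.B.pu, pm_polar ey F.B.pu]
  simp only [pb_add_left, pb_smul_left, pb_self, F.B.mn, F.B.nm, F.B.mu, F.B.mv, F.B.nu, F.B.nv, F.B.um, F.B.un,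
    F.B.vm, F.B.vn, F.B.uv, F.B.vu, mul_one, mul_zero, add_zero, zero_add, true_and, and_true, and_self]

theorem wd_mem (p : (ZMod 2 × ZMod 2) × (ZMod 2 × ZMod 2) × (ZMod 2 × ZMod 2) × (ZMod 2 × ZMod 2)) :
    wd z t r s au bu av bv p ∈ HH z r s := by
  obtain ⟨e1, e2, e3, e4, -⟩ := F.wd_coords p (F.co_wd p)
  exact F.mem_H_iff.2 ⟨_, _, F.co_wd p, by rw [e1, e2, e3, add_comm], by rw [e2, e4]⟩

theorem wd_surj {c : G} (hc : c ∈ HH z r s) : ∃ p, c = wd z t r s au bu av bv p := by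
  obtain ⟨x, y, h, e⟩ := F.mem_H_iff.1 hc
  obtain ⟨p1, p2⟩ := F.P.co_perp h
  set q : (ZMod 2 × ZMod 2) × (ZMod 2 × ZMod 2) × (ZMod 2 × ZMod 2) :=
    ((pb x n, pb x m), (pb x v, pb y v), (pb x u, pb y u)) with hq
  set w := wd z t r s au bu av bv ((0, 0), q) with hw
  have hX : Pm (π t) (x + (q.1.1 • m + q.1.2 • n + q.2.1.1 • u + q.2.2.1 • v)) := F.B.dec x p1
  have hY : Pm (π t) (y + (q.1.1 • n + q.1.2 • (m + n) + q.2.1.2 • u + q.2.2.2 • v)) := by
    have := F.B.dec y p2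
    rw [e.1, e.2] at this
    convert this using 2
    rw [hq, smul_add, add_smul]
    abel
  have hwc := F.co_wd ((0, 0), q)
  obtain ⟨i, j, hij⟩ := F.P.co_zero (F.P.co_mul h hwc) hX hY
  obtain ⟨k, l, hkl⟩ := F.P.co_zero (F.P.co_mul hwc hwc) (.inl (add_self6 _)) (.inl (add_self6 _))
  refine ⟨((i + k, j + l), q), ?_⟩
  have hwd : ∀ a b, wd z t r s au bu av bv ((a, b), q) = zeta z t a b * w := fun a b => by
    simp [hw, wd, zeta_zero, mul_assoc]
  rw [hwd, ← F.P.zeta_mul, ← hw] at *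
  have hzz : zeta z t k l * zeta z t k l = 1 := by
    rw [F.P.zeta_mul, CharTwo.add_self_eq_zero, CharTwo.add_self_eq_zero, zeta_zero]
  calc c = c * w * (w * w)⁻¹ * w := by group
    _ = zeta z t i j * zeta z t k l * w := by rw [hij, hkl, inv_eq_of_mul_eq_one_right hzz]

theorem wd_inj : Function.Injective (wd z t r s au bu av bv) := by
  intro p p' h
  have hp := F.co_wd p
  obtain ⟨a1, a2, -, -, a5, a6, a7, a8⟩ := F.wd_coords p hp
  obtain ⟨b1, b2, -, -, b5, b6, b7, b8⟩ := F.wd_coords p' (h ▸ hp)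
  have e1 : p.2.1 = p'.2.1 := Prod.ext (a1.symm.trans b1) (a2.symm.trans b2)
  have e2 : p.2.2.1 = p'.2.2.1 := Prod.ext (a5.symm.trans b5) (a6.symm.trans b6)
  have e3 : p.2.2.2 = p'.2.2.2 := Prod.ext (a7.symm.trans b7) (a8.symm.trans b8)
  have e : p.2 = p'.2 := Prod.ext e1 (Prod.ext e2 e3)
  simp only [wd, e] at h
  obtain ⟨f1, f2⟩ : p.1.1 + p'.1.1 = 0 ∧ p.1.2 + p'.1.2 = 0 := by
    refine F.P.zeta_eq_one ?_
    rw [← F.P.zeta_mul, mul_right_cancel (mul_right_cancel (mul_right_cancel (mul_right_cancel (mul_right_cancel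
      (mul_right_cancel h))))), F.P.zeta_mul, CharTwo.add_self_eq_zero, CharTwo.add_self_eq_zero, zeta_zero]
  exact Prod.ext (Prod.ext (CharTwo.add_eq_zero.1 f1) (CharTwo.add_eq_zero.1 f2)) e

theorem card_H : Nat.card (HH z r s) = 256 := by
  rw [← Nat.card_congr (Equiv.ofBijective (fun p => (⟨_, F.wd_mem p⟩ : HH z r s))
    ⟨fun p q h => F.wd_inj (congrArg Subtype.val h),
      fun c => (F.wd_surj c.2).elim fun p hp => ⟨p, Subtype.ext hp.symm⟩⟩)]
  simp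

theorem card_Au : Nat.card (AA z r s au) = 64 := by
  let f : (ZMod 2 × ZMod 2) × (ZMod 2 × ZMod 2) × (ZMod 2 × ZMod 2) → AA z r s au := fun p =>
    ⟨wd z t r s au bu av bv (p.1, p.2.1, p.2.2, (0, 0)), by
      obtain ⟨e1, e2, e3, e4, -, -, e7, e8⟩ :=
        F.wd_coords (p.1, p.2.1, p.2.2, (0, 0)) (F.co_wd (p.1, p.2.1, p.2.2, (0, 0)))
      exact F.mem_Au_iff.2 ⟨_, _, F.co_wd _, ⟨by rw [e1, e2, e3, add_comm], by rw [e2, e4]⟩, e7, e8⟩⟩
  rw [← Nat.card_congr (Equiv.ofBijective f ⟨fun p q h => by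
    have h' := F.wd_inj (congrArg Subtype.val h)
    simp only [Prod.mk.injEq] at h'
    exact Prod.ext h'.1 (Prod.ext h'.2.1 h'.2.2.1), fun c => by
      obtain ⟨x, y, h, -, hxu, hyu⟩ := F.mem_Au_iff.1 c.2
      obtain ⟨⟨a, b, q, w⟩, hp⟩ := F.wd_surj (mem_AA.1 c.2).1
      obtain ⟨-, -, -, -, -, -, e7, e8⟩ := F.wd_coords (a, b, q, w) (hp ▸ h)
      refine ⟨(a, b, q), Subtype.ext ?_⟩
      show wd z t r s au bu av bv (a, b, q, (0, 0)) = c
      rw [hp, show w = (0, 0) from Prod.ext (e7.symm.trans hxu) (e8.symm.trans hyu)]⟩)]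
  simp

theorem card_both : Nat.card ↥(AA z r s au ⊓ AA z r s av) = 16 := by
  let f : (ZMod 2 × ZMod 2) × (ZMod 2 × ZMod 2) → ↥(AA z r s au ⊓ AA z r s av) := fun p =>
    ⟨wd z t r s au bu av bv (p.1, p.2, (0, 0), (0, 0)), by
      obtain ⟨e1, e2, e3, e4, e5, e6, e7, e8⟩ :=
        F.wd_coords (p.1, p.2, (0, 0), (0, 0)) (F.co_wd (p.1, p.2, (0, 0), (0, 0)))
      exact ⟨F.mem_Au_iff.2 ⟨_, _, F.co_wd _, ⟨by rw [e1, e2, e3, add_comm], by rw [e2, e4]⟩, e7, e8⟩,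
        F.mem_Av_iff.2 ⟨_, _, F.co_wd _, ⟨by rw [e1, e2, e3, add_comm], by rw [e2, e4]⟩, e5, e6⟩⟩⟩
  rw [← Nat.card_congr (Equiv.ofBijective f ⟨fun p q h => by
    have h' := F.wd_inj (congrArg Subtype.val h)
    simp only [Prod.mk.injEq] at h'
    exact Prod.ext h'.1 h'.2.1, fun c => by
      obtain ⟨x, y, h, -, hxu, hyu⟩ := F.mem_Au_iff.1 c.2.1
      obtain ⟨x', y', h', -, hxv, hyv⟩ := F.mem_Av_iff.1 c.2.2
      obtain ⟨⟨a, b, q, w⟩, hp⟩ := F.wd_surj (mem_AA.1 c.2.1).1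
      obtain ⟨-, -, -, -, -, -, e7, e8⟩ := F.wd_coords (a, b, q, w) (hp ▸ h)
      obtain ⟨-, -, -, -, e5, e6, -, -⟩ := F.wd_coords (a, b, q, w) (hp ▸ h')
      refine ⟨(a, b), Subtype.ext ?_⟩
      show wd z t r s au bu av bv (a, b, (0, 0), (0, 0)) = c
      rw [hp, show w = (0, 0) from Prod.ext (e7.symm.trans hxu) (e8.symm.trans hyu),
        show q = (0, 0) from Prod.ext (e5.symm.trans hxv) (e6.symm.trans hyv)]⟩)]
  simp

theorem wd_split (p : (ZMod 2 × ZMod 2) × (ZMod 2 × ZMod 2) × (ZMod 2 × ZMod 2) × (ZMod 2 × ZMod 2)) :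
    ∃ a ∈ AA z r s au, ∃ b ∈ AA z r s av, wd z t r s au bu av bv p = a * b := by
  have h1 := F.wd_coords (p.1, p.2.1, p.2.2.1, (0, 0)) (F.co_wd _)
  have h2 := F.wd_coords ((0, 0), (0, 0), (0, 0), p.2.2.2) (F.co_wd _)
  refine ⟨_, F.mem_Au_iff.2 ⟨_, _, F.co_wd (p.1, p.2.1, p.2.2.1, (0, 0)),
    ⟨by rw [h1.1, h1.2.1, h1.2.2.1, add_comm], by rw [h1.2.1, h1.2.2.2.1]⟩, h1.2.2.2.2.2.2.1, h1.2.2.2.2.2.2.2⟩,
    _, F.mem_Av_iff.2 ⟨_, _, F.co_wd ((0, 0), (0, 0), (0, 0), p.2.2.2),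
    ⟨by rw [h2.1, h2.2.1, h2.2.2.1], by rw [h2.2.1, h2.2.2.2.1]⟩, h2.2.2.2.2.1, h2.2.2.2.2.2.1⟩, ?_⟩
  simp [wd, zeta_zero, zb_zero, mul_assoc]

end Frm

end CfsgLib.SuzType
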