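import Mathlib
import Cfsg.Agent.Lib.SuzType.Local.Frm

/-!
Suzuki type: an element centralizing a fixed four group and moving `z` by `u`.
-/

set_option autoImplicit false
set_option linter.style.haveILetI false
set_option linter.unusedSectionVars false
set_option linter.unusedSimpArgs false

namespace CfsgLib.SuzType

open Subgroup CfsgLib.Classical

variable {G : Type*} [Group G] [Finite G]

theorem exists_dual : ∀ (l : List V6) (p : V6), p ∉ Submodule.span (ZMod 2) {x | x ∈ l} →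
    ∃ y, pb p y = 1 ∧ ∀ x ∈ l, pb x y = 0
  | [], p, h => by
    by_contra hc
    push Not at hc
    refine h ?_
    rw [pb_nondeg (v := p) fun y => (two_cases _).resolve_right fun e => by simpa using hc y e]
    exact zero_mem _
  | w :: l, p, h => by
    have hsub : Submodule.span (ZMod 2) {x | x ∈ l} ≤ Submodule.span (ZMod 2) {x | x ∈ w :: l} :=
      Submodule.span_mono fun x hx => List.mem_cons_of_mem w hx
    have hw : w ∈ Submodule.span (ZMod 2) {x | x ∈ w :: l} := Submodule.subset_span List.mem_cons_self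
    obtain ⟨y, hy, hyl⟩ := exists_dual l p fun h' => h (hsub h')
    rcases two_cases (pb w y) with e | e
    · exact ⟨y, hy, fun x hx => (List.mem_cons.1 hx).elim (fun ex => ex ▸ e) (hyl x)⟩
    obtain ⟨y', hy', hyl'⟩ := exists_dual l (p + w) fun h' =>
      h (by rw [show p = (p + w) + w by rw [add_assoc, add_self6, add_zero]]; exact add_mem (hsub h') hw)
    rw [pb_add_left] at hy'
    rcases two_cases (pb p y') with e' | e'
    · rw [e', zero_add] at hy'
      refine ⟨y + y', by rw [pb_add_right, hy, e', add_zero], fun x hx => ?_⟩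
      rcases List.mem_cons.1 hx with rfl | hx
      · rw [pb_add_right, e, hy']; decide
      · rw [pb_add_right, hyl x hx, hyl' x hx, add_zero]
    · rw [e'] at hy'
      refine ⟨y', e', fun x hx => ?_⟩
      rcases List.mem_cons.1 hx with rfl | hx
      · exact add_eq_left.1 hy'
      · exact hyl' x hx

theorem eq_add6 {a b c : V6} (h : a + b = c) : a = b + c := by rw [← h, add_comm a, add_cancel6]

theorem qAut_invol_adjoint {g : qAut qm} (hg : g * g = 1) (x y : V6) : pb (g.1 x + x) y = pb x (g.1 y + y) := by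
  rw [pb_add_left, pb_add_right]
  congr 1
  conv_lhs => rw [← show g.1 (g.1 y) = y by rw [← qAut_mul_apply, hg]; rfl]
  exact pb_map g x (g.1 y)

theorem qAut_fix_of_perp {g : qAut qm} (hg : g * g = 1) {y : V6} (h : ∀ v, pb (g.1 v + v) y = 0) : g.1 y = y :=
  CharTwo.add_eq_zero.1 (funext fun i => congrFun (pb_nondeg (v := g.1 y + y) fun w => by
    rw [pb_comm, ← qAut_invol_adjoint hg, h]) i)

/-- The image of `g + 1` is spanned by two of its independent members. -/
theorem image_two {g : qAut qm} (hev : g ∈ Ev) (hg : g * g = 1) {a b v₁ v₂ : V6} (ha : g.1 v₁ + v₁ = a)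
    (hb : g.1 v₂ + v₂ = b) (ha0 : a ≠ 0) (hb0 : b ≠ 0) (hab : a + b ≠ 0) (v : V6) :
    g.1 v + v ∈ Submodule.span (ZMod 2) {a, b} := by
  have h2 : ∀ x, g.1 (g.1 x) = x := fun x => by rw [← qAut_mul_apply, hg]; rfl
  have h1 : g ≠ 1 := fun e => ha0 (by rw [← ha, e]; exact add_self6 v₁)
  obtain ⟨p₁, hp₁, hin⟩ := exists_inT_of_invol hev h2 h1
  have hform := inT_formula hp₁ hin
  rw [hform] at ha hb
  rw [hform]
  set T := tv p₁ g with hT
  generalize pb p₁ v₁ = α, pb (v₁ + pb p₁ v₁ • pt p₁) T = β, pb p₁ v₂ = γ, pb (v₂ + pb p₁ v₂ • pt p₁) T = δ,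
    pb p₁ v = i, pb (v + pb p₁ v • pt p₁) T = j at ha hb ⊢
  have hdet : α * δ + β * γ = 1 := by
    by_contra hd
    have hd' := (two_cases _).resolve_right hd
    rcases two_cases α with rfl | rfl <;> rcases two_cases β with rfl | rfl <;>
      rcases two_cases γ with rfl | rfl <;> rcases two_cases δ with rfl | rfl <;>
      simp only [zero_smul, one_smul, zero_add, add_zero] at ha hb <;>
      first
        | exact absurd ha.symm ha0
        | exact absurd hb.symm hb0
        | exact absurd hd' (by decide)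
        | (subst ha; subst hb; exact hab (add_self6 _))
  have key : i • T + j • p₁ = (i * δ + j * γ) • a + (i * β + j * α) • b := by
    rw [← ha, ← hb]
    funext k
    simp only [Pi.add_apply, Pi.smul_apply, smul_eq_mul]
    generalize T k = A, p₁ k = B
    clear ha hb
    revert hdet
    revert α β γ δ i j A B
    decide
  rw [key]
  exact add_mem (Submodule.smul_mem _ _ (Submodule.subset_span (by simp)))
    (Submodule.smul_mem _ _ (Submodule.subset_span (by simp)))

namespace Pair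

variable {z u : G} {Q R : Subgroup G} {π π' : G → V6} {ρ ρ' : G → qAut qm}
  (P : Pair z u Q R π π' ρ ρ')

include P

theorem chart_mul {c c' : G} (hc : c ∈ R) (hcz : c * z = z * c) (hc' : c' ∈ R) (hcz' : c' * z = z * c') {x x' : V6}
    (h : Pm (π u) (tv (π u) (ρ c) + x)) (h' : Pm (π u) (tv (π u) (ρ c') + x')) :
    Pm (π u) (tv (π u) (ρ (c * c')) + (x + x')) :=
  pm_trans (P.w_mul hc hcz hc' hcz') (pm_add_add h h')

theorem chart_inv {c : G} (hc : c ∈ R) (hcz : c * z = z * c) :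
    Pm (π u) (tv (π u) (ρ c⁻¹) + tv (π u) (ρ c)) := by
  have h := P.w_mul (inv_mem hc) (Commute.inv_left (show Commute c z from hcz)).eq hc hcz
  rwa [inv_mul_cancel, P.S.rho_one, tv_one, zero_add] at h

/-- Commutators in the chart. -/
theorem chart_commutator {g : G} (hgz : g * z = z * g) (hgu : g * u = u * g) {x : V6} (hx : pb (π u) x = 0) :
    ∃ d ∈ R, d * z = z * d ∧ (∃ v, π' d = (ρ' g).1 v + v) ∧
      Pm (π u) (tv (π u) (ρ d) + ((ρ g).1 x + x)) := by
  obtain ⟨c, hc, hcz, hcx⟩ := P.w_surj hx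
  have hgC : g ∈ centralizer ({z} : Set G) := mem_centralizer_singleton_iff.2 hgz
  have hgU : g ∈ centralizer ({u} : Set G) := mem_centralizer_singleton_iff.2 hgu
  have h1 : g * c * g⁻¹ ∈ R := P.S'.conj_mem hgU hc
  have h2 : g * c * g⁻¹ * z = z * (g * c * g⁻¹) :=
    (Commute.mul_left (Commute.mul_left (show Commute g z from hgz) hcz) (Commute.inv_left hgz)).eq
  refine ⟨g * c * g⁻¹ * c⁻¹, mul_mem h1 (inv_mem hc),
    (Commute.mul_left (show Commute (g * c * g⁻¹) z from h2) (Commute.inv_left hcz)).eq, ⟨π' c, ?_⟩, ?_⟩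
  · rw [P.S'.pi_mul _ h1 _ (inv_mem hc), P.S'.rho_pi g hgU c hc, P.S'.pi_inv hc]
  · refine P.chart_mul h1 h2 (inv_mem hc) (Commute.inv_left (show Commute c z from hcz)).eq ?_
      (pm_trans (P.chart_inv hc hcz) hcx)
    refine pm_trans (P.w_conj hc hcz hgC hgU) ?_
    rw [← map_add]
    exact pm_map (P.rho_p hgC hgU) hcx

/-- An element centralizing `r`, `s` and moving `z` by `u`. -/
theorem exists_mover {r s ω : G} (hrz : r * z = z * r) (hru : r * u = u * r) (hsz : s * z = z * s)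
    (hsu : s * u = u * s) (hr2 : r * r = 1) (hs2 : s * s = 1) (hrs : r * s = s * r) (hw3 : ω * ω * ω = 1)
    (hwz : ω * z = z * ω) (hwu : ω * u = u * ω) (hws : s = ω * r * ω⁻¹) (hprod : r * s * (ω * s * ω⁻¹) = 1)
    {p nr ns : V6} (hp : Sing p) (hpu : pb p (π u) = 0) (Tr : InT p (ρ r)) (hTr : Pm p (tv p (ρ r) + nr))
    (Ts : InT p (ρ s)) (hTs : Pm p (tv p (ρ s) + ns)) (hunr : pb (π u) nr = 0) (huns : pb (π u) ns = 0)
    (hwp : (ρ ω).1 p = p)
    (hind : ∀ α β γ : ZMod 2, Pm (π u) (α • p + β • nr + γ • ns) → α = 0 ∧ β = 0 ∧ γ = 0) :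
    ∃ q ∈ R, q * r = r * q ∧ q * s = s * q ∧ q * z * q⁻¹ = u * z := by
  classical
  have hC : ∀ {x : G}, x * z = z * x → x ∈ centralizer ({z} : Set G) := fun h => mem_centralizer_singleton_iff.2 h
  have hU : ∀ {x : G}, x * u = u * x → x ∈ centralizer ({u} : Set G) := fun h => mem_centralizer_singleton_iff.2 h
  -- the three vectors
  obtain ⟨w, hwn, hw'⟩ := exists_dual [p, π u] nr fun h => by
    rw [show ({x | x ∈ [p, π u]} : Set V6) = {p, π u} by ext; simp, Submodule.mem_span_pair] at h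
    obtain ⟨α, β, h⟩ := h
    have := (hind α 1 0 (by
      rw [one_smul, zero_smul, add_zero, ← h, ← add_assoc, add_self6, zero_add]
      rcases two_cases β with rfl | rfl
      · exact .inl (zero_smul _ _)
      · exact .inr (one_smul _ _))).2.1
    exact one_ne_zero this
  obtain ⟨x, hxp, hxu⟩ := exists_dual [π u] p fun h => by
    rw [show ({x | x ∈ [π u]} : Set V6) = {π u} by ext; simp, Submodule.mem_span_singleton] at h
    obtain ⟨β, h⟩ := h
    have := (hind 1 0 0 (by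
      rw [one_smul, zero_smul, zero_smul, add_zero, add_zero, ← h]
      rcases two_cases β with rfl | rfl
      · exact .inl (zero_smul _ _)
      · exact .inr (one_smul _ _))).1
    exact one_ne_zero this
  have hxu' : pb (π u) x = 0 := hxu _ (by simp)
  have hwu' : pb (π u) w = 0 := hw' _ (by simp)
  have hwp' : pb p w = 0 := hw' _ (by simp)
  have epu : ∀ {n : V6} {T : V6}, Pm p (T + n) → pb (π u) n = 0 → pb (π u) T = 0 := fun h h' => by
    rcases h with e | e
    · rw [CharTwo.add_eq_zero.1 (funext fun i => congrFun e i)]; exact h'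
    · have := congrArg (pb (π u)) e
      rw [pb_add_right, h', add_zero, pb_comm (π u) p, hpu] at this
      exact this
  have ewr : (ρ r).1 w + w = p := by
    rw [inT_apply hp Tr hwp', pb_comm w, pm_polar hTr hwp', hwn, one_smul]
  obtain ⟨d, hd, hdz, ⟨v₁, hd1⟩, hdχ⟩ := P.chart_commutator hrz hru hwu'
  rw [ewr] at hdχ
  obtain ⟨e, he, hez, ⟨v₂, he1⟩, heχ⟩ := P.chart_commutator hrz hru hxu'
  obtain ⟨f, hf, hfz, ⟨v₃, hf1⟩, hfχ⟩ := P.chart_commutator hsz hsu hxu'
  rw [inT_formula hp Tr, hxp, one_smul] at heχ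
  rw [inT_formula hp Ts, hxp, one_smul] at hfχ
  generalize pb (x + (1 : ZMod 2) • pt p) (tv p (ρ r)) = k at heχ
  generalize pb (x + (1 : ZMod 2) • pt p) (tv p (ρ s)) = l at hfχ
  obtain ⟨k', hk'⟩ : ∃ k' : ZMod 2, tv p (ρ r) + k • p = k' • p + nr := by
    rcases hTr with h | h
    · exact ⟨k, by rw [CharTwo.add_eq_zero.1 (funext fun i => congrFun h i), add_comm]⟩
    · refine ⟨1 + k, ?_⟩
      rw [eq_add6 h, add_smul, one_smul]
      abel
  obtain ⟨l', hl'⟩ : ∃ l' : ZMod 2, tv p (ρ s) + l • p = l' • p + ns := by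
    rcases hTs with h | h
    · exact ⟨l, by rw [CharTwo.add_eq_zero.1 (funext fun i => congrFun h i), add_comm]⟩
    · refine ⟨1 + l, ?_⟩
      rw [eq_add6 h, add_smul, one_smul]
      abel
  rw [hk'] at heχ
  rw [hl'] at hfχ
  set pz := π' z with hpz
  -- no combination reaches `z`
  have hzb : ∀ {c : G} {y : V6} (i : ZMod 2), c ∈ R → c * z = z * c → Pm (π u) (tv (π u) (ρ c) + y) →
      zb c i ∈ R ∧ zb c i * z = z * zb c i ∧ π' (zb c i) = i • π' c ∧
        Pm (π u) (tv (π u) (ρ (zb c i)) + i • y) := by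
    intro c y i h1 h2 h3
    rcases two_cases i with rfl | rfl
    · rw [zb_zero, zero_smul, zero_smul, P.S.rho_one, tv_one, add_zero]
      exact ⟨one_mem _, by simp, P.S'.pi_one, .inl rfl⟩
    · rw [zb_one, one_smul, one_smul]; exact ⟨h1, h2, rfl, h3⟩
  have hcomb : ∀ α β γ : ZMod 2, Pm pz (α • π' d + β • π' e + γ • π' f) → α = 0 ∧ β = 0 ∧ γ = 0 := by
    intro α β γ h
    obtain ⟨a1, a2, a3, a4⟩ := hzb α hd hdz hdχ
    obtain ⟨b1, b2, b3, b4⟩ := hzb β he hez heχ
    obtain ⟨c1, c2, c3, c4⟩ := hzb γ hf hfz hfχ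
    have hab : zb d α * zb e β * z = z * (zb d α * zb e β) :=
      (Commute.mul_left (show Commute (zb d α) z from a2) b2).eq
    have hm := P.chart_mul (mul_mem a1 b1) hab c1 c2 (P.chart_mul a1 a2 b1 b2 a4 b4) c4
    have hQ : zb d α * zb e β * zb f γ ∈ Q := P.symm.mem_E_of_pm (mul_mem (mul_mem a1 b1) c1) (by
      rw [P.S'.pi_mul _ (mul_mem a1 b1) _ c1, P.S'.pi_mul _ a1 _ b1, a3, b3, c3]; exact h)
    rw [P.S.rho_Q hQ, tv_one, zero_add] at hm
    have e2 : α • p + β • (k' • p + nr) + γ • (l' • p + ns) = (α + β * k' + γ * l') • p + β • nr + γ • ns := by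
      simp only [smul_add, smul_smul, add_smul]; abel
    rw [e2] at hm
    obtain ⟨g1, g2, g3⟩ := hind _ _ _ hm
    subst g2; subst g3
    exact ⟨by simpa using g1, rfl, rfl⟩
  have hind' : ∀ α β γ : ZMod 2, α • π' d + β • π' e + γ • π' f = 0 → α = 0 ∧ β = 0 ∧ γ = 0 :=
    fun α β γ h => hcomb α β γ (.inl h)
  -- the action on the chart of `u`
  have hinv : ∀ {g : G}, g * u = u * g → g * g = 1 → ρ' g * ρ' g = 1 := fun h h2 => by
    rw [← P.S'.rho_mul _ (hU h) _ (hU h), h2, P.S'.rho_one]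
  have d0 : π' d ≠ 0 := fun h => one_ne_zero (hind' 1 0 0 (by simp [h])).1
  have hr_im : ∀ v, (ρ' r).1 v + v ∈ Submodule.span (ZMod 2) {π' d, π' e} :=
    image_two (P.S'.rho_mem (hU hru)) (hinv hru hr2) hd1.symm he1.symm d0
      (fun h => one_ne_zero (hind' 0 1 0 (by simp [h])).2.1)
      (fun h => one_ne_zero (hind' 1 1 0 (by simp [h])).1)
  set O := ρ' ω with hO
  have hO3 : ∀ v, O.1 (O.1 (O.1 v)) = v := fun v => by
    rw [← qAut_mul_apply, ← qAut_mul_apply, hO, ← P.S'.rho_mul ω (hU hwu) ω (hU hwu),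
      ← P.S'.rho_mul _ (mul_mem (hU hwu) (hU hwu)) ω (hU hwu), hw3, P.S'.rho_one]
    rfl
  have hOs : ∀ v, (ρ' s).1 (O.1 v) = O.1 ((ρ' r).1 v) := fun v => by
    rw [← qAut_mul_apply, ← qAut_mul_apply, hO, ← P.S'.rho_mul s (hU hsu) ω (hU hwu),
      ← P.S'.rho_mul ω (hU hwu) r (hU hru), hws]
    congr 3
    group
  have hOz : O.1 pz = pz := P.symm.rho_p (hU hwu) (hC hwz)
  obtain ⟨dω, hdω⟩ : ∃ d', d' = ω * d * ω⁻¹ := ⟨_, rfl⟩
  have hdwR : dω ∈ R := hdω ▸ P.S'.conj_mem (hU hwu) hd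
  have hdwz : dω * z = z * dω := hdω ▸
    (Commute.mul_left (Commute.mul_left (show Commute ω z from hwz) hdz) (Commute.inv_left hwz)).eq
  have hdwχ : Pm (π u) (tv (π u) (ρ dω) + p) := by
    refine pm_trans (hdω ▸ P.w_conj hd hdz (hC hwz) (hU hwu)) ?_
    have := pm_map (P.rho_p (hC hwz) (hU hwu)) hdχ
    rwa [map_add, hwp] at this
  have hOd : O.1 (π' d) = π' d := by
    have h1 : Pm (π u) (tv (π u) (ρ (dω * d)) + (p + p)) := P.chart_mul hdwR hdwz hd hdz hdwχ hdχ
    rw [add_self6, add_zero] at h1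
    have hQ : dω * d ∈ Q :=
      (P.w_pm_iff (mul_mem hdwR hd) (Commute.mul_left (show Commute dω z from hdwz) hdz).eq).1 h1
    obtain ⟨i, j, hij⟩ : ∃ i j, dω * d = zb z i * zb u j := by
      rcases P.E_cases hQ (mul_mem hdwR hd) with h | h | h | h <;> rw [h]
      exacts [⟨0, 0, by simp [zb_zero]⟩, ⟨1, 0, by simp [zb_zero, zb_one]⟩, ⟨0, 1, by simp [zb_zero, zb_one]⟩,
        ⟨1, 1, by simp [zb_one]⟩]
    have h2 : π' dω + π' d = i • pz := by
      rw [← P.S'.pi_mul _ hdwR d hd, hij]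
      rcases two_cases i with rfl | rfl <;> rcases two_cases j with rfl | rfl <;>
        simp [zb_zero, zb_one, P.S'.pi_one, P.S'.pi_z, P.S'.pi_mul z P.zR u P.S'.zQ, hpz]
    rw [hdω, P.S'.rho_pi ω (hU hwu) d hd, ← hO] at h2
    have h3 := hO3 (π' d)
    have e1 : O.1 (π' d) = π' d + i • pz := by
      rw [← h2, add_comm (O.1 _), add_cancel6]
    rw [e1, map_add, map_smul, hOz, e1, map_add, map_add, map_smul, hOz, e1] at h3
    rcases two_cases i with rfl | rfl
    · rwa [zero_smul, add_zero] at e1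
    · exfalso
      simp only [one_smul, add_assoc, add_self6, add_zero] at h3
      exact P.symm.p_sing.1 (add_eq_left.1 h3)
  have hs_im : ∀ v, (ρ' s).1 v + v ∈ Submodule.span (ZMod 2) {π' d, π' f} := by
    refine image_two (P.S'.rho_mem (hU hsu)) (hinv hsu hs2) (v₁ := O.1 v₁) ?_ hf1.symm d0
      (fun h => one_ne_zero (hind' 0 0 1 (by simp [h])).2.2) (fun h => one_ne_zero (hind' 1 0 1 (by simp [h])).1)
    rw [hOs, ← map_add, ← hd1, hOd]
  -- the fixed vector
  obtain ⟨y, hy, hyl⟩ := exists_dual [π' d, π' e, π' f] pz fun h => by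
    rw [show ({x | x ∈ [π' d, π' e, π' f]} : Set V6) = insert (π' d) {π' e, π' f} by ext; simp,
      Submodule.mem_span_insert] at h
    obtain ⟨α, w₂, hw₂, h⟩ := h
    rw [Submodule.mem_span_pair] at hw₂
    obtain ⟨β, γ, rfl⟩ := hw₂
    obtain ⟨e1, e2, e3⟩ := hcomb α β γ (.inr (by rw [h, add_assoc]))
    rw [e1, e2, e3] at h
    exact P.symm.p_sing.1 (by simpa using h)
  have hperp : ∀ {a b v : V6}, v ∈ Submodule.span (ZMod 2) {a, b} → pb a y = 0 → pb b y = 0 → pb v y = 0 := by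
    intro a b v hv ha hb
    obtain ⟨i, j, rfl⟩ := Submodule.mem_span_pair.1 hv
    rw [pb_add_left, pb_smul_left, pb_smul_left, ha, hb, mul_zero, mul_zero, add_zero]
  have hry : (ρ' r).1 y = y :=
    qAut_fix_of_perp (hinv hru hr2) fun v => hperp (hr_im v) (hyl _ (by simp)) (hyl _ (by simp))
  have hsy : (ρ' s).1 y = y :=
    qAut_fix_of_perp (hinv hsu hs2) fun v => hperp (hs_im v) (hyl _ (by simp)) (hyl _ (by simp))
  obtain ⟨s₂, hs₂⟩ : ∃ x, x = ω * s * ω⁻¹ := ⟨_, rfl⟩
  rw [← hs₂] at hprod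
  have hs₂u : s₂ * u = u * s₂ := hs₂ ▸
    (Commute.mul_left (Commute.mul_left (show Commute ω u from hwu) hsu) (Commute.inv_left hwu)).eq
  have e_s2 : s₂ = s * r := by
    calc s₂ = s * s * s₂ := by rw [hs2, one_mul]
      _ = s * r * (r * s * s₂) := by
          rw [show s * r * (r * s * s₂) = s * (r * r) * s * s₂ by group, hr2, mul_one]
      _ = s * r := by rw [hprod, mul_one]
  have hs₂y : (ρ' s₂).1 y = y := by
    rw [e_s2, P.S'.rho_mul s (hU hsu) r (hU hru), qAut_mul_apply, hry, hsy]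
  have hrw : r * ω = ω * s₂ := by
    have : ω * s₂ * ω⁻¹ = r := by
      rw [hs₂, hws]
      calc ω * (ω * (ω * r * ω⁻¹) * ω⁻¹) * ω⁻¹ = (ω * ω * ω) * r * (ω * ω * ω)⁻¹ := by group
        _ = r := by rw [hw3]; group
    conv_lhs => rw [← this]
    group
  have hsw : s * ω = ω * r := by rw [hws]; group
  have hs₂w : s₂ * ω = ω * s := by rw [hs₂]; group
  have step : ∀ {a b : G}, a * u = u * a → b * u = u * b → a * ω = ω * b → ∀ v, (ρ' b).1 v = v →
      (ρ' a).1 (O.1 v) = O.1 v := fun ha hb hab v hv => by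
    conv_rhs => rw [← hv]
    rw [← qAut_mul_apply, ← qAut_mul_apply, hO, ← P.S'.rho_mul _ (hU ha) ω (hU hwu), hab,
      P.S'.rho_mul ω (hU hwu) _ (hU hb)]
  set Y := y + O.1 y + O.1 (O.1 y) with hY
  have hrY : (ρ' r).1 Y = Y := by
    rw [hY, map_add, map_add, hry, step hru hs₂u hrw y hs₂y,
      step hru hs₂u hrw _ (step hs₂u hsu hs₂w y hsy)]
  have hsY : (ρ' s).1 Y = Y := by
    rw [hY, map_add, map_add, hsy, step hsu hru hsw y hry,
      step hsu hru hsw _ (step hru hs₂u hrw y hs₂y)]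
  have hOY : O.1 Y = Y := by rw [hY, map_add, map_add, hO3]; abel
  have hpY : pb pz Y = 1 := by
    have e1 : ∀ v, pb pz (O.1 v) = pb pz v := fun v => by
      conv_lhs => rw [← hOz]
      exact pb_map O pz v
    rw [hY, pb_add_right, pb_add_right, e1, e1, e1, hy]; decide
  obtain ⟨q, hq, hqY⟩ := P.S'.pi_surj Y
  have hconj : ∀ {g : G}, g * u = u * g → (ρ' g).1 Y = Y → ∃ i, g * q * g⁻¹ = zb u i * q := fun hg hgY => by
    rcases P.S'.pi_eq hq (P.S'.conj_mem (hU hg) hq)
      (show π' q = π' (_ * q * _⁻¹) by rw [P.S'.rho_pi _ (hU hg) q hq, hqY, hgY]) with h | h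
    · exact ⟨0, by rw [h, zb_zero, one_mul]⟩
    · exact ⟨1, by rw [h, zb_one]⟩
  obtain ⟨i, hi⟩ := hconj hru hrY
  obtain ⟨o, ho⟩ := hconj hwu hOY
  have hcu : ∀ {g : G}, g * u = u * g → ∀ j, g * zb u j = zb u j * g := fun hg j => by
    rcases two_cases j with rfl | rfl
    · simp [zb_zero]
    · rw [zb_one]; exact hg
  have hzu : ∀ a b, zb u a * zb u b = zb u (a + b) := zb_mul P.S'.z2
  have hzz : ∀ a, zb u a * zb u a = 1 := fun a => by rw [hzu, CharTwo.add_self_eq_zero, zb_zero]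
  have hwq : ω⁻¹ * q * ω = zb u o * q := by
    calc ω⁻¹ * q * ω = ω⁻¹ * (zb u o * (zb u o * q)) * ω := by rw [← mul_assoc (zb u o), hzz, one_mul]
      _ = ω⁻¹ * (zb u o * (ω * q * ω⁻¹)) * ω := by rw [ho]
      _ = ω⁻¹ * (zb u o * ω) * q * (ω⁻¹ * ω) := by group
      _ = zb u o * q := by rw [← hcu hwu]; group
  have move : ∀ {a b : G} (j : ZMod 2), a * u = u * a → a * q * a⁻¹ = zb u j * q → b = ω * a * ω⁻¹ →
      b * q * b⁻¹ = zb u j * q := fun {a b} j ha h hb => by
    calc b * q * b⁻¹ = ω * (a * (ω⁻¹ * q * ω) * a⁻¹) * ω⁻¹ := by rw [hb]; group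
      _ = ω * ((a * zb u o) * q * a⁻¹) * ω⁻¹ := by rw [hwq]; group
      _ = ω * (zb u o * (a * q * a⁻¹)) * ω⁻¹ := by rw [hcu ha]; group
      _ = ω * (zb u o * (zb u j * q)) * ω⁻¹ := by rw [h]
      _ = ω * (zb u o * zb u j) * q * ω⁻¹ := by group
      _ = zb u (o + j) * (ω * q * ω⁻¹) := by rw [hzu, hcu hwu]; group
      _ = zb u j * q := by
          rw [ho, ← mul_assoc, hzu, show o + j + o = j by
            rw [add_right_comm, CharTwo.add_self_eq_zero, zero_add]]
  have hsq' := move i hru hi hws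
  have hs₂q := move i hsu hsq' hs₂
  have hi0 : i = 0 := by
    have h : r * s * s₂ * q * (r * s * s₂)⁻¹ = zb u (i + (i + i)) * q := by
      calc r * s * s₂ * q * (r * s * s₂)⁻¹ = r * (s * (s₂ * q * s₂⁻¹) * s⁻¹) * r⁻¹ := by group
        _ = r * ((s * zb u i) * q * s⁻¹) * r⁻¹ := by rw [hs₂q]; group
        _ = r * (zb u i * (s * q * s⁻¹)) * r⁻¹ := by rw [hcu hsu]; group
        _ = (r * (zb u i * zb u i)) * q * r⁻¹ := by rw [hsq']; group
        _ = zb u (i + i) * (r * q * r⁻¹) := by rw [hzu, hcu hru]; group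
        _ = zb u (i + (i + i)) * q := by rw [hi, ← mul_assoc, hzu, add_comm (i + i)]
    rw [hprod, one_mul, inv_one, mul_one, CharTwo.add_self_eq_zero, add_zero] at h
    rcases two_cases i with rfl | rfl
    · rfl
    · rw [zb_one] at h; exact absurd (mul_eq_right.1 h.symm) P.S'.z1
  subst hi0
  rw [zb_zero, one_mul] at hi hsq'
  refine ⟨q, hq, (mul_inv_eq_iff_eq_mul.1 hi).symm, (mul_inv_eq_iff_eq_mul.1 hsq').symm, ?_⟩
  rw [P.S'.comm hq P.zR, hqY, pb_comm Y, hpY, zb_one]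
  group

end Pair

end CfsgLib.SuzType
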