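import Mathlib
import Cfsg.Agent.Lib.SuzType.Local.HFacts
import Cfsg.Agent.Lib.SuzType.Local.Mover

/-!
Suzuki type: fusion of the `z`-class inside the elementary subgroups of order 64, and the outer element.
-/

set_option autoImplicit false
set_option linter.style.haveILetI false
set_option linter.unusedSectionVars false
set_option linter.unusedSimpArgs false

namespace CfsgLib.SuzType

open Subgroup CfsgLib.Classical

variable {G : Type*} [Group G] [Finite G]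

namespace Frm

variable {z t : G} {Q R : Subgroup G} {π π' : G → V6} {ρ ρ' : G → qAut qm} {r s ω au bu av bv : G}
  {m n u v : V6} (F : Frm z t Q R π π' ρ ρ' r s ω au bu av bv m n u v)

include F

theorem swapUV : Frm z t Q R π π' ρ ρ' r s ω av bv au bu m n v u :=
  ⟨F.C, ⟨F.B.m1, F.B.n1, F.B.v0, F.B.u0, F.B.pm, F.B.pn, F.B.pv, F.B.pu, F.B.mn, F.B.vu, F.B.vm, F.B.vn, F.B.um,
    F.B.un, fun x hx => by
      have h := F.B.dec x hx
      rwa [add_assoc (pb x n • m + pb x m • n) (pb x u • v), add_comm (pb x u • v), ← add_assoc (pb x n • m + pb x m • n)]⟩,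
    F.cr, F.cs, F.cav, F.cbv, F.cau, F.cbu, F.w3, F.wz, F.wt, F.wav, F.wbv, F.wau, F.wbu, F.ws, F.prod⟩

theorem au_Q : au ∈ Q ∧ au * t = t * au ∧ Pm (π t) (π au + u) := by
  obtain ⟨a, b, ha, hat, hb, hbz, e, h1, h2⟩ := F.cau
  rw [add_zero] at h2
  have hbQ := (F.P.w_pm_iff hb hbz).1 h2
  have hQ : au ∈ Q := e ▸ mul_mem ha hbQ
  have hat' : au * t = t * au := (F.P.co_comm_zt F.cau).2
  exact ⟨hQ, hat', (F.P.co_unique (F.P.co_of_Q hQ hat') F.cau).1⟩

theorem bu_R : bu ∈ R ∧ bu * z = z * bu ∧ Pm (π t) (tv (π t) (ρ bu) + u) := by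
  obtain ⟨a, b, ha, hat, hb, hbz, e, h1, h2⟩ := F.cbu
  rw [add_zero] at h1
  have haR := F.P.mem_E_of_pm ha h1
  have hR : bu ∈ R := e ▸ mul_mem haR hb
  have hbz' : bu * z = z * bu := (F.P.co_comm_zt F.cbu).1
  exact ⟨hR, hbz', (F.P.co_unique (F.P.co_of_R hR hbz') F.cbu).2⟩

theorem au_ne_one : au ≠ 1 := fun h => by
  obtain ⟨-, -, e⟩ := F.au_Q
  rw [h, F.P.S.pi_one, zero_add] at e
  have := e.polar F.B.pv
  rw [F.B.uv] at this
  exact one_ne_zero this

theorem bu_ne_one : bu ≠ 1 := fun h => by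
  obtain ⟨-, -, e⟩ := F.bu_R
  rw [h, F.P.S.rho_one, tv_one, zero_add] at e
  have := e.polar F.B.pv
  rw [F.B.uv] at this
  exact one_ne_zero this

theorem exists_mover_z : ∃ q, q * r = r * q ∧ q * s = s * q ∧ q * au = au * q ∧ q * z * q⁻¹ = au * z := by
  have P := F.P
  obtain ⟨hQ, hat, hπ⟩ := F.au_Q
  obtain ⟨g, hg⟩ := isConj_iff.1 (P.q_conj F.C.zt hQ F.au2 F.au_ne_one)
  have hπu : pb (π au) v = 1 := by rw [pm_polar hπ F.B.pv, F.B.uv]
  have hne : au ≠ z := fun h => by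
    rw [h, P.S.pi_z, pb_zero_left] at hπu
    exact zero_ne_one hπu
  have P2 : Pair z au Q (Q.map (MulAut.conj g).toMonoidHom) π (fun x => π (g⁻¹ * x * g)) ρ
      (fun x => ρ (g⁻¹ * x * g)) :=
    ⟨P.S, hg ▸ P.S.conj g, hQ, mem_conj_iff.2 (F.C.hsymm g (hg.symm ▸ hQ)), hne⟩
  have hra : r * au = au * r := ((F.P.co_commute_iff F.cr F.cau).2 (by
    simp [pb_zero_right, pb_zero_left, F.B.mu, F.B.nu, F.B.un, pb_comm u m]))
  have hsa : s * au = au * s := ((F.P.co_commute_iff F.cs F.cau).2 (by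
    simp [pb_zero_right, pb_zero_left, pb_add_right, pb_add_left, F.B.mu, F.B.nu, F.B.um, F.B.un]))
  obtain ⟨Tr, hTr⟩ := P.co_rho F.cr
  obtain ⟨Ts, hTs⟩ := P.co_rho F.cs
  have hu1 : ∀ {y : V6}, pb (π t) y = 0 → pb (π au) y = pb u y := fun hy => pm_polar hπ hy
  obtain ⟨q, hq, hqr, hqs, hqz⟩ := P2.exists_mover F.r_co.1 hra F.s_co.1 hsa F.r2 F.s2 F.rs F.w3 F.wz F.wau F.ws
    F.prod P.p_sing (P.perp hQ hat) Tr hTr Ts hTs (by rw [hu1 F.B.pn, F.B.un])
    (by rw [hu1 (by rw [pb_add_right, F.B.pm, F.B.pn, add_zero]), pb_add_right, F.B.um, F.B.un, add_zero])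
    (P.rho_p (mem_centralizer_singleton_iff.2 F.wz) (mem_centralizer_singleton_iff.2 F.wt)) (fun α β γ h => by
      have h0 : α • π t + β • n + γ • (m + n) = 0 := h.resolve_right fun e => by
        have := congrArg (pb · v) e
        simp only [pb_add_left, pb_smul_left, F.B.pv, F.B.nv, F.B.mv, mul_zero, add_zero, hπu] at this
        exact zero_ne_one this
      have e1 := congrArg (pb · m) h0
      have e2 := congrArg (pb · n) h0
      simp only [pb_add_left, pb_smul_left, F.B.pm, F.B.pn, F.B.nm, F.B.mn, pb_self, pb_zero_left, mul_zero,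
        mul_one, add_zero, zero_add] at e1 e2
      subst e2
      rw [add_zero] at e1
      subst e1
      refine ⟨?_, rfl, rfl⟩
      rw [zero_smul, zero_smul, add_zero, add_zero] at h0
      exact (two_cases α).resolve_right fun e => P.p_sing.1 (by rwa [e, one_smul] at h0))
  exact ⟨q, hqr, hqs, mem_centralizer_singleton_iff.1 (P2.S'.le hq), hqz⟩

theorem exists_mover_t : ∃ q, q * r = r * q ∧ q * s = s * q ∧ q * bu = bu * q ∧ q * t * q⁻¹ = bu * t := by
  have P := F.P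
  obtain ⟨hR, hbz, hπ⟩ := F.bu_R
  obtain ⟨g, hg⟩ := isConj_iff.1 (P.r_conj F.C.zt hR F.bu2 F.bu_ne_one)
  obtain ⟨gt, hgt, hRQ⟩ := F.C.conj_t
  -- the setting at `bu`
  have hR' : gt⁻¹ * g * z * (gt⁻¹ * g)⁻¹ ∈ Q := by
    have := mem_conj_iff.1 (hRQ ▸ hR)
    rwa [← hg, show gt⁻¹ * (g * z * g⁻¹) * gt = gt⁻¹ * g * z * (gt⁻¹ * g)⁻¹ by group] at this
  have ht2 : t ∈ Q.map (MulAut.conj g).toMonoidHom := mem_conj_iff.2 (by
    have h := F.C.hsymm (gt⁻¹ * g) hR'
    rwa [show (gt⁻¹ * g)⁻¹ * z * (gt⁻¹ * g) = g⁻¹ * (gt * z * gt⁻¹) * g by group, hgt] at h)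
  obtain ⟨cv, hcv, hcvz, hcvy⟩ := P.w_surj F.B.pv
  obtain ⟨cm, hcm, hcmz, hcmy⟩ := P.w_surj F.B.pm
  obtain ⟨cn, hcn, hcnz, hcny⟩ := P.w_surj F.B.pn
  obtain ⟨a, b, ha, hat, hb, hbz', ea, -, hs1⟩ := P.co_symm F.cr
  obtain ⟨a', b', ha', hat', hb', hbz'', ea', -, hs2⟩ := P.co_symm F.cs
  have hbu' : pb (π' bu) (π' cv) = 1 := by
    rw [P.polar_eq hR hbz hcv hcvz, pm_polar hπ (P.w_perp hcv hcvz), pb_comm, pm_polar hcvy F.B.pu, F.B.vu]
  have hne : bu ≠ t := fun h => by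
    rw [h, P.S'.pi_z, pb_zero_left] at hbu'
    exact zero_ne_one hbu'
  have P2 : Pair t bu R (Q.map (MulAut.conj g).toMonoidHom) π' (fun x => π (g⁻¹ * x * g)) ρ'
      (fun x => ρ (g⁻¹ * x * g)) :=
    ⟨P.S', hg ▸ P.S.conj g, hR, ht2, hne⟩
  have hrb : r * bu = bu * r := ((F.P.co_commute_iff F.cr F.cbu).2 (by
    simp [pb_zero_right, pb_zero_left, F.B.mu, F.B.nu, F.B.un, pb_comm u m]))
  have hsb : s * bu = bu * s := ((F.P.co_commute_iff F.cs F.cbu).2 (by
    simp [pb_zero_right, pb_zero_left, pb_add_right, pb_add_left, F.B.mu, F.B.nu, F.B.um, F.B.un]))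
  obtain ⟨Tr, hTr⟩ := P.symm.co_rho hs1
  obtain ⟨Ts, hTs⟩ := P.symm.co_rho hs2
  have pair : ∀ {c : G} {y : V6}, c ∈ R → c * z = z * c → Pm (π t) (tv (π t) (ρ c) + y) →
      pb (π' c) (tv (π' z) (ρ' a)) = pb m y ∧ pb (π' c) (tv (π' z) (ρ' a')) = pb n y := by
    intro c y h1 h2 h3
    have hy : pb (π t) y = 0 := (P.co_perp (P.co_congr (P.co_of_R h1 h2) (pm_self 0) h3)).2
    constructor
    · rw [P.eps_eq ha hat h1 h2, pm_polar ea (P.w_perp h1 h2), pb_comm, pm_polar h3 F.B.pm, pb_comm]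
    · rw [P.eps_eq ha' hat' h1 h2, pm_polar ea' (P.w_perp h1 h2), pb_comm, pm_polar h3 F.B.pn, pb_comm]
  obtain ⟨qu1, qu2⟩ := pair hR hbz hπ
  obtain ⟨v1, v2⟩ := pair hcv hcvz hcvy
  obtain ⟨m1, m2⟩ := pair hcm hcmz hcmy
  obtain ⟨n1, n2⟩ := pair hcn hcnz hcny
  have hperp : ∀ {c : G}, c ∈ R → c * z = z * c → pb (π' z) (π' c) = 0 := fun h1 h2 => P.symm.perp h1 h2
  obtain ⟨q, hq, hqr, hqs, hqt⟩ := P2.exists_mover F.r_co.2 hrb F.s_co.2 hsb F.r2 F.s2 F.rs F.w3 F.wt F.wbu F.ws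
    F.prod P.symm.p_sing (hperp hR hbz) Tr hTr Ts hTs (qu1.trans F.B.mu) (qu2.trans F.B.nu)
    (P.symm.rho_p (mem_centralizer_singleton_iff.2 F.wt) (mem_centralizer_singleton_iff.2 F.wz)) (fun α β γ h => by
      have h0 : α • π' z + β • tv (π' z) (ρ' a) + γ • tv (π' z) (ρ' a') = 0 := h.resolve_right fun e => by
        have := congrArg (pb (π' cv)) e
        rw [pb_add_right, pb_add_right, pb_smul_right, pb_smul_right, pb_smul_right, pb_comm (π' cv) (π' z),
          hperp hcv hcvz, v1, v2, F.B.mv, F.B.nv, pb_comm (π' cv), hbu'] at this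
        simp at this
      have e1 := congrArg (pb (π' cm)) h0
      have e2 := congrArg (pb (π' cn)) h0
      rw [pb_add_right, pb_add_right, pb_smul_right, pb_smul_right, pb_smul_right, pb_comm (π' cm) (π' z),
        hperp hcm hcmz, m1, m2, pb_self, F.B.nm, pb_zero_right] at e1
      rw [pb_add_right, pb_add_right, pb_smul_right, pb_smul_right, pb_smul_right, pb_comm (π' cn) (π' z),
        hperp hcn hcnz, n1, n2, pb_self, F.B.mn, pb_zero_right] at e2
      simp only [mul_zero, mul_one, add_zero, zero_add] at e1 e2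
      subst e1; subst e2
      refine ⟨?_, rfl, rfl⟩
      rw [zero_smul, zero_smul, add_zero, add_zero] at h0
      exact (two_cases α).resolve_right fun e => P.symm.p_sing.1 (by rwa [e, one_smul] at h0))
  exact ⟨q, hqr, hqs, mem_centralizer_singleton_iff.1 (P2.S'.le hq), hqt⟩

theorem conj_mem_Au {g c : G} (hg : g ∈ HH z r s) (hc : c ∈ AA z r s au) : g * c * g⁻¹ ∈ AA z r s au := by
  obtain ⟨i, j, e⟩ := F.comm_zeta hg (mem_AA.1 hc).1
  rw [e]
  refine mul_mem (F.mem_Au_iff.2 ⟨0, 0, F.P.co_zeta i j, ?_, ?_⟩) hc <;> simp [pb_zero_left]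

theorem mover_z_conj {q c : G} (hr : q * r = r * q) (hs : q * s = s * q) (ha : q * au = au * q)
    (hz : q * z * q⁻¹ = au * z) (hc : c ∈ AA z r s au) : q * c * q⁻¹ ∈ AA z r s au := by
  obtain ⟨hcH, hca⟩ := mem_AA.1 hc
  obtain ⟨c1, c2, c3⟩ := mem_HH.1 hcH
  have k : ∀ {x y : G}, c * x = x * c → q * x * q⁻¹ = y → (q * c * q⁻¹) * y = y * (q * c * q⁻¹) := by
    intro x y hx e
    rw [← e]
    calc q * c * q⁻¹ * (q * x * q⁻¹) = q * (c * x) * q⁻¹ := by group
      _ = q * x * q⁻¹ * (q * c * q⁻¹) := by rw [hx]; group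
  have h1 := k hca (mul_inv_eq_iff_eq_mul.2 ha)
  have h2 := k c1 hz
  refine mem_AA.2 ⟨mem_HH.2 ⟨?_, k c2 (mul_inv_eq_iff_eq_mul.2 hr), k c3 (mul_inv_eq_iff_eq_mul.2 hs)⟩, h1⟩
  have hz2 : z = au * (au * z) := by rw [← mul_assoc, F.au2, one_mul]
  rw [hz2]
  exact (Commute.mul_right (show Commute (q * c * q⁻¹) au from h1) h2).eq

theorem mover_t_conj {q c : G} (hr : q * r = r * q) (hs : q * s = s * q) (ha : q * bu = bu * q)
    (ht : q * t * q⁻¹ = bu * t) (hc : c ∈ AA z r s au) : q * c * q⁻¹ ∈ AA z r s au := by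
  rw [F.Au_eq_bu] at hc ⊢
  obtain ⟨hcH, hca⟩ := mem_AA.1 hc
  obtain ⟨c1, c2, c3⟩ := mem_HH.1 hcH
  have k : ∀ {x y : G}, c * x = x * c → q * x * q⁻¹ = y → (q * c * q⁻¹) * y = y * (q * c * q⁻¹) := by
    intro x y hx e
    rw [← e]
    calc q * c * q⁻¹ * (q * x * q⁻¹) = q * (c * x) * q⁻¹ := by group
      _ = q * x * q⁻¹ * (q * c * q⁻¹) := by rw [hx]; group
  have h1 := k hca (mul_inv_eq_iff_eq_mul.2 ha)
  have h2 := k (F.comm_t_of_mem hcH) ht
  have hr' := k c2 (mul_inv_eq_iff_eq_mul.2 hr)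
  have hs' := k c3 (mul_inv_eq_iff_eq_mul.2 hs)
  refine mem_AA.2 ⟨mem_HH.2 ⟨F.comm_z_of ?_ hr' hs', hr', hs'⟩, h1⟩
  have ht2 : t = bu * (bu * t) := by rw [← mul_assoc, F.bu2, one_mul]
  rw [ht2]
  exact (Commute.mul_right (show Commute (q * c * q⁻¹) bu from h1) h2).eq

theorem mem_norm_of {q : G} (h : ∀ c ∈ AA z r s au, q * c * q⁻¹ ∈ AA z r s au) :
    q ∈ normalizer (AA z r s au : Set G) := by
  classical
  rw [mem_normalizer_iff]
  intro c
  refine ⟨h c, fun hc => ?_⟩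
  have hsur : Function.Surjective (fun c : AA z r s au => (⟨q * c * q⁻¹, h c c.2⟩ : AA z r s au)) :=
    Finite.surjective_of_injective fun a b e =>
      Subtype.ext (mul_left_cancel (mul_right_cancel (congrArg Subtype.val e)))
  obtain ⟨d, hd⟩ := hsur ⟨q * c * q⁻¹, hc⟩
  have := mul_left_cancel (mul_right_cancel (congrArg Subtype.val hd))
  exact this ▸ d.2

/-- The coordinates of a `z`-class element of the elementary subgroup. -/
theorem zclass_iff {c : G} {x y : V6} (hc : c ∈ AA z r s au) (h1 : c ≠ 1) (h : Co z t Q R π ρ c x y) :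
    IsConj z c ↔ pb x n = 0 ∧ pb x m = 0 := by
  obtain ⟨x', y', h', e, -, hyu⟩ := F.mem_Au_iff.1 hc
  obtain ⟨ex, -⟩ := F.P.co_unique h h'
  obtain ⟨-, hpy⟩ := F.P.co_perp h'
  have hq : qm y' = pb x' n + pb x' m + pb x' n * pb x' m := by
    rw [F.expand_q hpy, e.1, e.2, hyu]
    generalize pb x' n = i, pb x' m = j, pb y' v = k
    revert i j k
    decide
  rw [pm_polar ex F.B.pn, pm_polar ex F.B.pm]
  have hsq : c * c = 1 := F.Au_sq hc
  constructor
  · intro hz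
    rcases two_cases (qm y') with e0 | e0
    · rw [hq] at e0
      revert e0
      generalize pb x' n = i, pb x' m = j
      revert i j
      decide
    · exact absurd hz (F.C.not_conj (F.P.co_typeOne h' hsq e0))
  · rintro ⟨a, b⟩
    refine F.P.co_zclass F.C.zt h' hsq h1 ?_
    rw [hq, a, b]
    decide

theorem av_conj : av * au * av⁻¹ = zeta z t 1 0 * au ∧ av * bu * av⁻¹ = zeta z t 1 1 * bu := by
  have h1 := F.P.co_comm F.cav F.cau
  have h2 := F.P.co_comm F.cav F.cbu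
  simp only [pb_zero_left, pb_zero_right, F.B.vu, add_zero, zero_add] at h1 h2
  exact ⟨by rw [h1]; group, by rw [h2]; group⟩

theorem bv_conj : bv * au * bv⁻¹ = zeta z t 1 1 * au ∧ bv * bu * bv⁻¹ = zeta z t 0 1 * bu := by
  have h1 := F.P.co_comm F.cbv F.cau
  have h2 := F.P.co_comm F.cbv F.cbu
  simp only [pb_zero_left, pb_zero_right, F.B.vu, F.B.uv, add_zero, zero_add] at h1 h2
  exact ⟨by rw [h1]; group, by rw [h2]; group⟩

theorem av_H : av ∈ HH z r s ∧ bv ∈ HH z r s := by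
  refine ⟨F.mem_H_iff.2 ⟨v, 0, F.cav, ?_⟩, F.mem_H_iff.2 ⟨0, v, F.cbv, ?_⟩⟩ <;>
    simp [pb_zero_left, F.B.vm, F.B.vn]

omit F in
theorem coset_aux (f : ZMod 2 → ZMod 2 → Prop) {a b a' b' : ZMod 2} (h : ∀ i j, f i j ↔ f (i + a) (j + b))
    (h' : ∀ i j, f i j ↔ f (i + a') (j + b')) (hdet : a * b' + b * a' = 1) (i j : ZMod 2) : f i j ↔ f 0 0 := by
  have e1 : ∀ x i j, f i j ↔ f (i + x * a) (j + x * b) := fun x i j => by
    rcases two_cases x with rfl | rfl
    · rw [zero_mul, zero_mul, add_zero, add_zero]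
    · rw [one_mul, one_mul]; exact h i j
  have e2 : ∀ y i j, f i j ↔ f (i + y * a') (j + y * b') := fun y i j => by
    rcases two_cases y with rfl | rfl
    · rw [zero_mul, zero_mul, add_zero, add_zero]
    · rw [one_mul, one_mul]; exact h' i j
  rw [e1 (i * b' + j * a') i j, e2 (i * b + j * a)]
  have k : i + (i * b' + j * a') * a + (i * b + j * a) * a' = 0 ∧
      j + (i * b' + j * a') * b + (i * b + j * a) * b' = 0 := by
    revert hdet; clear h h' e1 e2
    revert a b a' b' i j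
    decide
  rw [k.1, k.2]

/-- A `z`-class element of the elementary subgroup. -/
def pt4 (z t au bu : G) (i j α β : ZMod 2) : G := zeta z t i j * zb au α * zb bu β

theorem pt4_mem (i j α β : ZMod 2) : pt4 z t au bu i j α β ∈ AA z r s au ∧
    Co z t Q R π ρ (pt4 z t au bu i j α β) (α • u) (β • u) := by
  have h := F.P.co_mul (F.P.co_mul (F.P.co_zeta i j) (F.co_zb F.cau α)) (F.co_zb F.cbu β)
  simp only [smul_zero, add_zero, zero_add] at h
  refine ⟨F.mem_Au_iff.2 ⟨_, _, h, ?_, ?_, ?_⟩, h⟩ <;>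
    simp only [pb_smul_left, F.B.um, F.B.un, pb_self, mul_zero, add_zero, and_self]

theorem exists_pt4 {c : G} (hc : c ∈ AA z r s au) (h1 : c ≠ 1) (hz : IsConj z c) :
    ∃ i j α β, c = pt4 z t au bu i j α β := by
  obtain ⟨x, y, h, e, hxu, hyu⟩ := F.mem_Au_iff.1 hc
  obtain ⟨e1, e2⟩ := (F.zclass_iff hc h1 h).1 hz
  obtain ⟨px, py⟩ := F.P.co_perp h
  have hw := (F.pt4_mem 0 0 (pb x v) (pb y v))
  have hX : Pm (π t) (x + pb x v • u) := by
    have := F.B.dec x px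
    rwa [e1, e2, hxu, zero_smul, zero_smul, zero_smul, zero_add, zero_add, add_zero] at this
  have hY : Pm (π t) (y + pb y v • u) := by
    have := F.B.dec y py
    rwa [e.1, e.2, e1, e2, hyu, add_zero, zero_smul, zero_smul, zero_smul, zero_add, zero_add, add_zero] at this
  obtain ⟨i, j, hij⟩ := F.P.co_zero (F.P.co_mul h hw.2) hX hY
  refine ⟨i, j, pb x v, pb y v, ?_⟩
  have hw2 : pt4 z t au bu 0 0 (pb x v) (pb y v) * pt4 z t au bu 0 0 (pb x v) (pb y v) = 1 := F.Au_sq hw.1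
  calc c = c * pt4 z t au bu 0 0 (pb x v) (pb y v) * pt4 z t au bu 0 0 (pb x v) (pb y v) := by
        rw [mul_assoc, hw2, mul_one]
    _ = pt4 z t au bu i j (pb x v) (pb y v) := by rw [hij]; simp [pt4, zeta_zero, mul_assoc]

theorem pt4_ne_one {i j α β : ZMod 2} (h : ¬ (α = 0 ∧ β = 0)) : pt4 z t au bu i j α β ≠ 1 := fun e => by
  have h1 := (F.pt4_mem i j α β).2
  rw [e, ← zeta_zero z t] at h1
  obtain ⟨ex, ey⟩ := F.P.co_unique h1 (F.P.co_zeta 0 0)
  have a := pm_polar ex F.B.pv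
  have b := pm_polar ey F.B.pv
  rw [pb_smul_left, F.B.uv, mul_one, pb_zero_left] at a b
  exact h ⟨a, b⟩

theorem pt4_zero_z : pt4 z t au bu 1 0 0 0 = z := by simp [pt4, zeta, zb_zero, zb_one]

theorem pt4_zero_t : pt4 z t au bu 0 1 0 0 = t := by simp [pt4, zeta, zb_zero, zb_one]

theorem pt4_mul_e (i j i' j' α β : ZMod 2) :
    pt4 z t au bu i j α β * zeta z t i' j' = pt4 z t au bu (i + i') (j + j') α β := by
  have hz : ∀ {c : G} {x y : V6}, Co z t Q R π ρ c x y → ∀ a, zb c a * zeta z t i' j' = zeta z t i' j' * zb c a :=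
    fun h a => F.P.zeta_comm (F.P.co_comm_zt (F.co_zb h a)).1 (F.P.co_comm_zt (F.co_zb h a)).2 i' j'
  rw [pt4, mul_assoc, hz F.cbu, ← mul_assoc, mul_assoc (zeta z t i j), hz F.cau, ← mul_assoc, F.P.zeta_mul, pt4]

set_option maxHeartbeats 2000000 in
/-- The normalizer in `C(V)` is transitive on the `z`-class of the elementary subgroup. -/
theorem transitive {c : G} (hc : c ∈ AA z r s au) (h1 : c ≠ 1) (hz : IsConj z c) :
    ∃ g, g ∈ CV r s ∧ g ∈ normalizer (AA z r s au : Set G) ∧ g * z * g⁻¹ = c := by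
  classical
  set N := CV r s ⊓ normalizer (AA z r s au : Set G) with hN
  set S : G → Prop := fun c => ∃ g ∈ N, g * z * g⁻¹ = c with hS
  have hinv : ∀ {g c}, g ∈ N → (S (g * c * g⁻¹) ↔ S c) := fun {g c} hg => by
    constructor
    · rintro ⟨k, hk, e⟩
      refine ⟨g⁻¹ * k, mul_mem (inv_mem hg) hk, ?_⟩
      rw [show g⁻¹ * k * z * (g⁻¹ * k)⁻¹ = g⁻¹ * (k * z * k⁻¹) * g by group, e]; group
    · rintro ⟨k, hk, e⟩
      exact ⟨g * k, mul_mem hg hk, by rw [← e]; group⟩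
  have hHN : ∀ {g}, g ∈ HH z r s → g ∈ N := fun {g} hg =>
    mem_inf.2 ⟨(mem_inf.1 hg).2, F.mem_norm_of fun c hc => F.conj_mem_Au hg hc⟩
  -- the shifts
  have zc : ∀ i j, ∀ {g : G}, g * z = z * g → g * t = t * g → g * zeta z t i j * g⁻¹ = zeta z t i j := fun i j g h h' => by
    rw [F.P.zeta_comm h h', mul_inv_cancel_right]
  have shift : ∀ {g : G} {a b a' b' : ZMod 2}, g ∈ HH z r s → g * au * g⁻¹ = zeta z t a b * au →
      g * bu * g⁻¹ = zeta z t a' b' * bu → ∀ i j α β, S (pt4 z t au bu i j α β) ↔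
        S (pt4 z t au bu (i + (α * a + β * a')) (j + (α * b + β * b')) α β) := by
    intro g a b a' b' hg ha hb i j α β
    rw [← hinv (hHN hg)]
    have hgz := (mem_HH.1 hg).1
    have hgt := F.comm_t_of_mem hg
    have e1 : g * zb au α * g⁻¹ = zeta z t (α * a) (α * b) * zb au α := by
      rcases two_cases α with rfl | rfl
      · simp [zb_zero, zeta_zero]
      · simp [zb_one, ha]
    have e2 : g * zb bu β * g⁻¹ = zeta z t (β * a') (β * b') * zb bu β := by
      rcases two_cases β with rfl | rfl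
      · simp [zb_zero, zeta_zero]
      · simp [zb_one, hb]
    have e3 : g * pt4 z t au bu i j α β * g⁻¹ =
        pt4 z t au bu (i + (α * a + β * a')) (j + (α * b + β * b')) α β := by
      calc g * pt4 z t au bu i j α β * g⁻¹
          = (g * zeta z t i j * g⁻¹) * (g * zb au α * g⁻¹) * (g * zb bu β * g⁻¹) := by rw [pt4]; group
        _ = zeta z t i j * zeta z t (α * a) (α * b) * (zb au α * zeta z t (β * a') (β * b')) * zb bu β := by
            rw [zc i j hgz hgt, e1, e2]; group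
        _ = _ := by
            rw [F.P.zeta_comm (F.P.co_comm_zt (F.co_zb F.cau α)).1 (F.P.co_comm_zt (F.co_zb F.cau α)).2,
              ← mul_assoc, F.P.zeta_mul, F.P.zeta_mul, pt4, ← add_assoc i, ← add_assoc j]
    rw [e3]
  have coset : ∀ α β, ¬ (α = 0 ∧ β = 0) → ∀ i j, S (pt4 z t au bu i j α β) ↔ S (pt4 z t au bu 0 0 α β) := by
    intro α β hab i j
    exact coset_aux (fun i j => S (pt4 z t au bu i j α β)) (fun i j => shift F.av_H.1 F.av_conj.1 F.av_conj.2 i j α β)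
      (fun i j => shift F.av_H.2 F.bv_conj.1 F.bv_conj.2 i j α β) (by
        revert hab; revert α β; decide) i j
  obtain ⟨q, hqr, hqs, hqa, hqz⟩ := F.exists_mover_z
  obtain ⟨k, hkr, hks, hka, hkt⟩ := F.exists_mover_t
  have hqN : q ∈ N := mem_inf.2 ⟨mem_CV.2 ⟨hqr, hqs⟩, F.mem_norm_of fun c hc => F.mover_z_conj hqr hqs hqa hqz hc⟩
  have hkN : k ∈ N := mem_inf.2 ⟨mem_CV.2 ⟨hkr, hks⟩, F.mem_norm_of fun c hc => F.mover_t_conj hkr hks hka hkt hc⟩
  have hauE : au * z = pt4 z t au bu 1 0 1 0 := by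
    rw [pt4, zeta, zb_one, zb_zero, zb_zero, mul_one, mul_one, zb_one]
    exact (F.P.co_comm_zt F.cau).1
  have hbuE : bu * t = pt4 z t au bu 0 1 0 1 := by
    rw [pt4, zeta, zb_one, zb_zero, zb_zero, one_mul, mul_one, zb_one]
    exact (F.P.co_comm_zt F.cbu).2
  have hSz : S z := ⟨1, one_mem _, by simp⟩
  have C10 : S (pt4 z t au bu 0 0 1 0) := by
    rw [← coset 1 0 (by decide) 1 0, ← hauE]; exact ⟨q, hqN, hqz⟩
  have C01 : S t ↔ S (pt4 z t au bu 0 0 0 1) := by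
    rw [← coset 0 1 (by decide) 0 1, ← hbuE, ← hkt, hinv hkN]
  -- no subset with linear constraint is invariant
  have bad : ∀ (P' : G → Prop) (f : ZMod 2 → ZMod 2 → ZMod 2) (g c₁ c₂ : G) (i j α β : ZMod 2),
      (∀ a b a' b', f (a + a') (b + b') = f a b + f a' b') → g ∈ N → (∀ {g c}, g ∈ N → (P' (g * c * g⁻¹) ↔ P' c)) →
      (∀ i j α β, P' (pt4 z t au bu i j α β) → IsConj z (pt4 z t au bu i j α β) → f α β = 0) →
      P' c₁ → P' c₂ → c₁ ∈ AA z r s au → c₂ ∈ AA z r s au → c₁ ≠ 1 → c₂ ≠ 1 → IsConj z c₁ → IsConj z c₂ →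
      g * (c₁ * c₂) * g⁻¹ = pt4 z t au bu i j α β → f α β = 0 := by
    intro P' f g c₁ c₂ i j α β hf hg hP hcl p1 p2 m1 m2 n1 n2 z1 z2 e
    have gm : ∀ {c}, c ∈ AA z r s au → g * c * g⁻¹ ∈ AA z r s au := fun {c} hc =>
      (mem_normalizer_iff.1 (mem_inf.1 hg).2 c).1 hc
    have key : ∀ {c}, P' c → c ∈ AA z r s au → c ≠ 1 → IsConj z c →
        ∃ x y, Co z t Q R π ρ (g * c * g⁻¹) x y ∧ f (pb x v) (pb y v) = 0 := by
      intro c hp hm hn hzc
      have hzc' : IsConj z (g * c * g⁻¹) := hzc.trans (isConj_iff.2 ⟨g, rfl⟩)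
      obtain ⟨i', j', α', β', e'⟩ := F.exists_pt4 (gm hm) (fun h => hn (conj_eq_one_iff.1 h)) hzc'
      refine ⟨_, _, e' ▸ (F.pt4_mem i' j' α' β').2, ?_⟩
      rw [pb_smul_left, pb_smul_left, F.B.uv, mul_one, mul_one]
      exact hcl _ _ _ _ (e' ▸ (hP hg).2 hp) (e' ▸ hzc')
    obtain ⟨x1, y1, h1, f1⟩ := key p1 m1 n1 z1
    obtain ⟨x2, y2, h2, f2⟩ := key p2 m2 n2 z2
    have h12 := F.P.co_mul h1 h2
    rw [show g * c₁ * g⁻¹ * (g * c₂ * g⁻¹) = g * (c₁ * c₂) * g⁻¹ by group, e] at h12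
    obtain ⟨ex, ey⟩ := F.P.co_unique (F.pt4_mem i j α β).2 h12
    have a := pm_polar ex F.B.pv
    have b := pm_polar ey F.B.pv
    rw [pb_smul_left, F.B.uv, mul_one, pb_add_left] at a b
    rw [a, b, hf, f1, f2, add_zero]
  have zcl : ∀ i j α β, pt4 z t au bu i j α β ≠ 1 → IsConj z (pt4 z t au bu i j α β) := fun i j α β h =>
    (F.zclass_iff (F.pt4_mem i j α β).1 h (F.pt4_mem i j α β).2).2 (by simp [pb_smul_left, F.B.un, F.B.um])
  have hbad : ∀ (P' : G → Prop) (f : ZMod 2 → ZMod 2 → ZMod 2) (g : G) (a b α₀ β₀ i j α β : ZMod 2),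
      (∀ a b a' b', f (a + a') (b + b') = f a b + f a' b') → g ∈ N → (∀ {g c}, g ∈ N → (P' (g * c * g⁻¹) ↔ P' c)) →
      (∀ i j α β, P' (pt4 z t au bu i j α β) → ¬ (α = 0 ∧ β = 0) → f α β = 0) →
      (∀ i j, P' (pt4 z t au bu i j 0 0) → f 0 0 = 0) → ¬ (α₀ = 0 ∧ β₀ = 0) →
      P' (pt4 z t au bu 0 0 α₀ β₀) → P' (pt4 z t au bu a b α₀ β₀) →
      g * zeta z t a b * g⁻¹ = pt4 z t au bu i j α β → f α β = 0 := by
    intro P' f g a b α₀ β₀ i j α β hf hg hP hcl _ hne p1 p2 e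
    refine bad P' f g _ _ i j α β hf hg hP (fun i j α β h _ => ?_) p1 p2 (F.pt4_mem _ _ _ _).1 (F.pt4_mem _ _ _ _).1
      (F.pt4_ne_one hne) (F.pt4_ne_one hne) (zcl _ _ _ _ (F.pt4_ne_one hne)) (zcl _ _ _ _ (F.pt4_ne_one hne)) ?_
    · by_cases h0 : α = 0 ∧ β = 0
      · obtain ⟨rfl, rfl⟩ := h0
        have := hf 0 0 0 0
        rw [add_zero, left_eq_add] at this
        exact this
      · exact hcl i j α β h h0
    · have hw : pt4 z t au bu 0 0 α₀ β₀ * pt4 z t au bu a b α₀ β₀ = zeta z t a b := by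
        have h := F.pt4_mul_e 0 0 a b α₀ β₀
        rw [zero_add, zero_add] at h
        rw [← h, ← mul_assoc, F.Au_sq (F.pt4_mem _ _ _ _).1, one_mul]
      rw [hw, e]
  have hcompl : ∀ {g c}, g ∈ N → (¬ S (g * c * g⁻¹) ↔ ¬ S c) := fun hg => not_congr (hinv hg)
  have two : ∀ {α β : ZMod 2}, ¬ (α = 0 ∧ β = 0) →
      (α = 1 ∧ β = 0) ∨ (α = 0 ∧ β = 1) ∨ (α = 1 ∧ β = 1) := by decide
  have hqz' : q * zeta z t 1 0 * q⁻¹ = pt4 z t au bu 1 0 1 0 := by
    rw [← hauE, ← hqz, show zeta z t 1 0 = z by simp [zeta, zb_one, zb_zero]]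
  have hkt' : k * zeta z t 0 1 * k⁻¹ = pt4 z t au bu 0 1 0 1 := by
    rw [← hbuE, ← hkt, show zeta z t 0 1 = t by simp [zeta, zb_one, zb_zero]]
  have T11 : S (pt4 z t au bu 0 0 1 1) := by
    by_contra h11
    by_cases hT : S t
    · have hf := hbad (fun c => ¬ S c) (fun α β => α + β) q 1 0 1 1 1 0 1 0 (fun a b a' b' => by ring) hqN
        hcompl (fun i j α β h hne => ?_) (fun _ _ _ => by simp) (by decide) h11
        (fun h => h11 ((coset 1 1 (by decide) 1 0).1 h)) hqz'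
      · simp at hf
      · rcases two hne with ⟨rfl, rfl⟩ | ⟨rfl, rfl⟩ | ⟨rfl, rfl⟩
        · exact absurd ((coset 1 0 (by decide) i j).2 C10) h
        · exact absurd ((coset 0 1 (by decide) i j).2 (C01.1 hT)) h
        · decide
    · have hf := hbad S (fun _ β => β) k 0 1 1 0 0 1 0 1 (fun a b a' b' => rfl) hkN hinv
        (fun i j α β h hne => ?_) (fun _ _ _ => rfl) (by decide) C10 ((coset 1 0 (by decide) 0 1).2 C10) hkt'
      · simp at hf
      · rcases two hne with ⟨rfl, rfl⟩ | ⟨rfl, rfl⟩ | ⟨rfl, rfl⟩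
        · rfl
        · exact absurd (C01.2 ((coset 0 1 (by decide) i j).1 h)) hT
        · exact absurd ((coset 1 1 (by decide) i j).1 h) h11
  have hT : S t := by
    by_contra hT
    have h01 : ¬ S (pt4 z t au bu 0 0 0 1) := fun h => hT (C01.2 h)
    have hf := hbad (fun c => ¬ S c) (fun α _ => α) q 1 0 0 1 1 0 1 0 (fun a b a' b' => rfl) hqN hcompl
      (fun i j α β h hne => ?_) (fun _ _ _ => rfl) (by decide) h01
      (fun h => h01 ((coset 0 1 (by decide) 1 0).1 h)) hqz'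
    · simp at hf
    · rcases two hne with ⟨rfl, rfl⟩ | ⟨rfl, rfl⟩ | ⟨rfl, rfl⟩
      · exact absurd ((coset 1 0 (by decide) i j).2 C10) h
      · rfl
      · exact absurd ((coset 1 1 (by decide) i j).2 T11) h
  obtain ⟨i, j, α, β, rfl⟩ := F.exists_pt4 hc h1 hz
  suffices h : S (pt4 z t au bu i j α β) by
    obtain ⟨g, hg, e⟩ := h
    exact ⟨g, (mem_inf.1 hg).1, (mem_inf.1 hg).2, e⟩
  by_cases hab : α = 0 ∧ β = 0
  · obtain ⟨rfl, rfl⟩ := hab
    rcases two_cases i with rfl | rfl <;> rcases two_cases j with rfl | rfl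
    · exact absurd (by simp [pt4, zeta_zero, zb_zero]) h1
    · rwa [F.pt4_zero_t]
    · rwa [F.pt4_zero_z]
    · by_contra hW
      -- `z * t` would be fixed
      have hqW : q * (z * t) * q⁻¹ = z * t := by
        have hzt : pt4 z t au bu 1 1 0 0 = z * t := by simp [pt4, zeta, zb_one, zb_zero]
        rw [hzt] at hW
        by_contra hne
        have hm : z * t ∈ AA z r s au := hzt ▸ (F.pt4_mem 1 1 0 0).1
        have hn : z * t ≠ 1 := fun h => (zero_ne_one : (0 : ZMod 2) ≠ 1)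
          (F.P.zeta_eq_one (i := 1) (j := 1) (by rw [zeta, zb_one, zb_one]; exact h)).1.symm
        have hzc : IsConj z (q * (z * t) * q⁻¹) := by
          refine (hzt ▸ zcl 1 1 0 0 (hzt.symm ▸ hn)).trans (isConj_iff.2 ⟨q, rfl⟩)
        obtain ⟨i, j, α, β, e⟩ := F.exists_pt4 ((mem_normalizer_iff.1 (mem_inf.1 hqN).2 _).1 hm)
          (fun h => hn (conj_eq_one_iff.1 h)) hzc
        refine hW ((hinv hqN).1 ?_)
        rw [e]
        by_cases hab : α = 0 ∧ β = 0
        · obtain ⟨rfl, rfl⟩ := hab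
          rcases two_cases i with rfl | rfl <;> rcases two_cases j with rfl | rfl
          · exact absurd (e.trans (by simp [pt4, zeta_zero, zb_zero])) fun h => hn (conj_eq_one_iff.1 h)
          · rwa [F.pt4_zero_t]
          · rwa [F.pt4_zero_z]
          · exact absurd (e.trans hzt) hne
        · rw [coset α β hab]
          rcases two hab with ⟨rfl, rfl⟩ | ⟨rfl, rfl⟩ | ⟨rfl, rfl⟩
          exacts [C10, C01.1 hT, T11]
      have hqzt : q * (z * t) = z * t * q := mul_inv_eq_iff_eq_mul.1 hqW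
      obtain ⟨d, hd, -, hdt⟩ := F.P.exists_swap
      have hzd : d⁻¹ * z * d = z := by rw [mul_assoc, ← F.P.S.z_comm hd, inv_mul_cancel_left]
      have hy : d⁻¹ * q * d ∈ centralizer ({t} : Set G) := by
        rw [mem_centralizer_singleton_iff]
        calc d⁻¹ * q * d * t = d⁻¹ * (q * (d * t * d⁻¹)) * d := by group
          _ = d⁻¹ * (z * t * q) * d := by rw [hdt, hqzt]
          _ = t * (d⁻¹ * q * d) := by rw [← hdt]; group
      have hR1 := F.P.S'.conj_mem hy F.P.zR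
      have hR2 : d⁻¹ * au * d ∈ R := by
        have h2 := mul_mem hR1 F.P.zR
        have e : d⁻¹ * q * d * z * (d⁻¹ * q * d)⁻¹ * z = d⁻¹ * au * d := by
          calc d⁻¹ * q * d * z * (d⁻¹ * q * d)⁻¹ * z
              = d⁻¹ * q * d * (d⁻¹ * z * d) * (d⁻¹ * q * d)⁻¹ * (d⁻¹ * z * d) := by rw [hzd]
            _ = d⁻¹ * (q * z * q⁻¹) * z * d := by group
            _ = d⁻¹ * au * (z * z) * d := by rw [hqz]; group
            _ = d⁻¹ * au * d := by rw [F.P.S.z2, mul_one]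
        rwa [e] at h2
      obtain ⟨hQ, -, hπ⟩ := F.au_Q
      have hmem : d⁻¹ * au * d ∈ Q := mul_mem (mul_mem (inv_mem hd) hQ) hd
      obtain ⟨a, b, hab2⟩ := F.P.exists_zeta hmem hR2
      have hπ2 : π (d⁻¹ * au * d) = π au := by
        rw [F.P.S.pi_mul _ (mul_mem (inv_mem hd) hQ) d hd, F.P.S.pi_mul _ (inv_mem hd) au hQ, F.P.S.pi_inv hd,
          add_comm (π d), add_assoc, add_self6, add_zero]
      have h3 := F.P.pm_zeta a b
      rw [← hab2, hπ2] at h3
      have h4 := pm_polar hπ F.B.pv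
      rw [h3.polar F.B.pv, F.B.uv] at h4
      exact zero_ne_one h4
  · rw [coset α β hab]
    rcases two hab with ⟨rfl, rfl⟩ | ⟨rfl, rfl⟩ | ⟨rfl, rfl⟩
    exacts [C10, C01.1 hT, T11]

/-- An outer element: it centralizes `r`, moves `t` and exchanges the two elementary subgroups. -/
theorem exists_outer : ∃ τ, τ * z = z * τ ∧ τ * r = r * τ ∧ τ * t * τ⁻¹ = z * t ∧ τ * s ≠ s * τ ∧
    ∀ c, c ∈ AA z r s au ↔ τ * c * τ⁻¹ ∈ AA z r s av := by
  have P := F.P
  have huv : qm (u + v) = 1 := by rw [qm_add, F.B.u0, F.B.v0, F.B.uv]; decide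
  have puv : pb (π t) (u + v) = 0 := by rw [pb_add_right, F.B.pu, F.B.pv, add_zero]
  set g := rf n F.B.n1 * rf (u + v) huv with hg
  have gp : g.1 (π t) = π t := by rw [hg, qAut_mul_apply, rf_fix huv puv, rf_fix F.B.n1 F.B.pn]
  have gn : g.1 n = n := by
    rw [hg, qAut_mul_apply, rf_fix huv (by rw [pb_add_right, F.B.nu, F.B.nv, add_zero]), rf_fix F.B.n1 (pb_self n)]
  have gm : g.1 m = m + n := by
    rw [hg, qAut_mul_apply, rf_fix huv (by rw [pb_add_right, F.B.mu, F.B.mv, add_zero]), rf_move F.B.n1 F.B.mn]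
  have gu : g.1 u = v := by
    rw [hg, qAut_mul_apply, rf_move huv (by rw [pb_add_right, pb_self, F.B.uv, zero_add]), add_cancel6,
      rf_fix F.B.n1 F.B.vn]
  obtain ⟨c, hc, hct, hρc⟩ := P.exists_lift (rf_mul_mem F.B.n1 huv) gp
  obtain ⟨q, hq, hq1, hqt⟩ := P.exists_swap
  have move : ∀ {k : G} {x y : V6}, Co z t Q R π ρ k x y →
      Co z t Q R π ρ (c * q * k * (c * q)⁻¹) (g.1 (x + y)) (g.1 y) := fun h => by
    have := P.co_conj hc hct (P.co_swap hq hq1 h)
    rw [hρc, ← hg] at this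
    rwa [show ∀ k, c * q * k * (c * q)⁻¹ = c * (q * k * q⁻¹) * c⁻¹ from fun k => by group]
  have hr := move F.cr
  rw [map_add, gm, gn, add_assoc, add_self6, add_zero] at hr
  obtain ⟨i, j, hij⟩ : ∃ i j, c * q * r * (c * q)⁻¹ = zeta z t i j * r := by
    obtain ⟨i, j, h⟩ := P.co_zero (P.co_mul hr F.cr) (pm_self m) (pm_self n)
    exact ⟨i, j, by rw [← h, mul_assoc _ r r, F.r2, mul_one]⟩
  obtain ⟨d, cd⟩ := P.co_exists (x := j • m + (i + j) • n) (y := 0)
    (by rw [pb_add_right, pb_smul_right, pb_smul_right, F.B.pm, F.B.pn, mul_zero, mul_zero, add_zero])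
    (pb_zero_right _)
  have hdr : d * r * d⁻¹ = zeta z t i j * r := by
    have h := P.co_comm cd F.cr
    simp only [pb_add_left, pb_smul_left, F.B.mn, F.B.nm, pb_self, pb_zero_left, pb_zero_right, mul_one, mul_zero,
      add_zero, zero_add] at h
    rw [show i + j + j = i by rw [add_assoc, CharTwo.add_self_eq_zero, add_zero]] at h
    rw [h]; group
  obtain ⟨dz, dt⟩ := P.co_comm_zt cd
  have zz : zeta z t i j * zeta z t i j = 1 := by
    rw [P.zeta_mul, CharTwo.add_self_eq_zero, CharTwo.add_self_eq_zero, zeta_zero]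
  set τ := d * (c * q) with hτ
  have hτC : τ * z = z * τ := mem_centralizer_singleton_iff.1
    (mul_mem (mem_centralizer_singleton_iff.2 dz) (mul_mem hc (P.S.le hq)))
  have hτr : τ * r = r * τ := by
    refine mul_inv_eq_iff_eq_mul.1 ?_
    calc τ * r * τ⁻¹ = d * (c * q * r * (c * q)⁻¹) * d⁻¹ := by rw [hτ]; group
      _ = d * zeta z t i j * (r * d⁻¹) := by rw [hij]; group
      _ = zeta z t i j * (d * r * d⁻¹) := by rw [P.zeta_comm dz dt]; group
      _ = r := by rw [hdr, ← mul_assoc, zz, one_mul]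
  have hct' : c * t * c⁻¹ = t := mul_inv_eq_iff_eq_mul.2 (mem_centralizer_singleton_iff.1 hct)
  have hcz : c * z * c⁻¹ = z := mul_inv_eq_iff_eq_mul.2 (mem_centralizer_singleton_iff.1 hc)
  have hτt : τ * t * τ⁻¹ = z * t := by
    calc τ * t * τ⁻¹ = d * (c * (q * t * q⁻¹) * c⁻¹) * d⁻¹ := by rw [hτ]; group
      _ = d * ((c * z * c⁻¹) * (c * t * c⁻¹)) * d⁻¹ := by rw [hqt]; group
      _ = z * t := by rw [hct', hcz, ← mul_assoc, dz, mul_assoc z, dt]; group
  have dconj : ∀ {k : G} {x y : V6}, Co z t Q R π ρ k x y → Co z t Q R π ρ (d * k * d⁻¹) x y := fun {k x y} h => by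
    have hh := P.co_comm cd h
    generalize pb (j • m + (i + j) • n) x + (pb (j • m + (i + j) • n) y + pb x 0) = a,
      pb 0 y + (pb (j • m + (i + j) • n) y + pb x 0) = b at hh
    rw [show d * k * d⁻¹ = zeta z t a b * k by rw [hh]; group]
    have h3 := P.co_mul (P.co_zeta a b) h
    rwa [zero_add, zero_add] at h3
  refine ⟨τ, hτC, hτr, hτt, fun hs => ?_, ?_⟩
  · have h1 := dconj (move F.cs)
    rw [show d * (c * q * s * (c * q)⁻¹) * d⁻¹ = τ * s * τ⁻¹ by rw [hτ]; group, hs, mul_inv_cancel_right] at h1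
    obtain ⟨-, e⟩ := P.co_unique h1 F.cs
    rw [map_add, gm, gn] at e
    have := pm_polar e F.B.pm
    simp only [pb_add_left, F.B.nm, pb_self, add_zero, zero_add] at this
    exact absurd this (by decide)
  · intro k
    have hau := dconj (move F.cau)
    rw [add_zero, gu, map_zero, show d * (c * q * au * (c * q)⁻¹) * d⁻¹ = τ * au * τ⁻¹ by rw [hτ]; group] at hau
    obtain ⟨a, b, hab⟩ := P.co_zero (P.co_mul hau F.cav) (pm_self v) (pm_self 0)
    have e1 : τ * au * τ⁻¹ = zeta z t a b * av := by rw [← hab, mul_assoc _ av av, F.av2, mul_one]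
    have hzc : ∀ {x : G}, x * z = z * x → τ * x * τ⁻¹ * z = z * (τ * x * τ⁻¹) := fun hx => by
      exact (Commute.mul_left (Commute.mul_left (show Commute τ z from hτC) hx) (Commute.inv_left hτC)).eq
    have hcomm : ∀ {x y : G}, x * y = y * x ↔ τ * x * τ⁻¹ * (τ * y * τ⁻¹) = τ * y * τ⁻¹ * (τ * x * τ⁻¹) := by
      intro x y
      constructor
      · intro h
        calc τ * x * τ⁻¹ * (τ * y * τ⁻¹) = τ * (x * y) * τ⁻¹ := by group
          _ = τ * y * τ⁻¹ * (τ * x * τ⁻¹) := by rw [h]; group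
      · intro h
        have := congrArg (fun w => τ⁻¹ * w * τ) h
        group at this ⊢
        exact this
    constructor
    · intro hk
      obtain ⟨hkH, hka⟩ := mem_AA.1 hk
      obtain ⟨h1, h2, -⟩ := mem_HH.1 hkH
      have g2 : τ * k * τ⁻¹ * r = r * (τ * k * τ⁻¹) := by
        have := hcomm.1 h2
        rwa [show τ * r * τ⁻¹ = r by rw [hτr, mul_inv_cancel_right]] at this
      have g3 : τ * k * τ⁻¹ * t = t * (τ * k * τ⁻¹) := by
        have h3 := hcomm.1 (F.comm_t_of_mem hkH)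
        rw [hτt] at h3
        rw [show t = z * (z * t) by rw [← mul_assoc, P.S.z2, one_mul]]
        exact (Commute.mul_right (show Commute (τ * k * τ⁻¹) z from hzc h1) h3).eq
      refine mem_AA.2 ⟨F.mem_H_of (hzc h1) g3 g2, ?_⟩
      have h4 := hcomm.1 hka
      rw [e1] at h4
      have hk2 : τ * k * τ⁻¹ * zeta z t a b = zeta z t a b * (τ * k * τ⁻¹) := P.zeta_comm (hzc h1) g3 a b
      rw [← mul_assoc, hk2, mul_assoc, mul_assoc (zeta z t a b) av] at h4
      exact mul_left_cancel h4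
    · intro hk
      obtain ⟨hkH, hka⟩ := mem_AA.1 hk
      obtain ⟨h1, h2, -⟩ := mem_HH.1 hkH
      have g1 : k * z = z * k := hcomm.2 (by
        rw [show τ * z * τ⁻¹ = z by rw [hτC, mul_inv_cancel_right]]; exact h1)
      have g2 : k * r = r * k := hcomm.2 (by
        rw [show τ * r * τ⁻¹ = r by rw [hτr, mul_inv_cancel_right]]; exact h2)
      have g3 : k * t = t * k := hcomm.2 (by
        rw [hτt]; exact (Commute.mul_right (show Commute (τ * k * τ⁻¹) z from h1) (F.comm_t_of_mem hkH)).eq)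
      refine mem_AA.2 ⟨F.mem_H_of g1 g3 g2, hcomm.2 ?_⟩
      rw [e1]
      exact (Commute.mul_right (show Commute (τ * k * τ⁻¹) (zeta z t a b) from
        P.zeta_comm h1 (F.comm_t_of_mem hkH) a b) hka).eq

end Frm

end CfsgLib.SuzType
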