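import Mathlib
import Cfsg.Agent.Lib.SuzType.Local.VStruct
import Cfsg.Agent.Lib.SuzType.Local.CitCount

/-!
Suzuki type: the quotient of `C(V)` by `V` has the shape of `Cit`.
-/

set_option autoImplicit false
set_option linter.style.haveILetI false
set_option linter.unusedSectionVars false
set_option linter.unusedSimpArgs false

namespace CfsgLib.SuzType

open Subgroup CfsgLib.Classical

variable {G : Type*} [Group G] [Finite G]

/-- The four group as a subgroup of its centralizer. -/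
def VK (r s : G) : Subgroup (CV r s) := (closure {r, s}).subgroupOf (CV r s)

theorem closure_comm {r s x y : G} (hx : x ∈ CV r s) (hy : y ∈ closure ({r, s} : Set G)) : x * y = y * x := by
  obtain ⟨h1, h2⟩ := mem_CV.1 hx
  have hle : closure ({r, s} : Set G) ≤ centralizer ({x} : Set G) := (closure_le _).2 fun w hw => by
    rcases hw with rfl | rfl
    exacts [mem_centralizer_singleton_iff.2 h1.symm, mem_centralizer_singleton_iff.2 h2.symm]
  exact (mem_centralizer_singleton_iff.1 (hle hy)).symm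

instance VK_normal (r s : G) : (VK r s).Normal :=
  ⟨fun v hv g => by
    have e : g * v * g⁻¹ = v := mul_inv_eq_iff_eq_mul.2 (Subtype.ext (closure_comm g.2 hv))
    rwa [e]⟩

/-- The quotient. -/
abbrev XX (r s : G) : Type _ := CV r s ⧸ VK r s

/-- The image of a subgroup of `C(V)`. -/
def imgX (r s : G) (K : Subgroup G) : Subgroup (XX r s) :=
  (K.subgroupOf (CV r s)).map (QuotientGroup.mk' (VK r s))

theorem mem_imgX {r s : G} {K : Subgroup G} (hV : closure {r, s} ≤ K) {x : CV r s} :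
    (QuotientGroup.mk' (VK r s) x) ∈ imgX r s K ↔ (x : G) ∈ K := by
  constructor
  · rintro ⟨y, hy, e⟩
    obtain ⟨v, hv, rfl⟩ := (QuotientGroup.mk'_eq_mk' _).1 e
    exact mul_mem (mem_subgroupOf.1 hy) (hV (mem_subgroupOf.1 hv))
  · exact fun h => ⟨x, mem_subgroupOf.2 h, rfl⟩

theorem card_imgX {r s : G} {K : Subgroup G} (hV : closure {r, s} ≤ K) (hK : K ≤ CV r s) :
    Nat.card (closure ({r, s} : Set G)) * Nat.card (imgX r s K) = Nat.card K := by
  set φ := (QuotientGroup.mk' (VK r s)).comp (K.subgroupOf (CV r s)).subtype with hφ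
  have hr : φ.range = imgX r s K := by
    rw [hφ, MonoidHom.range_comp, range_subtype, imgX]
  have hk : φ.ker = (VK r s).subgroupOf (K.subgroupOf (CV r s)) := by
    rw [hφ, ← MonoidHom.comap_ker, QuotientGroup.ker_mk']; rfl
  have h := card_mul_index φ.ker
  rw [index_ker, hr, hk] at h
  have hVK : VK r s ≤ K.subgroupOf (CV r s) := fun v hv => mem_subgroupOf.2 (hV (mem_subgroupOf.1 hv))
  rw [Nat.card_congr (subgroupOfEquivOfLe hVK).toEquiv,
    Nat.card_congr (subgroupOfEquivOfLe hK).toEquiv,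
    show Nat.card (VK r s) = Nat.card (closure ({r, s} : Set G)) from
      Nat.card_congr (subgroupOfEquivOfLe (hV.trans hK)).toEquiv] at h
  exact h

namespace Frm

variable {z t : G} {Q R : Subgroup G} {π π' : G → V6} {ρ ρ' : G → qAut qm} {r s ω au bu av bv : G}
  {m n u v : V6} (F : Frm z t Q R π π' ρ ρ' r s ω au bu av bv m n u v)

include F

theorem zeta_mem_both (i j : ZMod 2) : zeta z t i j ∈ AA z r s au ∧ zeta z t i j ∈ AA z r s av :=
  ⟨F.mem_Au_iff.2 ⟨0, 0, F.P.co_zeta i j, by simp [pb_zero_left], by simp [pb_zero_left]⟩,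
    F.mem_Av_iff.2 ⟨0, 0, F.P.co_zeta i j, by simp [pb_zero_left], by simp [pb_zero_left]⟩⟩

theorem z_mem_both : z ∈ AA z r s au ∧ z ∈ AA z r s av := by
  have h := F.zeta_mem_both 1 0
  rwa [show zeta z t 1 0 = z by simp [zeta, zb_one, zb_zero]] at h

theorem r_mem_both : r ∈ AA z r s au ∧ r ∈ AA z r s av :=
  ⟨F.mem_Au_iff.2 ⟨m, n, F.cr, by simp only [F.B.mn, F.B.nm, pb_self, add_zero, zero_add, and_self], by simp [F.B.mu, F.B.nu]⟩,
    F.mem_Av_iff.2 ⟨m, n, F.cr, by simp only [F.B.mn, F.B.nm, pb_self, add_zero, zero_add, and_self], by simp [F.B.mv, F.B.nv]⟩⟩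

theorem s_mem_both : s ∈ AA z r s au ∧ s ∈ AA z r s av :=
  ⟨F.mem_Au_iff.2 ⟨n, m + n, F.cs, by simp only [pb_add_left, F.B.mn, F.B.nm, pb_self, add_zero, zero_add, and_self],
      by simp [pb_add_left, F.B.mu, F.B.nu]⟩,
    F.mem_Av_iff.2 ⟨n, m + n, F.cs, by simp only [pb_add_left, F.B.mn, F.B.nm, pb_self, add_zero, zero_add, and_self],
      by simp [pb_add_left, F.B.mv, F.B.nv]⟩⟩

theorem V_le_both : closure ({r, s} : Set G) ≤ AA z r s au ⊓ AA z r s av := by
  rw [closure_le]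
  rintro w (rfl | rfl)
  exacts [F.r_mem_both, F.s_mem_both]

/-- The elements of the four group. -/
theorem mem_V {w : G} (hw : w ∈ closure ({r, s} : Set G)) : ∃ a b : ZMod 2, w = zb r a * zb s b := by
  have hs2 := F.s2
  have hr2 := F.r2
  have hrs := F.rs
  induction hw using closure_induction with
  | mem x hx =>
    rcases hx with rfl | rfl
    · exact ⟨1, 0, by simp [zb_one, zb_zero]⟩
    · exact ⟨0, 1, by simp [zb_one, zb_zero]⟩
  | one => exact ⟨0, 0, by simp [zb_zero]⟩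
  | mul x y _ _ hx hy =>
    obtain ⟨a, b, rfl⟩ := hx
    obtain ⟨c, d, rfl⟩ := hy
    refine ⟨a + c, b + d, ?_⟩
    have hc : Commute (zb s b) (zb r c) := by
      rcases two_cases b with rfl | rfl <;> rcases two_cases c with rfl | rfl <;>
        simp only [zb_zero, zb_one, Commute.one_left, Commute.one_right]
      exact hrs.symm
    rw [← zb_mul hr2, ← zb_mul hs2, mul_assoc, ← mul_assoc (zb s b), hc.eq]
    group
  | inv x _ hx =>
    obtain ⟨a, b, rfl⟩ := hx
    refine ⟨a, b, inv_eq_of_mul_eq_one_right ?_⟩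
    rcases two_cases a with rfl | rfl <;> rcases two_cases b with rfl | rfl <;>
      simp only [zb_zero, zb_one, one_mul, mul_one, hr2, hs2]
    rw [show r * s * (r * s) = r * (s * r) * s by group, ← hrs, ← mul_assoc r, hr2, one_mul, hs2]

theorem co_V (a b : ZMod 2) :
    Co z t Q R π ρ (zb r a * zb s b) (a • m + b • n) (a • n + b • (m + n)) :=
  F.P.co_mul (F.co_zb F.cr a) (F.co_zb F.cs b)

theorem card_V : Nat.card (closure ({r, s} : Set G)) = 4 := by
  let f : ZMod 2 × ZMod 2 → closure ({r, s} : Set G) := fun p => ⟨zb r p.1 * zb s p.2, by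
    refine mul_mem ?_ ?_
    · rcases two_cases p.1 with e | e <;> rw [e]
      · rw [zb_zero]; exact one_mem _
      · rw [zb_one]; exact subset_closure (by simp)
    · rcases two_cases p.2 with e | e <;> rw [e]
      · rw [zb_zero]; exact one_mem _
      · rw [zb_one]; exact subset_closure (by simp)⟩
  rw [← Nat.card_congr (Equiv.ofBijective f ⟨fun p q h => by
    have h' : zb r p.1 * zb s p.2 = zb r q.1 * zb s q.2 := congrArg Subtype.val h
    obtain ⟨ex, -⟩ := F.P.co_unique (F.co_V p.1 p.2) (h' ▸ F.co_V q.1 q.2)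
    have a := pm_polar ex F.B.pn
    have b := pm_polar ex F.B.pm
    simp only [pb_add_left, pb_smul_left, F.B.mn, F.B.nm, pb_self, mul_one, mul_zero, add_zero, zero_add] at a b
    exact Prod.ext a b, fun w => by
      obtain ⟨a, b, e⟩ := F.mem_V w.2
      exact ⟨(a, b), Subtype.ext e.symm⟩⟩)]
  simp

theorem zeta_inter_V {i j : ZMod 2} (h : zeta z t i j ∈ closure ({r, s} : Set G)) : zeta z t i j = 1 := by
  obtain ⟨a, b, e⟩ := F.mem_V h
  obtain ⟨ex, -⟩ := F.P.co_unique (F.co_V a b) (e ▸ F.P.co_zeta i j)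
  have ha := pm_polar ex F.B.pn
  have hb := pm_polar ex F.B.pm
  simp only [pb_add_left, pb_smul_left, F.B.mn, F.B.nm, pb_self, pb_zero_left, mul_one, mul_zero, add_zero,
    zero_add] at ha hb
  rw [e, ha, hb, zb_zero, zb_zero, one_mul]

theorem z_notMem_V : z ∉ closure ({r, s} : Set G) := fun h => by
  have hz : zeta z t 1 0 = z := by simp [zeta, zb_one, zb_zero]
  exact F.P.S.z1 (hz ▸ F.zeta_inter_V (hz.symm ▸ h))

/-- A conjugate of `z` in `zV` is `z`. -/
theorem zclass_coset {w : G} (hw : w ∈ closure ({r, s} : Set G)) (hz : IsConj z (z * w)) : w = 1 := by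
  obtain ⟨a, b, rfl⟩ := F.mem_V hw
  have hne : z * (zb r a * zb s b) ≠ 1 := fun e => F.z_notMem_V (by
    rw [← inv_inv z, inv_eq_of_mul_eq_one_right e]; exact inv_mem hw)
  have hmem : z * (zb r a * zb s b) ∈ AA z r s au := mul_mem F.z_mem_both.1 (F.V_le_both hw).1
  have hco := F.P.co_mul (F.P.co_zeta 1 0) (F.co_V a b)
  rw [show zeta z t 1 0 = z by simp [zeta, zb_one, zb_zero]] at hco
  obtain ⟨e1, e2⟩ := (F.zclass_iff hmem hne hco).1 hz
  simp only [pb_add_left, pb_smul_left, F.B.mn, F.B.nm, pb_self, mul_one, mul_zero, add_zero, zero_add,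
    pb_zero_left] at e1 e2
  rw [e1, e2, zb_zero, zb_zero, one_mul]

theorem zero_one_four : Nat.card (imgX r s (AA z r s au ⊓ AA z r s av)) = 4 := by
  have h := card_imgX (F.V_le_both) ((inf_le_left.trans inf_le_left).trans inf_le_right)
  rw [F.card_V, F.card_both] at h
  omega

theorem z_mem_CV : z ∈ CV r s := mem_CV.2 ⟨F.r_co.1.symm, F.s_co.1.symm⟩

/-- The image of the involution. -/
theorem cit : Cit (QuotientGroup.mk' (VK r s) ⟨z, F.z_mem_CV⟩) (imgX r s (HH z r s)) (imgX r s (AA z r s au))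
    (imgX r s (AA z r s av)) := by
  classical
  set μ := QuotientGroup.mk' (VK r s) with hμ
  have hVu : closure ({r, s} : Set G) ≤ AA z r s au := F.V_le_both.trans inf_le_left
  have hVv : closure ({r, s} : Set G) ≤ AA z r s av := F.V_le_both.trans inf_le_right
  have hVH : closure ({r, s} : Set G) ≤ HH z r s := hVu.trans inf_le_left
  have hHK : HH z r s ≤ CV r s := inf_le_right
  have hcard : ∀ {K : Subgroup G} {n : ℕ}, closure ({r, s} : Set G) ≤ K → K ≤ CV r s → Nat.card K = 4 * n →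
      Nat.card (imgX r s K) = n := fun h1 h2 h3 => by
    have h := card_imgX h1 h2
    rw [F.card_V, h3] at h
    omega
  have hsurj : Function.Surjective μ := QuotientGroup.mk'_surjective _
  -- membership in the intersection
  have hE : imgX r s (AA z r s au ⊓ AA z r s av) = imgX r s (AA z r s au) ⊓ imgX r s (AA z r s av) := by
    ext x
    obtain ⟨x, rfl⟩ := hsurj x
    rw [mem_inf, mem_imgX hVu, mem_imgX hVv, mem_imgX F.V_le_both, mem_inf]
  have tr : ∀ {au bu av bv : G} {u v : V6}, Frm z t Q R π π' ρ ρ' r s ω au bu av bv m n u v →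
      ∀ a ∈ imgX r s (AA z r s au), a ≠ 1 →
        ∃ g ∈ normalizer (imgX r s (AA z r s au) : Set (XX r s)), g * μ ⟨z, F.z_mem_CV⟩ * g⁻¹ = a := by
    intro au bu av bv u v F' a ha h1
    have hV' : closure ({r, s} : Set G) ≤ AA z r s au := F'.V_le_both.trans inf_le_left
    obtain ⟨⟨a, haK⟩, rfl⟩ := hsurj a
    have haA : a ∈ AA z r s au := (mem_imgX hV').1 ha
    obtain ⟨x, y, hco, -⟩ := F'.mem_Au_iff.1 haA
    set w := zb r (pb x n) * zb s (pb x m) with hw
    have hwV : w ∈ closure ({r, s} : Set G) := by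
      refine mul_mem ?_ ?_
      · rcases two_cases (pb x n) with e | e <;> rw [e]
        · rw [zb_zero]; exact one_mem _
        · rw [zb_one]; exact subset_closure (by simp)
      · rcases two_cases (pb x m) with e | e <;> rw [e]
        · rw [zb_zero]; exact one_mem _
        · rw [zb_one]; exact subset_closure (by simp)
    have hwK : w ∈ CV r s := hHK (hVH hwV)
    have hne : a * w ≠ 1 := fun e => h1 ((QuotientGroup.eq_one_iff _).2 (mem_subgroupOf.2 (by
      show a ∈ _
      rw [← inv_inv a, inv_eq_of_mul_eq_one_right e]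
      exact inv_mem hwV)))
    have hco' := F'.P.co_mul hco (F'.co_V (pb x n) (pb x m))
    obtain ⟨g, hgK, hgN, hg⟩ := F'.transitive (mul_mem haA (hV' hwV)) hne
      ((F'.zclass_iff (mul_mem haA (hV' hwV)) hne hco').2 (by
        simp only [pb_add_left, pb_smul_left, F'.B.mn, F'.B.nm, pb_self, mul_one, mul_zero, add_zero, zero_add,
          CharTwo.add_self_eq_zero, and_self]))
    refine ⟨μ ⟨g, hgK⟩, mem_normalizer_iff.2 fun y => ?_, ?_⟩
    · obtain ⟨⟨y, hyK⟩, rfl⟩ := hsurj y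
      rw [← map_inv, ← map_mul, ← map_mul, mem_imgX hV', mem_imgX hV']
      exact mem_normalizer_iff.1 hgN y
    · rw [← map_inv, ← map_mul, ← map_mul]
      refine (QuotientGroup.mk'_eq_mk' _).2 ⟨⟨w⁻¹, inv_mem hwK⟩, mem_subgroupOf.2 (inv_mem hwV), Subtype.ext ?_⟩
      show g * z * g⁻¹ * w⁻¹ = a
      rw [hg, mul_inv_cancel_right]
  refine ⟨?_, ?_, hcard hVH hHK (F.card_H.trans (by norm_num)), map_mono (comap_mono inf_le_left),
    map_mono (comap_mono inf_le_left), hcard hVu (inf_le_left.trans hHK) (F.card_Au.trans (by norm_num)),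
    hcard hVv (inf_le_left.trans hHK) (F.swapUV.card_Au.trans (by norm_num)), hE ▸ F.zero_one_four,
    (mem_imgX hVu).2 F.z_mem_both.1, (mem_imgX hVv).2 F.z_mem_both.2, ?_, ?_, ?_, ?_, ?_, ?_, tr F, tr F.swapUV⟩
  · ext x
    obtain ⟨⟨x, hx⟩, rfl⟩ := hsurj x
    rw [mem_centralizer_singleton_iff, mem_imgX hVH]
    constructor
    · intro h
      obtain ⟨w, hwV, e⟩ := (QuotientGroup.mk'_eq_mk' _).1 (show μ (⟨x, hx⟩ * ⟨z, F.z_mem_CV⟩) = μ (⟨z, F.z_mem_CV⟩ * ⟨x, hx⟩) by
        rw [map_mul, map_mul]; exact h)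
      have e' : x * z * w = z * x := congrArg Subtype.val e
      have hwV' : (w : G) ∈ closure ({r, s} : Set G) := mem_subgroupOf.1 hwV
      have hz' : x * z * x⁻¹ = z * (w : G)⁻¹ := by
        have hc := closure_comm hx hwV'
        calc x * z * x⁻¹ = x * z * w * (x * (w : G))⁻¹ := by group
          _ = z * x * ((w : G) * x)⁻¹ := by rw [e', hc]
          _ = z * (w : G)⁻¹ := by group
      have hw1 := F.zclass_coset (inv_mem hwV') (isConj_iff.2 ⟨x, hz'⟩)
      rw [hw1, mul_one] at hz'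
      exact mem_inf.2 ⟨mem_centralizer_singleton_iff.2 (mul_inv_eq_iff_eq_mul.1 hz'), hx⟩
    · intro h
      rw [← map_mul, ← map_mul]
      exact congrArg μ (Subtype.ext (mem_HH.1 h).1)
  · intro h
    have h' : (⟨z, F.z_mem_CV⟩ : CV r s) ∈ VK r s := (QuotientGroup.eq_one_iff _).1 h
    exact F.z_notMem_V (mem_subgroupOf.1 h')
  · intro a ha
    obtain ⟨⟨a, haK⟩, rfl⟩ := hsurj a
    rw [← map_mul, show (⟨a, haK⟩ * ⟨a, haK⟩ : CV r s) = 1 from Subtype.ext (F.Au_sq ((mem_imgX hVu).1 ha)), map_one]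
  · intro a ha
    obtain ⟨⟨a, haK⟩, rfl⟩ := hsurj a
    rw [← map_mul, show (⟨a, haK⟩ * ⟨a, haK⟩ : CV r s) = 1 from Subtype.ext (F.Av_sq ((mem_imgX hVv).1 ha)), map_one]
  · intro x hx
    obtain ⟨⟨x, hxK⟩, rfl⟩ := hsurj x
    obtain ⟨p, rfl⟩ := F.wd_surj ((mem_imgX hVH).1 hx)
    obtain ⟨a, ha, b, hb, e⟩ := F.wd_split p
    refine ⟨μ ⟨a, hHK (mem_AA.1 ha).1⟩, (mem_imgX hVu).2 ha, μ ⟨b, hHK (mem_AA.1 hb).1⟩, (mem_imgX hVv).2 hb, ?_⟩
    rw [← map_mul]
    exact congrArg μ (Subtype.ext e)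
  · intro a ha b hb
    obtain ⟨⟨a, haK⟩, rfl⟩ := hsurj a
    obtain ⟨⟨b, hbK⟩, rfl⟩ := hsurj b
    obtain ⟨i, j, e⟩ := F.comm_zeta (mem_AA.1 ((mem_imgX hVu).1 ha)).1 (mem_AA.1 ((mem_imgX hVv).1 hb)).1
    rw [← map_inv, ← map_inv, ← map_mul, ← map_mul, ← map_mul, ← hE, mem_imgX F.V_le_both]
    show a * b * a⁻¹ * b⁻¹ ∈ _
    rw [e, mul_inv_cancel_right]
    exact F.zeta_mem_both i j
  all_goals
    intro a ha hab x hx hxa
    obtain ⟨⟨a, haK⟩, rfl⟩ := hsurj a
    obtain ⟨⟨x, hxK⟩, rfl⟩ := hsurj x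
    obtain ⟨w, hwV, e⟩ := (QuotientGroup.mk'_eq_mk' _).1 (show μ (⟨a, haK⟩ * ⟨x, hxK⟩) = μ (⟨x, hxK⟩ * ⟨a, haK⟩) by
      rw [map_mul, map_mul]; exact hxa.symm)
    have e' : a * x * w = x * a := congrArg Subtype.val e
    have hxH := (mem_imgX hVH).1 hx
  · have ha' := (mem_imgX hVu).1 ha
    obtain ⟨i, j, h⟩ := F.comm_zeta hxH (mem_AA.1 ha').1
    have h' : zeta z t i j = (w : G) := by
      have hc := closure_comm haK (mem_subgroupOf.1 hwV)
      calc zeta z t i j = x * a * x⁻¹ * a⁻¹ := by rw [h]; group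
        _ = a * x * w * (a * x)⁻¹ := by rw [← e']; group
        _ = (w : G) := by
          rw [show a * x * w = w * (a * x) by
            rw [closure_comm (mul_mem haK hxK) (mem_subgroupOf.1 hwV)]]
          group
    have h1 := F.zeta_inter_V (h' ▸ mem_subgroupOf.1 hwV)
    rw [h1, one_mul] at h
    exact (mem_imgX hVu).2 (F.mem_Au_of_comm ha' (fun h0 => hab ((mem_imgX hVv).2 h0)) hxH
      (mul_inv_eq_iff_eq_mul.1 h).symm)
  · have ha' := (mem_imgX hVv).1 ha
    obtain ⟨i, j, h⟩ := F.comm_zeta hxH (mem_AA.1 ha').1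
    have h' : zeta z t i j = (w : G) := by
      calc zeta z t i j = x * a * x⁻¹ * a⁻¹ := by rw [h]; group
        _ = a * x * w * (a * x)⁻¹ := by rw [← e']; group
        _ = (w : G) := by
          rw [show a * x * w = w * (a * x) by
            rw [closure_comm (mul_mem haK hxK) (mem_subgroupOf.1 hwV)]]
          group
    have h1 := F.zeta_inter_V (h' ▸ mem_subgroupOf.1 hwV)
    rw [h1, one_mul] at h
    exact (mem_imgX hVv).2 (F.mem_Av_of_comm ha' (fun h0 => hab ((mem_imgX hVu).2 h0)) hxH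
      (mul_inv_eq_iff_eq_mul.1 h).symm)

end Frm

end CfsgLib.SuzType
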