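import Mathlib
import Cfsg.Agent.Lib.SuzType.Local.Quot

/-!
Suzuki type: the four group is normal in the centralizer of an involution of the second kind.
-/

set_option autoImplicit false
set_option linter.style.haveILetI false
set_option linter.unusedSectionVars false
set_option linter.unusedSimpArgs false

namespace CfsgLib.SuzType

open Subgroup CfsgLib.Classical

variable {G : Type*} [Group G] [Finite G]

/-- The Sylow subgroup of the centralizer. -/
def TT (z r : G) : Subgroup G := centralizer ({z} : Set G) ⊓ centralizer ({r} : Set G)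

/-- The outer element. -/
structure Outer (z t r s au av τ : G) : Prop where
  hz : τ * z = z * τ
  hr : τ * r = r * τ
  ht : τ * t * τ⁻¹ = z * t
  hs : τ * s ≠ s * τ
  hAB : ∀ c, c ∈ AA z r s au ↔ τ * c * τ⁻¹ ∈ AA z r s av

theorem mem_TT {z r d : G} : d ∈ TT z r ↔ d * z = z * d ∧ d * r = r * d := by
  rw [TT, mem_inf, mem_centralizer_singleton_iff, mem_centralizer_singleton_iff]

omit [Finite G] in
theorem comm_conj {g x y : G} (h : x * y = y * x) :
    g * x * g⁻¹ * (g * y * g⁻¹) = g * y * g⁻¹ * (g * x * g⁻¹) :=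
  (Commute.conj_iff g).2 h

namespace Frm

variable {z t : G} {Q R : Subgroup G} {π π' : G → V6} {ρ ρ' : G → qAut qm} {r s ω au bu av bv : G}
  {m n u v : V6} (F : Frm z t Q R π π' ρ ρ' r s ω au bu av bv m n u v)

include F

theorem outer_exists : ∃ τ, Outer z t r s au av τ := by
  obtain ⟨τ, h1, h2, h3, h4, h5⟩ := F.exists_outer
  exact ⟨τ, h1, h2, h3, h4, h5⟩

theorem HH_le_TT : HH z r s ≤ TT z r := fun d hd => by
  obtain ⟨h1, h2, -⟩ := mem_HH.1 hd
  exact mem_TT.2 ⟨h1, h2⟩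

theorem TT_move {d : G} (hd : d ∈ TT z r) : d * t * d⁻¹ = t ∨ d * t * d⁻¹ = z * t :=
  (F.P.fix_p (mem_centralizer_singleton_iff.2 (mem_TT.1 hd).1) (mem_TT.1 hd).2 F.cr F.B.n1 F.B.pm F.B.mn).2

theorem mem_HH_of_TT {d : G} (hd : d ∈ TT z r) (h : d * t * d⁻¹ = t) : d ∈ HH z r s :=
  F.mem_H_of (mem_TT.1 hd).1 (mul_inv_eq_iff_eq_mul.1 h) (mem_TT.1 hd).2

theorem conj_t_of_H {d : G} (hd : d ∈ HH z r s) : d * t * d⁻¹ = t := by
  rw [F.comm_t_of_mem hd, mul_inv_cancel_right]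

theorem t_ne_zt : t ≠ z * t := fun h => F.P.S.z1 (mul_eq_right.1 h.symm)

theorem au_notMem_Av : au ∉ AA z r s av := fun h => by
  obtain ⟨x, y, hc, -, hx, -⟩ := F.mem_Av_iff.1 h
  obtain ⟨ex, -⟩ := F.P.co_unique hc F.cau
  rw [pm_polar ex F.B.pv, F.B.uv] at hx
  exact one_ne_zero hx

theorem au_mem : au ∈ AA z r s au :=
  F.mem_Au_iff.2 ⟨u, 0, F.cau, by simp [F.B.um, F.B.un, pb_zero_left], pb_self u, pb_zero_left u⟩

theorem bu_mem : bu ∈ AA z r s au :=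
  F.mem_Au_iff.2 ⟨0, u, F.cbu, by simp [F.B.um, F.B.un, pb_zero_left], pb_zero_left u, pb_self u⟩

/-- An element of both subgroups. -/
theorem both_form {c : G} (h1 : c ∈ AA z r s au) (h2 : c ∈ AA z r s av) :
    ∃ i j a b, c = zeta z t i j * (zb r a * zb s b) := by
  obtain ⟨⟨⟨i, j⟩, ⟨a, b⟩, q, w⟩, hp⟩ := F.wd_surj (mem_AA.1 h1).1
  obtain ⟨x, y, h, -, hxu, hyu⟩ := F.mem_Au_iff.1 h1
  obtain ⟨x', y', h', -, hxv, hyv⟩ := F.mem_Av_iff.1 h2
  obtain ⟨-, -, -, -, -, -, e7, e8⟩ := F.wd_coords ((i, j), (a, b), q, w) (hp ▸ h)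
  obtain ⟨-, -, -, -, e5, e6, -, -⟩ := F.wd_coords ((i, j), (a, b), q, w) (hp ▸ h')
  refine ⟨i, j, a, b, ?_⟩
  rw [hp, show w = (0, 0) from Prod.ext (e7.symm.trans hxu) (e8.symm.trans hyu),
    show q = (0, 0) from Prod.ext (e5.symm.trans hxv) (e6.symm.trans hyv)]
  simp [wd, zb_zero, mul_assoc]

theorem r_ne_one : r ≠ 1 := fun h => by
  have h' := F.cr
  rw [h, ← zeta_zero z t] at h'
  obtain ⟨ex, -⟩ := F.P.co_unique h' (F.P.co_zeta 0 0)
  have := pm_polar ex F.B.pn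
  rw [F.B.mn, pb_zero_left] at this
  exact one_ne_zero this

theorem s_not_z : ¬ IsConj z s := fun h => by
  have h1 : s ≠ 1 := fun e => F.r_ne_one (by
    have := F.ws
    rw [e, eq_comm, conj_eq_one_iff] at this
    exact this)
  have := ((F.zclass_iff F.s_mem_both.1 h1 F.cs).1 h).2
  rw [F.B.nm] at this
  exact one_ne_zero this

theorem s_not_one : s ≠ 1 := fun e => F.r_ne_one (by
  have := F.ws
  rw [e, eq_comm, conj_eq_one_iff] at this
  exact this)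

theorem s_ne_r : s ≠ r := fun h => by
  obtain ⟨ex, -⟩ := F.P.co_unique (h ▸ F.cs) F.cr
  have := pm_polar ex F.B.pn
  rw [pb_self, F.B.mn] at this
  exact zero_ne_one this

theorem r_mem_HH : r ∈ HH z r s := (mem_AA.1 F.r_mem_both.1).1

theorem s_mem_HH : s ∈ HH z r s := (mem_AA.1 F.s_mem_both.1).1

/-- A conjugate of `z` in `C(V)` is conjugate to it there. -/
theorem cv_class {w : G} (hw : w ∈ CV r s) (hz : IsConj z w) : ∃ c ∈ CV r s, c * z * c⁻¹ = w := by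
  have C := F.cit
  set μ := QuotientGroup.mk' (VK r s) with hμ
  obtain ⟨g, hg⟩ := isConj_iff.1 hz
  have hw2 : w * w = 1 := by
    rw [← hg, show g * z * g⁻¹ * (g * z * g⁻¹) = g * (z * z) * g⁻¹ by group, F.P.S.z2, mul_one, mul_inv_cancel]
  have hw1 : w ≠ 1 := fun e => F.P.S.z1 (by rw [← hg, conj_eq_one_iff] at e; exact e)
  have hwV : w ∉ closure ({r, s} : Set G) := fun h => by
    obtain ⟨a, b, rfl⟩ := F.mem_V h
    obtain ⟨e1, e2⟩ := (F.zclass_iff (F.V_le_both h).1 hw1 (F.co_V a b)).1 hz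
    simp only [pb_add_left, pb_smul_left, F.B.mn, F.B.nm, pb_self, mul_one, mul_zero, add_zero, zero_add] at e1 e2
    exact hw1 (by rw [e1, e2, zb_zero, zb_zero, one_mul])
  have hord : orderOf (μ ⟨w, hw⟩) = 2 := by
    refine orderOf_two'.2 ⟨?_, fun h => ?_⟩
    · rw [← map_mul, show (⟨w, hw⟩ * ⟨w, hw⟩ : CV r s) = 1 from Subtype.ext hw2, map_one]
    · have h' : (⟨w, hw⟩ : CV r s) ∈ VK r s := (QuotientGroup.eq_one_iff _).1 h
      exact hwV (mem_subgroupOf.1 h')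
  obtain ⟨c', hc⟩ := isConj_iff.1 (C.conj_all hord)
  obtain ⟨⟨c, hcK⟩, rfl⟩ := QuotientGroup.mk'_surjective _ c'
  rw [← map_inv, ← map_mul, ← map_mul] at hc
  obtain ⟨⟨v', hv'K⟩, hv', e⟩ := (QuotientGroup.mk'_eq_mk' _).1 hc
  have e' : c * z * c⁻¹ * v' = w := congrArg Subtype.val e
  have hv'' : v' ∈ closure ({r, s} : Set G) := mem_subgroupOf.1 hv'
  have hzv : z * v' = c⁻¹ * w * c := by
    calc z * v' = c⁻¹ * (c * z * c⁻¹ * (c * v' * c⁻¹)) * c := by group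
      _ = c⁻¹ * w * c := by rw [closure_comm hcK hv'', mul_inv_cancel_right, e']
  have := F.zclass_coset hv'' (hzv ▸ hz.trans (isConj_iff.2 ⟨c⁻¹, by group⟩))
  rw [this, mul_one] at e'
  exact ⟨c, hcK, e'⟩

section

variable {τ : G} (O : Outer z t r s au av τ)

include O

theorem tau_mem : τ ∈ TT z r := mem_TT.2 ⟨O.hz, O.hr⟩

theorem TT_cases {d : G} (hd : d ∈ TT z r) : d ∈ HH z r s ∨ τ⁻¹ * d ∈ HH z r s := by
  rcases F.TT_move hd with h | h
  · exact .inl (F.mem_HH_of_TT hd h)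
  · refine .inr (F.mem_HH_of_TT (mul_mem (inv_mem (F.tau_mem O)) hd) ?_)
    rw [show τ⁻¹ * d * t * (τ⁻¹ * d)⁻¹ = τ⁻¹ * (d * t * d⁻¹) * τ by group, h, ← O.ht]
    group

theorem tau_conj_HH {h : G} (hh : h ∈ HH z r s) : τ * h * τ⁻¹ ∈ HH z r s := by
  obtain ⟨h1, h2, -⟩ := mem_HH.1 hh
  refine F.mem_HH_of_TT (mul_mem (mul_mem (F.tau_mem O) (F.HH_le_TT hh)) (inv_mem (F.tau_mem O))) ?_
  have hzt : h * (z * t) = z * t * h := (Commute.mul_right (show Commute h z from h1) (F.comm_t_of_mem hh)).eq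
  have e1 : τ⁻¹ * t * τ = z * t := by
    have ez : τ⁻¹ * z * τ = z := by rw [mul_assoc, ← O.hz, inv_mul_cancel_left]
    calc τ⁻¹ * t * τ = τ⁻¹ * (z * (z * t)) * τ := by rw [← mul_assoc z, F.P.S.z2, one_mul]
      _ = (τ⁻¹ * z * τ) * (τ⁻¹ * (z * t) * τ) := by group
      _ = z * (τ⁻¹ * (τ * t * τ⁻¹) * τ) := by rw [ez, O.ht]
      _ = z * t := by group
  calc τ * h * τ⁻¹ * t * (τ * h * τ⁻¹)⁻¹ = τ * (h * (τ⁻¹ * t * τ) * h⁻¹) * τ⁻¹ := by group
    _ = τ * (τ⁻¹ * t * τ) * τ⁻¹ := by rw [e1, hzt, mul_inv_cancel_right]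
    _ = t := by group

theorem tau_sq : τ * τ ∈ HH z r s := by
  refine F.mem_HH_of_TT (mul_mem (F.tau_mem O) (F.tau_mem O)) ?_
  rw [show τ * τ * t * (τ * τ)⁻¹ = τ * (τ * t * τ⁻¹) * τ⁻¹ by group, O.ht,
    show τ * (z * t) * τ⁻¹ = (τ * z * τ⁻¹) * (τ * t * τ⁻¹) by group, O.ht, O.hz, mul_inv_cancel_right,
    ← mul_assoc, F.P.S.z2, one_mul]

theorem tau_BA {c : G} : c ∈ AA z r s av ↔ τ * c * τ⁻¹ ∈ AA z r s au := by
  have hN := F.mem_norm_of fun c hc => F.conj_mem_Au (F.tau_sq O) hc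
  have e : τ * c * τ⁻¹ = τ * τ * (τ⁻¹ * c * τ) * (τ * τ)⁻¹ := by group
  rw [e, ← mem_normalizer_iff.1 hN, O.hAB (τ⁻¹ * c * τ), show τ * (τ⁻¹ * c * τ) * τ⁻¹ = c by group]

theorem swap_outer : Outer z t r s av au τ := ⟨O.hz, O.hr, O.ht, O.hs, fun _ => F.tau_BA O⟩

theorem norm_TT {d : G} (hd : d ∈ TT z r) (hn : d ∈ normalizer (AA z r s au : Set G)) : d ∈ HH z r s := by
  rcases F.TT_cases O hd with h | h
  · exact h
  exfalso
  have h1 : τ⁻¹ * d * au * (τ⁻¹ * d)⁻¹ ∈ AA z r s au := F.conj_mem_Au h F.au_mem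
  have h2 := (O.hAB _).1 h1
  rw [show τ * (τ⁻¹ * d * au * (τ⁻¹ * d)⁻¹) * τ⁻¹ = d * au * d⁻¹ by group] at h2
  have h3 := (mem_normalizer_iff.1 hn au).1 F.au_mem
  -- an element of both subgroups, conjugate to `au`
  have h4 : τ * (τ⁻¹ * d * au * (τ⁻¹ * d)⁻¹) * τ⁻¹ ∈ AA z r s au := by
    rwa [show τ * (τ⁻¹ * d * au * (τ⁻¹ * d)⁻¹) * τ⁻¹ = d * au * d⁻¹ by group]
  have h5 := (F.tau_BA O).2 h4
  have hh := inv_mem h
  have h6 : (τ⁻¹ * d)⁻¹ * (τ⁻¹ * d * au * (τ⁻¹ * d)⁻¹) * (τ⁻¹ * d)⁻¹⁻¹ ∈ AA z r s av :=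
    F.swapUV.conj_mem_Au hh h5
  rw [show (τ⁻¹ * d)⁻¹ * (τ⁻¹ * d * au * (τ⁻¹ * d)⁻¹) * (τ⁻¹ * d)⁻¹⁻¹ = au by group] at h6
  exact F.au_notMem_Av h6

/-- The normalizer of the elementary subgroup in `C(r)` centralizes `s`. -/
theorem norm_D {g : G} (hg : g * r = r * g) (hn : g ∈ normalizer (AA z r s au : Set G)) : g ∈ CV r s := by
  have hne : g * z * g⁻¹ ≠ 1 := fun h => F.P.S.z1 (conj_eq_one_iff.1 h)
  obtain ⟨k, hk, hkN, e⟩ := F.transitive ((mem_normalizer_iff.1 hn z).1 F.z_mem_both.1) hne (isConj_iff.2 ⟨g, rfl⟩)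
  have hkr := (mem_CV.1 hk).1
  have hT : k⁻¹ * g ∈ TT z r := by
    refine mem_TT.2 ⟨?_, (Commute.mul_left (Commute.inv_left (show Commute k r from hkr)) hg).eq⟩
    refine mul_inv_eq_iff_eq_mul.1 ?_
    calc k⁻¹ * g * z * (k⁻¹ * g)⁻¹ = k⁻¹ * (g * z * g⁻¹) * k := by group
      _ = z := by rw [← e]; group
  have := F.norm_TT O hT (mul_mem (inv_mem hkN) hn)
  have h2 := mul_mem hk (mem_inf.1 this).2
  rwa [mul_inv_cancel_left] at h2

/-- The outer element maps `s` to `r * s`. -/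
theorem tau_s : τ * s * τ⁻¹ = r * s := by
  set x := τ * s * τ⁻¹ with hx
  have hxA : x ∈ AA z r s au := (F.tau_BA O).1 F.s_mem_both.2
  have hxB : x ∈ AA z r s av := (O.hAB _).1 F.s_mem_both.1
  obtain ⟨i, j, a, b, e⟩ := F.both_form hxA hxB
  have hwV : zb r a * zb s b ∈ closure ({r, s} : Set G) := by
    refine mul_mem ?_ ?_
    · rcases two_cases a with rfl | rfl
      · rw [zb_zero]; exact one_mem _
      · rw [zb_one]; exact subset_closure (by simp)
    · rcases two_cases b with rfl | rfl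
      · rw [zb_zero]; exact one_mem _
      · rw [zb_one]; exact subset_closure (by simp)
  have hzeta : zeta z t i j = 1 := by
    by_contra hne
    have hco := F.P.co_zeta i j
    obtain ⟨g, hgK, hgN, hg⟩ := F.transitive (F.zeta_mem_both i j).1 hne
      ((F.zclass_iff (F.zeta_mem_both i j).1 hne hco).2 ⟨pb_zero_left n, pb_zero_left m⟩)
    -- normalizers in `C(V)` of the first subgroup centralize `x`
    have hcomm : ∀ g ∈ CV r s, g ∈ normalizer (AA z r s au : Set G) →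
        g * zeta z t i j = zeta z t i j * g := by
      intro g hgK hgN
      have hN' : τ⁻¹ * g * τ ∈ normalizer (AA z r s av : Set G) := mem_normalizer_iff.2 fun y => by
        rw [F.tau_BA O, F.tau_BA O (c := τ⁻¹ * g * τ * y * (τ⁻¹ * g * τ)⁻¹),
          show τ * (τ⁻¹ * g * τ * y * (τ⁻¹ * g * τ)⁻¹) * τ⁻¹ = g * (τ * y * τ⁻¹) * g⁻¹ by group]
        exact mem_normalizer_iff.1 hgN _
      have hr' : τ⁻¹ * g * τ * r = r * (τ⁻¹ * g * τ) :=
        ((Commute.inv_left (show Commute τ r from O.hr)).mul_left (mem_CV.1 hgK).1 |>.mul_left O.hr).eq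
      have hK' := F.swapUV.norm_D (F.swap_outer O) hr' hN'
      have hgx : g * x = x * g := by
        have := comm_conj (g := τ) (mem_CV.1 hK').2
        rwa [show τ * (τ⁻¹ * g * τ) * τ⁻¹ = g by group, ← hx] at this
      rw [e] at hgx
      have hw := closure_comm hgK hwV
      refine mul_right_cancel (b := zb r a * zb s b) ?_
      calc g * zeta z t i j * (zb r a * zb s b) = zeta z t i j * ((zb r a * zb s b) * g) := by
            rw [mul_assoc, hgx, mul_assoc]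
        _ = zeta z t i j * g * (zb r a * zb s b) := by rw [← hw, mul_assoc]
    have h1 : z = zeta z t i j := by
      calc z = g⁻¹ * (g * z * g⁻¹) * g := by group
        _ = g⁻¹ * (zeta z t i j * g) := by rw [hg, mul_assoc]
        _ = zeta z t i j := by rw [← hcomm g hgK hgN]; group
    obtain ⟨q, hqr, hqs, hqa, hqz⟩ := F.exists_mover_z
    have h2 := hcomm q (mem_CV.2 ⟨hqr, hqs⟩) (F.mem_norm_of fun c hc => F.mover_z_conj hqr hqs hqa hqz hc)
    rw [← h1] at h2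
    rw [h2, mul_inv_cancel_right] at hqz
    exact F.au_ne_one (mul_eq_right.1 hqz.symm)
  rw [hzeta, one_mul] at e
  rw [e]
  rcases two_cases b with rfl | rfl
  · exfalso
    rw [zb_zero, mul_one] at e
    rcases two_cases a with rfl | rfl
    · rw [zb_zero, hx, conj_eq_one_iff] at e
      exact F.s_not_one e
    · rw [zb_one, hx] at e
      exact F.s_ne_r (mul_left_cancel (mul_right_cancel (e.trans (by rw [O.hr, mul_inv_cancel_right]))))
  · rcases two_cases a with rfl | rfl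
    · exfalso
      rw [zb_zero, zb_one, one_mul, hx] at e
      exact O.hs (mul_inv_eq_iff_eq_mul.1 e)
    · rw [zb_one, zb_one]

end

end Frm

end CfsgLib.SuzType
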