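import Mathlib
import Cfsg.Agent.Lib.SuzType.Local.CentR
import Cfsg.Agent.Lib.Invol.ZStarFinal

/-!
Suzuki type: `C(r)` normalizes the four group.
-/

set_option autoImplicit false
set_option linter.style.haveILetI false
set_option linter.unusedSectionVars false
set_option linter.unusedSimpArgs false

namespace CfsgLib.SuzType

open Subgroup CfsgLib.Classical

variable {G : Type*} [Group G] [Finite G]

namespace Frm

variable {z t : G} {Q R : Subgroup G} {π π' : G → V6} {ρ ρ' : G → qAut qm} {r s ω au bu av bv τ : G}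
  {m n u v : V6} (F : Frm z t Q R π π' ρ ρ' r s ω au bu av bv m n u v) (O : Outer z t r s au av τ)

include F O

theorem TT_pgroup : IsPGroup 2 (TT z r) := by
  rintro ⟨x, hx⟩
  have hsq : x * x ∈ HH z r s := by
    rcases F.TT_cases O hx with h | h
    · exact mul_mem h h
    · have e : x * x = τ * (τ⁻¹ * x) * τ⁻¹ * (τ * τ) * (τ⁻¹ * x) := by group
      rw [e]
      exact mul_mem (mul_mem (F.tau_conj_HH O h) (F.tau_sq O)) h
  refine ⟨9, Subtype.ext ?_⟩
  show x ^ 2 ^ 9 = 1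
  have h := pow_card_eq_one' (G := HH z r s) (x := ⟨x * x, hsq⟩)
  rw [F.card_H] at h
  have h' : (x * x) ^ 256 = 1 := congrArg Subtype.val h
  rwa [← pow_two, ← pow_mul] at h'

theorem central_eq_z {c : G} (hc : c ∈ TT z r) (hcom : ∀ x ∈ TT z r, c * x = x * c) (hz : IsConj z c) : c = z := by
  have h1 : c ≠ 1 := fun e => by
    obtain ⟨g, hg⟩ := isConj_iff.1 hz
    rw [e, conj_eq_one_iff] at hg
    exact F.P.S.z1 hg
  have hau := hcom au (F.HH_le_TT (mem_AA.1 F.au_mem).1)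
  have hav := hcom av (F.HH_le_TT (mem_AA.1 F.swapUV.au_mem).1)
  have hcH : c ∈ HH z r s := by
    rcases F.TT_cases O hc with h | h
    · exact h
    exfalso
    have h2 := (O.hAB _).1 (F.conj_mem_Au h F.au_mem)
    rw [show τ * (τ⁻¹ * c * au * (τ⁻¹ * c)⁻¹) * τ⁻¹ = c * au * c⁻¹ by group, hau, mul_inv_cancel_right] at h2
    exact F.au_notMem_Av h2
  have cA : c ∈ AA z r s au := mem_AA.2 ⟨hcH, hau⟩
  have cB : c ∈ AA z r s av := mem_AA.2 ⟨hcH, hav⟩
  obtain ⟨i, j, a, b, e⟩ := F.both_form cA cB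
  have hco := F.P.co_mul (F.P.co_zeta i j) (F.co_V a b)
  rw [← e] at hco
  obtain ⟨e1, e2⟩ := (F.zclass_iff cA h1 hco).1 hz
  simp only [pb_add_left, pb_smul_left, F.B.mn, F.B.nm, pb_self, mul_one, mul_zero, add_zero, zero_add,
    pb_zero_left] at e1 e2
  rw [e1, e2, zb_zero, zb_zero, one_mul, mul_one] at e
  rcases two_cases j with rfl | rfl
  · rcases two_cases i with rfl | rfl
    · exact absurd (e.trans (zeta_zero z t)) h1
    · rw [e]; simp [zeta, zb_one, zb_zero]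
  · exfalso
    have ht := hcom τ (F.tau_mem O)
    rcases two_cases i with rfl | rfl
    · have e' : c = t := by rw [e]; simp [zeta, zb_one, zb_zero]
      rw [e'] at ht
      have := O.ht
      rw [← ht, mul_inv_cancel_right] at this
      exact F.t_ne_zt this
    · have e' : c = z * t := by rw [e]; simp [zeta, zb_one]
      rw [e'] at ht
      have h2 : τ * (z * t) * τ⁻¹ = t := by
        rw [show τ * (z * t) * τ⁻¹ = τ * z * τ⁻¹ * (τ * t * τ⁻¹) by group, O.ht, O.hz, mul_inv_cancel_right,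
          ← mul_assoc, F.P.S.z2, one_mul]
      rw [← ht, mul_inv_cancel_right] at h2
      exact F.t_ne_zt h2.symm

theorem TT_max {K : Subgroup G} (hK : IsPGroup 2 K) (hle : TT z r ≤ K) (hKr : ∀ k ∈ K, k * r = r * k) :
    K = TT z r := by
  haveI : Fact (Nat.Prime 2) := ⟨Nat.prime_two⟩
  haveI : Group.IsNilpotent K := hK.isNilpotent
  by_contra hne
  have hlt : (TT z r).subgroupOf K < ⊤ := lt_top_iff_ne_top.2 fun h =>
    hne (le_antisymm (subgroupOf_eq_top.1 h) hle)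
  obtain ⟨⟨g, hgK⟩, hgN, hgP⟩ := SetLike.exists_of_lt ((normalizerCondition_of_isNilpotent (G := K)) _ hlt)
  have hgN' : ∀ x ∈ TT z r, g * x * g⁻¹ ∈ TT z r := fun x hx =>
    (mem_normalizer_iff.1 hgN ⟨x, hle hx⟩).1 hx
  have hzT : z ∈ TT z r := mem_TT.2 ⟨rfl, F.r_co.1.symm⟩
  have h := F.central_eq_z O (hgN' z hzT) (fun x hx => ?_) (isConj_iff.2 ⟨g, rfl⟩)
  · exact hgP (mem_TT.2 ⟨mul_inv_eq_iff_eq_mul.1 h, hKr g hgK⟩)
  · have hN := inv_mem hgN
    have hx' : g⁻¹ * x * g⁻¹⁻¹ ∈ TT z r := (mem_normalizer_iff.1 hN ⟨x, hle hx⟩).1 hx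
    have := comm_conj (g := g) ((mem_TT.1 hx').1).symm
    rwa [show g * (g⁻¹ * x * g⁻¹⁻¹) * g⁻¹ = x by group] at this

/-- The conjugates of `s` in the Sylow subgroup. -/
theorem s_orbit {d : G} (hd : d * r = r * d) (hx : d * s * d⁻¹ ∈ TT z r) :
    d * s * d⁻¹ = s ∨ d * s * d⁻¹ = r * s := by
  have hwK : d⁻¹ * z * d ∈ CV r s := by
    refine mem_CV.2 ⟨((Commute.inv_left (show Commute d r from hd)).mul_left F.r_co.1.symm |>.mul_left hd).eq, ?_⟩
    have := comm_conj (g := d⁻¹) (mem_TT.1 hx).1.symm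
    rwa [show d⁻¹ * (d * s * d⁻¹) * d⁻¹⁻¹ = s by group, inv_inv] at this
  obtain ⟨c, hc, e⟩ := F.cv_class hwK (isConj_iff.2 ⟨d⁻¹, by group⟩)
  obtain ⟨hcr, hcs⟩ := mem_CV.1 hc
  have hT : d * c ∈ TT z r := by
    refine mem_TT.2 ⟨mul_inv_eq_iff_eq_mul.1 ?_, (Commute.mul_left (show Commute d r from hd) hcr).eq⟩
    calc d * c * z * (d * c)⁻¹ = d * (c * z * c⁻¹) * d⁻¹ := by group
      _ = z := by rw [e]; group
  have e2 : d * s * d⁻¹ = d * c * s * (d * c)⁻¹ := by
    calc d * s * d⁻¹ = d * (s * c) * c⁻¹ * d⁻¹ := by group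
      _ = d * c * s * (d * c)⁻¹ := by rw [← hcs]; group
  rw [e2]
  rcases F.TT_cases O hT with h | h
  · exact .inl (mul_inv_eq_iff_eq_mul.2 (mem_HH.1 h).2.2)
  · right
    calc d * c * s * (d * c)⁻¹ = τ * ((τ⁻¹ * (d * c)) * s * (τ⁻¹ * (d * c))⁻¹) * τ⁻¹ := by group
      _ = τ * s * τ⁻¹ := by rw [(mem_HH.1 h).2.2, mul_inv_cancel_right]
      _ = r * s := F.tau_s O

/-- **The four group is normal in the centralizer.** -/
theorem normal_V {d : G} (hd : d * r = r * d) : d * s * d⁻¹ = s ∨ d * s * d⁻¹ = r * s := by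
  classical
  haveI : Fact (Nat.Prime 2) := ⟨Nat.prime_two⟩
  let D := centralizer ({r} : Set G)
  have hr2 := F.r2
  let r' : D := ⟨r, mem_centralizer_singleton_iff.2 rfl⟩
  let N : Subgroup D := zpowers r'
  haveI : N.Normal := ⟨fun x hx g => by
    have hc : Commute g r' := Subtype.ext (mem_centralizer_singleton_iff.1 g.2)
    obtain ⟨i, rfl⟩ := mem_zpowers_iff.1 hx
    rw [(hc.zpow_right i).eq, mul_inv_cancel_right]
    exact zpow_mem (mem_zpowers r') i⟩
  have hN : ∀ {x : D}, x ∈ N → (x : G) = 1 ∨ (x : G) = r := by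
    intro x hx
    obtain ⟨i, rfl⟩ := mem_zpowers_iff.1 hx
    rw [SubgroupClass.coe_zpow]
    show r ^ i = 1 ∨ r ^ i = r
    rcases Int.even_or_odd' i with ⟨k, rfl | rfl⟩
    · left; rw [zpow_mul, show (r : G) ^ (2 : ℤ) = 1 by rw [zpow_two]; exact hr2, one_zpow]
    · right
      rw [zpow_add, zpow_mul, show (r : G) ^ (2 : ℤ) = 1 by rw [zpow_two]; exact hr2, one_zpow, one_mul, zpow_one]
  have hTD : TT z r ≤ D := inf_le_right
  let S₀ : Sylow 2 D :=
    { toSubgroup := (TT z r).subgroupOf D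
      isPGroup' := (F.TT_pgroup O).of_equiv (subgroupOfEquivOfLe hTD).symm
      is_maximal' := fun {K} hK hle => by
        have h := F.TT_max O (K := K.map D.subtype) (hK.map _)
          (fun x hx => ⟨⟨x, hTD hx⟩, hle (mem_subgroupOf.2 hx), rfl⟩)
          (fun k hk => by
            obtain ⟨y, -, rfl⟩ := hk
            exact mem_centralizer_singleton_iff.1 y.2)
        refine le_antisymm (fun x hx => mem_subgroupOf.2 ?_) hle
        rw [← h]; exact ⟨x, hx, rfl⟩ }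
  set μ := QuotientGroup.mk' N with hμ
  have hsurj : Function.Surjective μ := QuotientGroup.mk'_surjective N
  have hsD : s ∈ D := mem_centralizer_singleton_iff.2 F.rs.symm
  have hμe : ∀ {x y : D}, μ x = μ y → (y : G) = x ∨ (y : G) = x * r := fun {x y} e => by
    obtain ⟨k, hk, rfl⟩ := (QuotientGroup.mk'_eq_mk' _).1 e
    rcases hN hk with h | h <;> simp [h]
  have hrT : r ∈ TT z r := mem_TT.2 ⟨F.r_co.1, rfl⟩
  have hiso : Cfsg.IsIsolatedInvolution (μ ⟨s, hsD⟩) := by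
    refine CfsgLib.Invol.isolated_of_sylow (S₀.mapSurjective hsurj) ?_
      ⟨⟨s, hsD⟩, mem_subgroupOf.2 (F.HH_le_TT F.s_mem_HH), rfl⟩ fun g hg => ?_
    · refine orderOf_two'.2 ⟨?_, fun h => ?_⟩
      · rw [← map_mul, show (⟨s, hsD⟩ * ⟨s, hsD⟩ : D) = 1 from Subtype.ext F.s2, map_one]
      · rcases hN ((QuotientGroup.eq_one_iff _).1 h) with h' | h'
        exacts [F.s_not_one h', F.s_ne_r h']
    obtain ⟨d, rfl⟩ := hsurj g
    obtain ⟨y, hy, e⟩ := hg
    rw [← map_inv, ← map_mul, ← map_mul] at e ⊢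
    have hm : (d : G) * s * (d : G)⁻¹ ∈ TT z r := by
      rcases hμe e with h | h
      · have h' : (d : G) * s * (d : G)⁻¹ = (y : G) := h
        rw [h']; exact mem_subgroupOf.1 hy
      · have h' : (d : G) * s * (d : G)⁻¹ = (y : G) * r := h
        rw [h']; exact mul_mem (mem_subgroupOf.1 hy) hrT
    rcases F.s_orbit O (mem_centralizer_singleton_iff.1 d.2) hm with h | h
    · exact congrArg μ (Subtype.ext h)
    · refine (QuotientGroup.mk'_eq_mk' _).2 ⟨r', mem_zpowers r', Subtype.ext ?_⟩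
      show (d : G) * s * (d : G)⁻¹ * r = s
      rw [h, F.rs, mul_assoc, hr2, mul_one]
  have hO : Cfsg.oddCore (D ⧸ N) = ⊥ := by
    have hchar := CfsgLib.Cores.pPrimeCore_characteristic (G := D ⧸ N) 2
    haveI hOn : (Cfsg.oddCore (D ⧸ N)).Normal := by infer_instance
    set Oc := Cfsg.oddCore (D ⧸ N) with hOc
    have hOodd : Odd (Nat.card Oc) := CfsgLib.Cores.odd_card_oddCore
    have hzD : z ∈ D := mem_centralizer_singleton_iff.2 F.r_co.1.symm
    have hfix : ∀ y ∈ Oc, y * μ ⟨z, hzD⟩ = μ ⟨z, hzD⟩ * y → y = 1 := by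
      intro y hy h
      obtain ⟨d, rfl⟩ := hsurj y
      rw [← map_mul, ← map_mul] at h
      have hdr := mem_centralizer_singleton_iff.1 d.2
      have hdz : (d : G) * z = z * d := by
        rcases hμe h with e | e
        · exact e.symm
        · exfalso
          have e' : z * (d : G) = d * z * r := e
          have hcd : (d : G)⁻¹ * z * d = z * r := by rw [mul_assoc, e']; group
          have hc := F.zclass_coset (subset_closure (by simp : r ∈ ({r, s} : Set G)))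
            (hcd ▸ isConj_iff.2 ⟨(d : G)⁻¹, by group⟩)
          exact F.r_ne_one hc
      obtain ⟨k, hk⟩ := F.TT_pgroup O ⟨d, mem_TT.2 ⟨hdz, hdr⟩⟩
      have h2 : (μ d) ^ 2 ^ k = 1 := by
        have hk' : (d : G) ^ 2 ^ k = 1 := congrArg Subtype.val hk
        rw [← map_pow, show d ^ 2 ^ k = 1 from Subtype.ext hk', map_one]
      have hodd : Odd (orderOf (μ d)) := hOodd.of_dvd_nat (orderOf_dvd_natCard Oc hy)
      obtain ⟨i, -, hi⟩ := (Nat.dvd_prime_pow Nat.prime_two).1 (orderOf_dvd_of_pow_eq_one h2)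
      rcases i with _ | i
      · rw [pow_zero, orderOf_eq_one_iff] at hi; exact hi
      · rw [hi] at hodd; exact absurd hodd (by simp [Nat.odd_pow_iff])
    -- conjugates of `z` invert the core
    have hinv : ∀ w : D, (∃ g : D, g * ⟨z, hzD⟩ * g⁻¹ = w) → ∀ y ∈ Oc, μ w * y * (μ w)⁻¹ = y⁻¹ := by
      rintro w ⟨g, rfl⟩ y hy
      set w := μ (g * ⟨z, hzD⟩ * g⁻¹) with hw
      have hw2 : w * w = 1 := by
        rw [hw, ← map_mul, show g * ⟨z, hzD⟩ * g⁻¹ * (g * ⟨z, hzD⟩ * g⁻¹) = g * (⟨z, hzD⟩ * ⟨z, hzD⟩) * g⁻¹ by group,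
          show (⟨z, hzD⟩ * ⟨z, hzD⟩ : D) = 1 from Subtype.ext F.P.S.z2, mul_one, mul_inv_cancel, map_one]
      let φ : Oc →* Oc :=
        { toFun := fun y => ⟨w * y * w⁻¹, hOn.conj_mem y y.2 w⟩
          map_one' := Subtype.ext (by simp)
          map_mul' := fun a b => Subtype.ext (by simp [mul_assoc]) }
      have hff : MonoidHom.FixedPointFree φ := fun y hy' => by
        have e : w * (y : D ⧸ N) * w⁻¹ = y := congrArg Subtype.val hy'
        have h1 := hfix _ (hOn.conj_mem y y.2 (μ g)⁻¹) (by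
          rw [mul_inv_eq_iff_eq_mul] at e
          rw [hw, map_mul, map_mul, map_inv] at e
          calc (μ g)⁻¹ * (y : D ⧸ N) * (μ g)⁻¹⁻¹ * μ ⟨z, hzD⟩
              = (μ g)⁻¹ * ((y : D ⧸ N) * (μ g * μ ⟨z, hzD⟩ * (μ g)⁻¹)) * μ g := by group
            _ = _ := by rw [← e]; group)
        exact Subtype.ext (conj_eq_one_iff.1 h1)
      have hinvol : Function.Involutive φ := fun y => Subtype.ext (by
        show w * (w * (y : D ⧸ N) * w⁻¹) * w⁻¹ = y
        rw [show w * (w * (y : D ⧸ N) * w⁻¹) * w⁻¹ = w * w * y * (w * w)⁻¹ by group, hw2]; group)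
      exact congrArg Subtype.val (congrFun (MonoidHom.FixedPointFree.coe_eq_inv_of_involutive hff hinvol) ⟨y, hy⟩)
    -- `t` and `z * t` are conjugate to `z`
    have htz : IsConj z t := F.C.zt
    have ht1 : t ≠ 1 := F.P.S'.z1
    have htm : t ∈ AA z r s au := by
      have h := (F.zeta_mem_both 0 1).1
      rwa [show zeta z t 0 1 = t by simp [zeta, zb_one, zb_zero]] at h
    obtain ⟨g, hg, -, hgt⟩ := F.transitive htm ht1 htz
    have htD : t ∈ D := mem_centralizer_singleton_iff.2 F.r_co.2.symm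
    have i1 := hinv ⟨t, htD⟩ ⟨⟨g, (mem_inf.1 hg).1⟩, Subtype.ext hgt⟩
    have i2 := hinv (⟨z, hzD⟩ * ⟨t, htD⟩)
      ⟨⟨τ, mem_centralizer_singleton_iff.2 O.hr⟩ * ⟨g, (mem_inf.1 hg).1⟩, Subtype.ext (by
        show τ * g * z * (τ * g)⁻¹ = z * t
        calc τ * g * z * (τ * g)⁻¹ = τ * (g * z * g⁻¹) * τ⁻¹ := by group
          _ = z * t := by rw [hgt, O.ht])⟩
    have i0 := hinv ⟨z, hzD⟩ ⟨1, by group⟩
    refine (eq_bot_iff_forall _).2 fun y hy => ?_
    have h := i2 y hy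
    rw [map_mul, show μ ⟨z, hzD⟩ * μ ⟨t, htD⟩ * y * (μ ⟨z, hzD⟩ * μ ⟨t, htD⟩)⁻¹ =
        μ ⟨z, hzD⟩ * (μ ⟨t, htD⟩ * y * (μ ⟨t, htD⟩)⁻¹) * (μ ⟨z, hzD⟩)⁻¹ by group, i1 y hy,
      i0 _ (inv_mem hy), inv_inv] at h
    have h2 : y ^ 2 = 1 := by rw [sq]; nth_rewrite 1 [h]; exact inv_mul_cancel y
    rcases (Nat.dvd_prime Nat.prime_two).1 (orderOf_dvd_of_pow_eq_one h2) with e | e
    · exact orderOf_eq_one_iff.1 e
    · have := hOodd.of_dvd_nat (orderOf_dvd_natCard Oc hy)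
      rw [e] at this
      exact absurd this (by decide)
  have hcen := CfsgLib.Invol.zstar_center hiso hO
  have h := mem_center_iff.1 hcen (μ ⟨d, mem_centralizer_singleton_iff.2 hd⟩)
  rw [← map_mul, ← map_mul] at h
  rcases hμe h with e | e
  · left
    have e' : s * d = d * s := e
    rw [← e', mul_inv_cancel_right]
  · right
    have e' : s * d = d * s * r := e
    calc d * s * d⁻¹ = d * s * r * r * d⁻¹ := by rw [mul_assoc _ r r, hr2, mul_one]
      _ = s * (d * r) * d⁻¹ := by rw [← e']; group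
      _ = r * s := by rw [hd, F.rs]; group

/-- `C(r)` is covered by `C(V)` and the outer coset. -/
theorem cent_r_cases {d : G} (hd : d * r = r * d) : d ∈ CV r s ∨ τ⁻¹ * d ∈ CV r s := by
  rcases F.normal_V O hd with h | h
  · exact .inl (mem_CV.2 ⟨hd, mul_inv_eq_iff_eq_mul.1 h⟩)
  · refine .inr (mem_CV.2 ⟨(Commute.mul_left (Commute.inv_left (show Commute τ r from O.hr)) hd).eq, ?_⟩)
    refine mul_inv_eq_iff_eq_mul.1 ?_
    calc τ⁻¹ * d * s * (τ⁻¹ * d)⁻¹ = τ⁻¹ * (d * s * d⁻¹) * τ := by group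
      _ = τ⁻¹ * (τ * s * τ⁻¹) * τ := by rw [h, F.tau_s O]
      _ = s := by group

end Frm

end CfsgLib.SuzType
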