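import Mathlib
import Cfsg.Agent.Lib.SuzType.Local.VNormal

/-!
Suzuki type: elements of order five and seven in `C(V)` are centralized by nothing outside `C(V)` in `C(r)`.
-/

set_option autoImplicit false
set_option linter.style.haveILetI false
set_option linter.unusedSectionVars false
set_option linter.unusedSimpArgs false

namespace CfsgLib.SuzType

open Subgroup CfsgLib.Classical

variable {G : Type*} [Group G] [Finite G]

namespace Frm

variable {z t : G} {Q R : Subgroup G} {π π' : G → V6} {ρ ρ' : G → qAut qm} {r s ω au bu av bv τ : G}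
  {m n u v : V6} (F : Frm z t Q R π π' ρ ρ' r s ω au bu av bv m n u v) (O : Outer z t r s au av τ)

include F O

theorem D_conj_CV {g y : G} (hg : g * r = r * g) (hy : y ∈ CV r s) : g * y * g⁻¹ ∈ CV r s := by
  obtain ⟨h1, h2⟩ := mem_CV.1 hy
  have gr : g * r * g⁻¹ = r := mul_inv_eq_iff_eq_mul.2 hg
  have h1' := comm_conj (g := g) h1
  rw [gr] at h1'
  have h2' := comm_conj (g := g) h2
  refine mem_CV.2 ⟨h1', ?_⟩
  rcases F.normal_V O hg with h | h <;> rw [h] at h2'
  · exact h2'
  · have := (Commute.mul_right (show Commute (g * y * g⁻¹) r from h1') h2').eq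
    rwa [← mul_assoc r, F.r2, one_mul] at this

theorem D_conj_V {g y : G} (hg : g * r = r * g) (hy : y ∈ closure ({r, s} : Set G)) :
    g * y * g⁻¹ ∈ closure ({r, s} : Set G) := by
  have hle : closure ({r, s} : Set G) ≤ (closure ({r, s} : Set G)).comap (MulAut.conj g).toMonoidHom := by
    rw [closure_le]
    rintro w (e | e)
    · show g * w * g⁻¹ ∈ closure ({r, s} : Set G)
      rw [e, hg, mul_inv_cancel_right]; exact subset_closure (by simp)
    · show g * w * g⁻¹ ∈ closure ({r, s} : Set G)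
      rw [Set.mem_singleton_iff.1 e]
      rcases F.normal_V O hg with h | h <;> rw [h]
      · exact subset_closure (by simp)
      · exact mul_mem (subset_closure (by simp)) (subset_closure (by simp))
  exact hle hy

theorem sq_mem_CV {d : G} (hd : d * r = r * d) : d * d ∈ CV r s := by
  refine mem_CV.2 ⟨(Commute.mul_left (show Commute d r from hd) hd).eq, mul_inv_eq_iff_eq_mul.1 ?_⟩
  rcases F.normal_V O hd with h | h
  · calc d * d * s * (d * d)⁻¹ = d * (d * s * d⁻¹) * d⁻¹ := by group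
      _ = s := by rw [h, h]
  · calc d * d * s * (d * d)⁻¹ = d * (d * s * d⁻¹) * d⁻¹ := by group
      _ = d * r * (s * d⁻¹) := by rw [h]; group
      _ = r * (d * s * d⁻¹) := by rw [hd]; group
      _ = s := by rw [h, ← mul_assoc, F.r2, one_mul]

theorem s_central_fix {e : G} (h1 : e ∈ AA z r s au) (h2 : e ∈ AA z r s av)
    (h : τ * e * τ⁻¹ * e⁻¹ ∈ closure ({r, s} : Set G)) :
    e ∈ closure ({r, s} : Set G) ∨ ∃ w ∈ closure ({r, s} : Set G), e = z * w := by
  obtain ⟨i, j, a, b, rfl⟩ := F.both_form h1 h2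
  set w := zb r a * zb s b with hw
  have hwV : w ∈ closure ({r, s} : Set G) := by
    rw [hw]
    refine mul_mem ?_ ?_
    · rcases two_cases a with rfl | rfl
      · rw [zb_zero]; exact one_mem _
      · rw [zb_one]; exact subset_closure (by simp)
    · rcases two_cases b with rfl | rfl
      · rw [zb_zero]; exact one_mem _
      · rw [zb_one]; exact subset_closure (by simp)
  have hz' : τ * z * τ⁻¹ = z := mul_inv_eq_iff_eq_mul.2 O.hz
  have hzt : τ * zeta z t i j * τ⁻¹ = zeta z t (i + j) j := by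
    rw [zeta, zeta]
    rcases two_cases i with rfl | rfl <;> rcases two_cases j with rfl | rfl
    · simp [zb_zero]
    · simp only [zb_zero, zb_one, one_mul, zero_add]; rw [O.ht]
    · simp only [zb_zero, zb_one, mul_one, add_zero]; exact hz'
    · simp only [zb_one, show (1 : ZMod 2) + 1 = 0 by decide, zb_zero, one_mul]
      calc τ * (z * t) * τ⁻¹ = τ * z * τ⁻¹ * (τ * t * τ⁻¹) := by group
        _ = t := by rw [hz', O.ht, ← mul_assoc, F.P.S.z2, one_mul]
  have hwc := F.D_conj_V O O.hr hwV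
  have hsplit : τ * (zeta z t i j * w) * τ⁻¹ * (zeta z t i j * w)⁻¹ =
      zeta z t (i + j) j * (τ * w * τ⁻¹ * w⁻¹) * (zeta z t i j)⁻¹ := by
    rw [← hzt]; group
  rw [hsplit] at h
  have hwd := mul_mem hwc (inv_mem hwV)
  have hz0 : zeta z t i j * zeta z t i j = 1 := by
    rw [F.P.zeta_mul, CharTwo.add_self_eq_zero, CharTwo.add_self_eq_zero, zeta_zero]
  have hK : zeta z t i j ∈ CV r s := (mem_inf.1 (mem_AA.1 (F.zeta_mem_both i j).1).1).2
  rw [mul_assoc, ← closure_comm (inv_mem hK) hwd, inv_eq_of_mul_eq_one_right hz0, ← mul_assoc, F.P.zeta_mul,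
    show i + j + i = j by rw [add_right_comm, CharTwo.add_self_eq_zero, zero_add], CharTwo.add_self_eq_zero] at h
  have hj : zeta z t j 0 ∈ closure ({r, s} : Set G) := by
    have := mul_mem h (inv_mem hwd)
    rwa [mul_inv_cancel_right] at this
  have hj0 := (F.P.zeta_eq_one (F.zeta_inter_V hj)).1
  subst hj0
  rcases two_cases i with rfl | rfl
  · left; rw [zeta_zero, one_mul]; exact hwV
  · right; exact ⟨w, hwV, by simp [zeta, zb_one, zb_zero]⟩

/-- **No outer element centralizes an element of order five or seven.** -/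
theorem cent_five_seven {x d : G} (hx : x ∈ CV r s) (hord : orderOf x = 5 ∨ orderOf x = 7)
    (hd : d * r = r * d) (hdx : d * x = x * d) : d ∈ CV r s := by
  classical
  haveI : Fact (Nat.Prime 2) := ⟨Nat.prime_two⟩
  by_contra hdK
  -- the two-part
  obtain ⟨k, M, hM, hk⟩ := Nat.exists_eq_two_pow_mul_odd (orderOf_pos d).ne'
  set e := d ^ M with he
  have her : e * r = r * e := (Commute.pow_left (show Commute d r from hd) M).eq
  have hex : e * x = x * e := (Commute.pow_left (show Commute d x from hdx) M).eq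
  have heK : e ∉ CV r s := fun h => by
    obtain ⟨j, hj⟩ := hM
    refine hdK ?_
    have h2 := mul_mem (inv_mem (pow_mem (F.sq_mem_CV O hd) j)) h
    rwa [he, hj, ← pow_two, ← pow_mul, pow_add, pow_one, ← mul_assoc, inv_mul_cancel, one_mul] at h2
  have he2 : IsPGroup 2 (zpowers e) := by
    obtain ⟨i, -, hi⟩ := (Nat.dvd_prime_pow Nat.prime_two).1 (orderOf_dvd_of_pow_eq_one
      (show e ^ 2 ^ k = 1 by rw [he, ← pow_mul, mul_comm, ← hk, pow_orderOf_eq_one]))
    exact IsPGroup.of_card (n := i) (by rw [Nat.card_zpowers, hi])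
  -- into the Sylow subgroup
  let D := centralizer ({r} : Set G)
  have hTD : TT z r ≤ D := inf_le_right
  let S₀ : Sylow 2 D :=
    { toSubgroup := (TT z r).subgroupOf D
      isPGroup' := (F.TT_pgroup O).of_equiv (subgroupOfEquivOfLe hTD).symm
      is_maximal' := fun {K} hK hle => by
        have h := F.TT_max O (K := K.map D.subtype) (hK.map _)
          (fun w hw => ⟨⟨w, hTD hw⟩, hle (mem_subgroupOf.2 hw), rfl⟩)
          (fun k hk => by
            obtain ⟨y, -, rfl⟩ := hk
            exact mem_centralizer_singleton_iff.1 y.2)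
        refine le_antisymm (fun w hw => mem_subgroupOf.2 ?_) hle
        rw [← h]; exact ⟨w, hw, rfl⟩ }
  have heD : e ∈ D := mem_centralizer_singleton_iff.2 her
  obtain ⟨⟨g, hgD⟩, hg⟩ := CfsgLib.Transfer.exists_conj_mem_sylow S₀ (S := zpowers (⟨e, heD⟩ : D))
    (IsPGroup.of_injective he2 ({ toFun := fun w => ⟨((w : D) : G), by
                                    obtain ⟨i, hi⟩ := mem_zpowers_iff.1 w.2
                                    exact mem_zpowers_iff.2 ⟨i, congrArg Subtype.val hi⟩⟩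
                                  map_one' := rfl
                                  map_mul' := fun _ _ => rfl } : zpowers (⟨e, heD⟩ : D) →* zpowers e)
      (fun a b h => Subtype.ext (Subtype.ext (congrArg (fun w : zpowers e => (w : G)) h))))
  have hgr : g * r = r * g := mem_centralizer_singleton_iff.1 hgD
  set σ := g * e * g⁻¹ with hσdef
  have hσT : σ ∈ TT z r := mem_subgroupOf.1 (hg _ (mem_zpowers _))
  have hσK : σ ∉ CV r s := fun h => heK (by
    have := F.D_conj_CV O (show g⁻¹ * r = r * g⁻¹ from (Commute.inv_left (show Commute g r from hgr)).eq) h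
    rwa [hσdef, inv_inv, show g⁻¹ * (g * e * g⁻¹) * g = e by group] at this)
  set y := g * x * g⁻¹ with hy
  have hyK : y ∈ CV r s := F.D_conj_CV O hgr hx
  have hσy : σ * y = y * σ := comm_conj hex
  have hσr : σ * r = r * σ := (mem_TT.1 hσT).2
  have hh : τ⁻¹ * σ ∈ HH z r s := (F.TT_cases O hσT).resolve_left fun h => hσK (mem_inf.1 h).2
  -- in the quotient
  have C := F.cit
  set μ := QuotientGroup.mk' (VK r s) with hμ
  have hy' : orderOf (μ ⟨y, hyK⟩) = 5 ∨ orderOf (μ ⟨y, hyK⟩) = 7 := by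
    have hoy : orderOf (⟨y, hyK⟩ : CV r s) = orderOf x := by
      rw [Subgroup.orderOf_mk, hy, conj_order_eq]
    have hd' := orderOf_map_dvd μ (⟨y, hyK⟩ : CV r s)
    rw [hoy] at hd'
    have hne : μ ⟨y, hyK⟩ ≠ 1 := fun h => by
      have h' : (⟨y, hyK⟩ : CV r s) ∈ VK r s := (QuotientGroup.eq_one_iff _).1 h
      have h4 := orderOf_dvd_natCard _ h'
      rw [hoy, VK, Nat.card_congr (subgroupOfEquivOfLe (H := closure ({r, s} : Set G)) (K := CV r s)
        ((F.V_le_both.trans inf_le_left).trans (inf_le_left.trans inf_le_right))).toEquiv, F.card_V] at h4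
      rcases hord with e | e <;> rw [e] at h4 <;> norm_num at h4
    rcases hord with e | e <;> rw [e] at hd'
    · exact .inl (((Nat.dvd_prime (by norm_num)).1 hd').resolve_left fun h => hne (orderOf_eq_one_iff.1 h))
    · exact .inr (((Nat.dvd_prime (by norm_num)).1 hd').resolve_left fun h => hne (orderOf_eq_one_iff.1 h))
  have hodd : Odd (Nat.card (centralizer ({μ ⟨y, hyK⟩} : Set (XX r s)))) := by
    rcases hy' with e | e
    · exact C.cent_odd (by rw [e]; decide) fun h => by rw [h, orderOf_one] at e; omega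
    · exact C.cent_odd (by rw [e]; decide) fun h => by rw [h, orderOf_one] at e; omega
  have hσ2K : σ * σ ∈ CV r s := F.sq_mem_CV O hσr
  have hσ2V : μ ⟨σ * σ, hσ2K⟩ = 1 := by
    have hm : μ ⟨σ * σ, hσ2K⟩ ∈ centralizer ({μ ⟨y, hyK⟩} : Set (XX r s)) := by
      rw [mem_centralizer_singleton_iff, ← map_mul, ← map_mul]
      exact congrArg μ (Subtype.ext (show σ * σ * y = y * (σ * σ) from
        (Commute.mul_left (show Commute σ y from hσy) hσy).eq))
    obtain ⟨i, hi⟩ := F.TT_pgroup O ⟨σ * σ, mul_mem hσT hσT⟩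
    have hi' : (σ * σ) ^ 2 ^ i = 1 := congrArg Subtype.val hi
    have h2 : μ ⟨σ * σ, hσ2K⟩ ^ 2 ^ i = 1 := by
      rw [← map_pow, show (⟨σ * σ, hσ2K⟩ : CV r s) ^ 2 ^ i = 1 from Subtype.ext hi', map_one]
    obtain ⟨j, -, hj⟩ := (Nat.dvd_prime_pow Nat.prime_two).1 (orderOf_dvd_of_pow_eq_one h2)
    rcases j with _ | j
    · rw [pow_zero, orderOf_eq_one_iff] at hj; exact hj
    · have := hodd.of_dvd_nat (orderOf_dvd_natCard _ hm)
      rw [hj] at this
      exact absurd this (by simp [Nat.odd_pow_iff])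
  -- the automorphism
  have hσi : σ⁻¹ * r = r * σ⁻¹ := (Commute.inv_left (show Commute σ r from hσr)).eq
  let f : CV r s ≃* CV r s :=
    { toFun := fun w => ⟨σ * w * σ⁻¹, F.D_conj_CV O hσr w.2⟩
      invFun := fun w => ⟨σ⁻¹ * w * σ⁻¹⁻¹, F.D_conj_CV O hσi w.2⟩
      left_inv := fun w => Subtype.ext (by show σ⁻¹ * (σ * w * σ⁻¹) * σ⁻¹⁻¹ = w; group)
      right_inv := fun w => Subtype.ext (by show σ * (σ⁻¹ * w * σ⁻¹⁻¹) * σ⁻¹ = w; group)
      map_mul' := fun a b => Subtype.ext (by show σ * (a * b) * σ⁻¹ = σ * a * σ⁻¹ * (σ * b * σ⁻¹); group) }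
  have hf : (VK r s).map f.toMonoidHom = VK r s := by
    ext w
    constructor
    · rintro ⟨a, ha, rfl⟩
      exact mem_subgroupOf.2 (F.D_conj_V O hσr (mem_subgroupOf.1 ha))
    · exact fun hw => ⟨f.symm w, mem_subgroupOf.2 (F.D_conj_V O hσi (mem_subgroupOf.1 hw)), f.apply_symm_apply w⟩
  let Φ : XX r s ≃* XX r s := QuotientGroup.congr (VK r s) (VK r s) f hf
  have hPhi : ∀ w, Φ (μ w) = μ (f w) := fun w => rfl
  have hsurj : Function.Surjective μ := QuotientGroup.mk'_surjective _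
  have hinvol : ∀ w, Φ (Φ w) = w := by
    intro w
    obtain ⟨w, rfl⟩ := hsurj w
    rw [hPhi, hPhi, show f (f w) = ⟨σ * σ, hσ2K⟩ * w * ⟨σ * σ, hσ2K⟩⁻¹ from Subtype.ext (by
      show σ * (σ * w * σ⁻¹) * σ⁻¹ = σ * σ * w * (σ * σ)⁻¹; group), map_mul, map_mul, map_inv, hσ2V]
    group
  have hσh : σ = τ * (τ⁻¹ * σ) := (mul_inv_cancel_left τ σ).symm
  set h0 := τ⁻¹ * σ with hh0
  have hconj : ∀ w : G, σ * w * σ⁻¹ = τ * (h0 * w * h0⁻¹) * τ⁻¹ := fun w => by rw [hσh]; group
  have hVu : closure ({r, s} : Set G) ≤ AA z r s au := F.V_le_both.trans inf_le_left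
  have hVv : closure ({r, s} : Set G) ≤ AA z r s av := F.V_le_both.trans inf_le_right
  have hzfix : Φ (μ ⟨z, F.z_mem_CV⟩) = μ ⟨z, F.z_mem_CV⟩ := by
    rw [hPhi]
    exact congrArg μ (Subtype.ext (show σ * z * σ⁻¹ = z by rw [(mem_TT.1 hσT).1, mul_inv_cancel_right]))
  have hAB : ∀ a ∈ imgX r s (AA z r s au), Φ a ∈ imgX r s (AA z r s av) := by
    intro a ha
    obtain ⟨a, rfl⟩ := hsurj a
    rw [hPhi, mem_imgX hVv]
    show σ * a * σ⁻¹ ∈ _
    rw [hconj]
    exact (O.hAB _).1 (F.conj_mem_Au hh ((mem_imgX hVu).1 ha))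
  have hBA : ∀ a ∈ imgX r s (AA z r s av), Φ a ∈ imgX r s (AA z r s au) := by
    intro a ha
    obtain ⟨a, rfl⟩ := hsurj a
    rw [hPhi, mem_imgX hVu]
    show σ * a * σ⁻¹ ∈ _
    rw [hconj]
    exact (F.tau_BA O).1 (F.swapUV.conj_mem_Au hh ((mem_imgX hVv).1 ha))
  have hE : ∀ a ∈ imgX r s (AA z r s au) ⊓ imgX r s (AA z r s av), Φ a = a → a = 1 ∨ a = μ ⟨z, F.z_mem_CV⟩ := by
    intro a ha hfix
    obtain ⟨a, rfl⟩ := hsurj a
    have h1 := (mem_imgX hVu).1 (mem_inf.1 ha).1
    have h2 := (mem_imgX hVv).1 (mem_inf.1 ha).2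
    rw [hPhi] at hfix
    obtain ⟨w, hw, e'⟩ := (QuotientGroup.mk'_eq_mk' _).1 hfix
    have e'' : σ * (a : G) * σ⁻¹ * (w : G) = a := congrArg Subtype.val e'
    have hc : h0 * (a : G) * h0⁻¹ = a := by rw [← F.both_central h1 h2 hh, mul_inv_cancel_right]
    rw [hconj, hc] at e''
    have hwV : (w : G) ∈ closure ({r, s} : Set G) := mem_subgroupOf.1 hw
    have hV : τ * (a : G) * τ⁻¹ * (a : G)⁻¹ ∈ closure ({r, s} : Set G) := by
      have hk := closure_comm (x := (a : G)) a.2 (inv_mem hwV)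
      rw [show τ * (a : G) * τ⁻¹ = (a : G) * (w : G)⁻¹ from eq_mul_inv_of_mul_eq e'', hk, mul_inv_cancel_right]
      exact inv_mem hwV
    rcases F.s_central_fix O h1 h2 hV with h | ⟨w', hw', h⟩
    · exact .inl ((QuotientGroup.eq_one_iff _).2 (mem_subgroupOf.2 h))
    · refine .inr ((QuotientGroup.mk'_eq_mk' _).2 ⟨⟨w'⁻¹, ?_⟩, mem_subgroupOf.2 (inv_mem hw'), Subtype.ext ?_⟩)
      · exact inv_mem ((hVu.trans (inf_le_left.trans inf_le_right)) hw')
      · show (a : G) * w'⁻¹ = z
        rw [h, mul_inv_cancel_right]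
  have hfx : Φ (μ ⟨y, hyK⟩) = μ ⟨y, hyK⟩ := by
    rw [hPhi]
    exact congrArg μ (Subtype.ext (show σ * y * σ⁻¹ = y by rw [hσy, mul_inv_cancel_right]))
  obtain ⟨h5, h7⟩ := C.no_fixed hinvol hzfix hAB hBA hE hfx
  rcases hy' with e | e
  exacts [h5 e, h7 e]

end Frm

end CfsgLib.SuzType
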