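import Mathlib
import Cfsg.Agent.Lib.SuzType.Local.Sigma
import Cfsg.Agent.Lib.SuzType.Local.Klein

/-!
Suzuki type: the centralizers of elements of order five and seven of `C(V)`.
-/

set_option autoImplicit false
set_option linter.style.haveILetI false
set_option linter.unusedSectionVars false
set_option linter.unusedSimpArgs false

namespace CfsgLib.SuzType

open Subgroup CfsgLib.Classical

variable {G : Type*} [Group G] [Finite G]

theorem pow_cast {H : Type*} [Group H] [Finite H] {x : H} {p a b : ℕ} (ho : orderOf x = p)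
    (h : (a : ZMod p) = (b : ZMod p)) : x ^ a = x ^ b := by
  subst ho
  exact pow_eq_pow_iff_modEq.2 ((ZMod.natCast_eq_natCast_iff _ _ _).1 h)

theorem cast_of_pow {H : Type*} [Group H] [Finite H] {x : H} {p a b : ℕ} (ho : orderOf x = p)
    (h : x ^ a = x ^ b) : (a : ZMod p) = (b : ZMod p) := by
  subst ho
  exact (ZMod.natCast_eq_natCast_iff _ _ _).2 (pow_eq_pow_iff_modEq.1 h)

theorem conj_pow_act {H : Type*} [Group H] {g x : H} {i : ℕ} (h : g * x * g⁻¹ = x ^ i) (k : ℕ) :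
    g ^ k * x * (g ^ k)⁻¹ = x ^ i ^ k := by
  induction k with
  | zero => simp
  | succ k ih =>
    calc g ^ (k + 1) * x * (g ^ (k + 1))⁻¹ = g * (g ^ k * x * (g ^ k)⁻¹) * g⁻¹ := by rw [pow_succ']; group
      _ = x ^ i ^ (k + 1) := by rw [ih, ← conj_pow, h, ← pow_mul, pow_succ']

theorem exists_act {H : Type*} [Group H] [Finite H] {g x : H} (h : g * x * g⁻¹ ∈ zpowers x) :
    ∃ i : ℕ, g * x * g⁻¹ = x ^ i := by
  obtain ⟨i, hi⟩ := mem_powers_iff_mem_zpowers.2 h
  exact ⟨i, hi.symm⟩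

namespace Frm

variable {z t : G} {Q R : Subgroup G} {π π' : G → V6} {ρ ρ' : G → qAut qm} {r s ω au bu av bv τ : G}
  {m n u v : V6} (F : Frm z t Q R π π' ρ ρ' r s ω au bu av bv m n u v) (O : Outer z t r s au av τ)

include F

theorem V_le_CV : closure ({r, s} : Set G) ≤ CV r s :=
  (F.V_le_both.trans inf_le_left).trans (inf_le_left.trans inf_le_right)

theorem card_CV : Nat.card (CV r s) = 80640 := by
  have h := card_mul_index (VK r s)
  have h1 : Nat.card (VK r s) = 4 := by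
    rw [VK, Nat.card_congr (subgroupOfEquivOfLe F.V_le_CV).toEquiv, F.card_V]
  have h2 : (VK r s).index = 20160 := by rw [index_eq_card]; exact F.cit.main_count.1
  rw [h1, h2] at h
  omega

theorem V_sq {w : G} (hw : w ∈ closure ({r, s} : Set G)) : w * w = 1 :=
  F.Au_sq (F.V_le_both hw).1

theorem mu_order {x : G} (hx : x ∈ CV r s) {p : ℕ} (hp : p.Prime) (hodd : Odd p) (ho : orderOf x = p) :
    orderOf (QuotientGroup.mk' (VK r s) ⟨x, hx⟩) = p := by
  have hd := orderOf_map_dvd (QuotientGroup.mk' (VK r s)) (⟨x, hx⟩ : CV r s)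
  rw [Subgroup.orderOf_mk, ho] at hd
  refine ((Nat.dvd_prime hp).1 hd).resolve_left fun h => ?_
  have h' : (⟨x, hx⟩ : CV r s) ∈ VK r s := (QuotientGroup.eq_one_iff _).1 (orderOf_eq_one_iff.1 h)
  have h4 := orderOf_dvd_of_pow_eq_one (show x ^ 2 = 1 by rw [pow_two]; exact F.V_sq (mem_subgroupOf.1 h'))
  rw [ho] at h4
  rw [(Nat.prime_dvd_prime_iff_eq hp Nat.prime_two).1 h4] at hodd
  exact absurd hodd (by decide)

theorem cent_X {x : G} (hx : x ∈ CV r s) (hord : orderOf x = 5 ∨ orderOf x = 7) :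
    centralizer ({QuotientGroup.mk' (VK r s) ⟨x, hx⟩} : Set (XX r s)) =
      zpowers (QuotientGroup.mk' (VK r s) ⟨x, hx⟩) := by
  rcases hord with h | h
  · exact (F.cit.cent_five (F.mu_order hx (by norm_num) (by decide) h)).1
  · exact (F.cit.cent_seven (F.mu_order hx (by norm_num) (by decide) h)).1

include O

theorem cent_D_cases {x d : G} (hx : x ∈ CV r s) (hord : orderOf x = 5 ∨ orderOf x = 7) (hdr : d * r = r * d)
    (hdx : d * x = x * d) : ∃ k : ℕ, ∃ w ∈ closure ({r, s} : Set G), d = x ^ k * w := by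
  have hd := F.cent_five_seven O hx hord hdr hdx
  have hm : QuotientGroup.mk' (VK r s) ⟨d, hd⟩ ∈
      centralizer ({QuotientGroup.mk' (VK r s) ⟨x, hx⟩} : Set (XX r s)) := by
    rw [mem_centralizer_singleton_iff, ← map_mul, ← map_mul]
    exact congrArg _ (Subtype.ext hdx)
  rw [F.cent_X hx hord] at hm
  obtain ⟨k, hk⟩ := mem_powers_iff_mem_zpowers.2 hm
  dsimp only at hk
  rw [← map_pow] at hk
  obtain ⟨w, hw, e⟩ := (QuotientGroup.mk'_eq_mk' _).1 hk
  exact ⟨k, (w : G), mem_subgroupOf.1 hw, (congrArg Subtype.val e).symm⟩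

omit O in
/-- Conjugation in `C(V)` can be arranged on `⟨x⟩`. -/
theorem exists_back {x g : G} (hx : x ∈ CV r s) (hord : orderOf x = 5 ∨ orderOf x = 7)
    (hg : g * x * g⁻¹ ∈ CV r s) : ∃ c ∈ CV r s, c * g * x * (c * g)⁻¹ ∈ zpowers x := by
  have hp : (orderOf x).Prime := by rcases hord with h | h <;> rw [h] <;> norm_num
  haveI : Fact (orderOf x).Prime := ⟨hp⟩
  let P : Sylow (orderOf x) (CV r s) := Sylow.ofCard (zpowers (⟨x, hx⟩ : CV r s)) (by
    rw [Nat.card_zpowers, Subgroup.orderOf_mk, F.card_CV]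
    have h1 : orderOf x ^ 1 ∣ 80640 := by rcases hord with h | h <;> rw [h] <;> norm_num
    have h2 : ¬ orderOf x ^ 2 ∣ 80640 := by rcases hord with h | h <;> rw [h] <;> norm_num
    have e1 := (Nat.Prime.pow_dvd_iff_le_factorization hp (show 80640 ≠ 0 by norm_num)).1 h1
    have e2 := mt (Nat.Prime.pow_dvd_iff_le_factorization hp (show 80640 ≠ 0 by norm_num)).2 h2
    rw [show Nat.factorization 80640 (orderOf x) = 1 by omega, pow_one])
  obtain ⟨c, hc⟩ := CfsgLib.Transfer.exists_conj_mem_sylow P (S := zpowers (⟨g * x * g⁻¹, hg⟩ : CV r s))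
    (IsPGroup.of_card (n := 1) (by rw [Nat.card_zpowers, Subgroup.orderOf_mk, conj_order_eq, pow_one]))
  refine ⟨c, c.2, ?_⟩
  obtain ⟨k, hk⟩ := mem_zpowers_iff.1 (hc _ (mem_zpowers _))
  refine mem_zpowers_iff.2 ⟨k, ?_⟩
  have h' : x ^ k = (c : G) * (g * x * g⁻¹) * (c : G)⁻¹ := congrArg Subtype.val hk
  rw [h']; group

omit O in
theorem omega_r : ω * r * ω⁻¹ = s := F.ws.symm

omit O in
theorem omega_s : ω * s * ω⁻¹ = r * s := by
  calc ω * s * ω⁻¹ = (r * s)⁻¹ * (r * s * (ω * s * ω⁻¹)) := by group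
    _ = (r * s)⁻¹ := by rw [F.prod, mul_one]
    _ = r * s := inv_eq_of_mul_eq_one_right (F.V_sq (mul_mem (subset_closure (by simp)) (subset_closure (by simp))))

omit O in
theorem cv_fix_V {c : G} (hc : c ∈ CV r s) : c * r * c⁻¹ = r ∧ c * s * c⁻¹ = s :=
  ⟨mul_inv_eq_iff_eq_mul.2 (mem_CV.1 hc).1, mul_inv_eq_iff_eq_mul.2 (mem_CV.1 hc).2⟩

omit O in
/-- In the quotient an element of order seven has a normalizer moving it. -/
theorem exists_seven_act {x : G} (hx : x ∈ CV r s) (ho : orderOf x = 7) :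
    ∃ n₀ ∈ CV r s, ∃ j : ℕ, n₀ * x * n₀⁻¹ = x ^ j ∧ (j : ZMod 7) ^ 3 = 1 ∧ (j : ZMod 7) ≠ 1 := by
  classical
  haveI : Fact (Nat.Prime 3) := ⟨Nat.prime_three⟩
  set μ := QuotientGroup.mk' (VK r s) with hμ
  have ho' : orderOf (μ ⟨x, hx⟩) = 7 := F.mu_order hx (by norm_num) (by decide) ho
  obtain ⟨hC, hN⟩ := F.cit.cent_seven ho'
  obtain ⟨y, hy⟩ := exists_prime_orderOf_dvd_card' (G := normalizer (zpowers (μ ⟨x, hx⟩) : Set (XX r s))) 3
    (by rw [hN]; norm_num)
  obtain ⟨y, hyN⟩ := y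
  rw [Subgroup.orderOf_mk] at hy
  obtain ⟨j, hj⟩ := exists_act ((mem_normalizer_iff.1 hyN _).1 (mem_zpowers (μ ⟨x, hx⟩)))
  obtain ⟨⟨n₀, hn₀⟩, rfl⟩ := QuotientGroup.mk'_surjective _ y
  refine ⟨n₀, hn₀, j, ?_, ?_, fun h1 => ?_⟩
  · have hmem : μ (⟨n₀, hn₀⟩ * ⟨x, hx⟩ * ⟨n₀, hn₀⟩⁻¹) = μ (⟨x, hx⟩ ^ j) := by
      rw [map_mul, map_mul, map_inv, map_pow]; exact hj
    obtain ⟨w, hw, e⟩ := (QuotientGroup.mk'_eq_mk' _).1 hmem
    have e' : n₀ * x * n₀⁻¹ * (w : G) = x ^ j := congrArg Subtype.val e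
    have hwV := mem_subgroupOf.1 hw
    have hwc := closure_comm (mul_mem (mul_mem hn₀ hx) (inv_mem hn₀)) hwV
    have h7 := congrArg (· ^ 7) e'
    simp only [Commute.mul_pow hwc] at h7
    rw [← pow_mul, mul_comm j, pow_mul, conj_pow, show x ^ 7 = 1 from ho ▸ pow_orderOf_eq_one x, one_pow, mul_one,
      mul_inv_cancel, one_mul, show (w : G) ^ 7 = w by
        rw [show 7 = 2 * 3 + 1 by norm_num, pow_succ, pow_mul, pow_two, F.V_sq hwV, one_pow, one_mul]] at h7
    rwa [h7, mul_one] at e'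
  · have h3 := conj_pow_act hj 3
    rw [show μ ⟨n₀, hn₀⟩ ^ 3 = 1 from hy ▸ pow_orderOf_eq_one _, one_mul, inv_one, mul_one] at h3
    have h3' := cast_of_pow ho' (show μ ⟨x, hx⟩ ^ j ^ 3 = μ ⟨x, hx⟩ ^ 1 by rw [pow_one]; exact h3.symm)
    rwa [Nat.cast_pow, Nat.cast_one] at h3'
  · have h' := pow_cast ho' (show (j : ZMod 7) = ((1 : ℕ) : ZMod 7) by rw [h1, Nat.cast_one])
    rw [pow_one] at h'
    rw [h'] at hj
    have hm : μ ⟨n₀, hn₀⟩ ∈ centralizer ({μ ⟨x, hx⟩} : Set (XX r s)) :=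
      mem_centralizer_singleton_iff.2 (mul_inv_eq_iff_eq_mul.1 hj)
    rw [hC] at hm
    have := orderOf_dvd_natCard _ hm
    rw [hy, Nat.card_zpowers, ho'] at this
    norm_num at this

omit O in
/-- An element centralizing `x` and permuting the four group cyclically. -/
theorem exists_cycle {x : G} (hx : x ∈ CV r s) (hord : orderOf x = 5 ∨ orderOf x = 7) :
    ∃ g, g * x = x * g ∧ g * r * g⁻¹ = s ∧ g * s * g⁻¹ = r * s := by
  have hω : ω * x * ω⁻¹ ∈ CV r s := by
    obtain ⟨h1, h2⟩ := mem_CV.1 hx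
    have e1 := comm_conj (g := ω) h1
    rw [F.omega_r] at e1
    have e2 := comm_conj (g := ω) h2
    rw [F.omega_s] at e2
    refine mem_CV.2 ⟨?_, e1⟩
    have := (Commute.mul_right (show Commute (ω * x * ω⁻¹) (r * s) from e2) e1).eq
    rwa [mul_assoc r s s, F.s2, mul_one] at this
  obtain ⟨c, hc, hmem⟩ := F.exists_back hx hord hω
  set g := c * ω with hg
  have hgr : g * r * g⁻¹ = s := by
    calc g * r * g⁻¹ = c * (ω * r * ω⁻¹) * c⁻¹ := by rw [hg]; group
      _ = s := by rw [F.omega_r, (F.cv_fix_V hc).2]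
  have hgs : g * s * g⁻¹ = r * s := by
    calc g * s * g⁻¹ = c * (ω * s * ω⁻¹) * c⁻¹ := by rw [hg]; group
      _ = c * r * c⁻¹ * (c * s * c⁻¹) := by rw [F.omega_s]; group
      _ = r * s := by rw [(F.cv_fix_V hc).1, (F.cv_fix_V hc).2]
  have hgrs : g * (r * s) * g⁻¹ = r := by
    calc g * (r * s) * g⁻¹ = g * r * g⁻¹ * (g * s * g⁻¹) := by group
      _ = r := by rw [hgr, hgs, F.rs, ← mul_assoc, F.s2, one_mul]
  obtain ⟨i, hi⟩ := exists_act hmem
  have hi0 : ∀ {p : ℕ}, orderOf x = p → p ≠ 1 → (i : ZMod p) ≠ 0 := fun {p} ho hp h0 => by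
    have h' := pow_cast ho (show (i : ZMod p) = ((0 : ℕ) : ZMod p) by rw [h0, Nat.cast_zero])
    rw [pow_zero] at h'
    rw [h', conj_eq_one_iff] at hi
    exact hp (by rw [← ho, hi, orderOf_one])
  have g2r : g ^ 2 * r * (g ^ 2)⁻¹ = r * s := by
    calc g ^ 2 * r * (g ^ 2)⁻¹ = g * (g * r * g⁻¹) * g⁻¹ := by rw [pow_two]; group
      _ = r * s := by rw [hgr, hgs]
  have g2s : g ^ 2 * s * (g ^ 2)⁻¹ = r := by
    calc g ^ 2 * s * (g ^ 2)⁻¹ = g * (g * s * g⁻¹) * g⁻¹ := by rw [pow_two]; group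
      _ = r := by rw [hgs, hgrs]
  rcases hord with ho | ho
  · refine ⟨g ^ 4, mul_inv_eq_iff_eq_mul.1 ?_, ?_, ?_⟩
    · rw [conj_pow_act hi 4, pow_cast ho (b := 1) ?_, pow_one]
      rw [Nat.cast_pow, Nat.cast_one]
      exact (show ∀ a : ZMod 5, a ≠ 0 → a ^ 4 = 1 by decide) _ (hi0 ho (by norm_num))
    · calc g ^ 4 * r * (g ^ 4)⁻¹ = g ^ 2 * (g ^ 2 * r * (g ^ 2)⁻¹) * (g ^ 2)⁻¹ := by group
        _ = g ^ 2 * r * (g ^ 2)⁻¹ * (g ^ 2 * s * (g ^ 2)⁻¹) := by conv_lhs => rw [g2r]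
                                                                  group
        _ = s := by rw [g2r, g2s, F.rs, mul_assoc, F.r2, mul_one]
    · calc g ^ 4 * s * (g ^ 4)⁻¹ = g ^ 2 * (g ^ 2 * s * (g ^ 2)⁻¹) * (g ^ 2)⁻¹ := by group
        _ = r * s := by rw [g2s, g2r]
  · obtain ⟨n₀, hn₀, j, hj, hj3, hj1⟩ := F.exists_seven_act hx ho
    have fin : ∀ k : ℕ, (i : ZMod 7) ^ 2 = (j : ZMod 7) ^ k →
        ∃ g, g * x = x * g ∧ g * r * g⁻¹ = s ∧ g * s * g⁻¹ = r * s := by
      intro k hk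
      set d := (n₀ ^ k)⁻¹ * g ^ 2 with hd
      have hck := F.cv_fix_V (inv_mem (pow_mem hn₀ k))
      have hdx : d * x * d⁻¹ = x := by
        have e : x ^ i ^ 2 = x ^ j ^ k := pow_cast ho (by rw [Nat.cast_pow, Nat.cast_pow]; exact hk)
        calc d * x * d⁻¹ = (n₀ ^ k)⁻¹ * (g ^ 2 * x * (g ^ 2)⁻¹) * n₀ ^ k := by rw [hd]; group
          _ = (n₀ ^ k)⁻¹ * (n₀ ^ k * x * (n₀ ^ k)⁻¹) * n₀ ^ k := by rw [conj_pow_act hi, e, conj_pow_act hj]
          _ = x := by group
      have hdr : d * r * d⁻¹ = r * s := by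
        calc d * r * d⁻¹ = (n₀ ^ k)⁻¹ * (g ^ 2 * r * (g ^ 2)⁻¹) * (n₀ ^ k)⁻¹⁻¹ := by rw [hd]; group
          _ = (n₀ ^ k)⁻¹ * r * (n₀ ^ k)⁻¹⁻¹ * ((n₀ ^ k)⁻¹ * s * (n₀ ^ k)⁻¹⁻¹) := by rw [g2r]; group
          _ = r * s := by rw [hck.1, hck.2]
      have hds : d * s * d⁻¹ = r := by
        calc d * s * d⁻¹ = (n₀ ^ k)⁻¹ * (g ^ 2 * s * (g ^ 2)⁻¹) * (n₀ ^ k)⁻¹⁻¹ := by rw [hd]; group
          _ = r := by rw [g2s, hck.1]
      refine ⟨d * d, (Commute.mul_left (show Commute d x from mul_inv_eq_iff_eq_mul.1 hdx)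
        (mul_inv_eq_iff_eq_mul.1 hdx)).eq, ?_, ?_⟩
      · calc d * d * r * (d * d)⁻¹ = d * (d * r * d⁻¹) * d⁻¹ := by group
          _ = d * r * d⁻¹ * (d * s * d⁻¹) := by conv_lhs => rw [hdr]
                                                group
          _ = s := by rw [hdr, hds, F.rs, mul_assoc, F.r2, mul_one]
      · calc d * d * s * (d * d)⁻¹ = d * (d * s * d⁻¹) * d⁻¹ := by group
          _ = r * s := by rw [hds, hdr]
    rcases (show ∀ a b : ZMod 7, a ≠ 0 → b ^ 3 = 1 → b ≠ 1 → a ^ 2 = b ^ 0 ∨ a ^ 2 = b ^ 1 ∨ a ^ 2 = b ^ 2 by decide)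
      _ _ (hi0 ho (by norm_num)) hj3 hj1 with h | h | h
    exacts [fin 0 h, fin 1 h, fin 2 h]

/-- The centralizer of an element of order five or seven of `C(V)`. -/
theorem cent_x {x : G} (hx : x ∈ CV r s) (hord : orderOf x = 5 ∨ orderOf x = 7) :
    Nat.card (centralizer ({x} : Set G)) = 60 * orderOf x ∨
      Nat.card (centralizer ({x} : Set G)) = 12 * orderOf x ∧
        Nonempty (↥(centralizer ({x} : Set G)) ≃* ↥(zpowers x) × alternatingGroup (Fin 4)) := by
  classical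
  have hp : (orderOf x).Prime := by rcases hord with h | h <;> rw [h] <;> norm_num
  have hodd : Odd (orderOf x) := by rcases hord with h | h <;> rw [h] <;> decide
  set C := centralizer ({x} : Set G) with hC
  have hxC : x ∈ C := mem_centralizer_singleton_iff.2 rfl
  set Z := (zpowers x).subgroupOf C with hZ
  haveI : Z.Normal := ⟨fun y hy g => by
    obtain ⟨k, hk⟩ := mem_zpowers_iff.1 (mem_subgroupOf.1 hy)
    have hc : Commute (g : G) (y : G) := hk ▸ (Commute.zpow_right (mem_centralizer_singleton_iff.1 g.2) k)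
    rwa [show g * y * g⁻¹ = y from mul_inv_eq_iff_eq_mul.2 (Subtype.ext hc.eq)]⟩
  have hZc : Nat.card Z = orderOf x := by
    rw [hZ, Nat.card_congr (subgroupOfEquivOfLe (zpowers_le.2 hxC)).toEquiv, Nat.card_zpowers]
  have hsplit : ∀ {c : G}, c ∈ zpowers x → c * c = 1 → c = 1 := fun {c} hc h2 => by
    have h := orderOf_dvd_natCard _ hc
    rw [Nat.card_zpowers] at h
    rcases (Nat.dvd_prime hp).1 h with e | e
    · exact orderOf_eq_one_iff.1 e
    · have := orderOf_dvd_of_pow_eq_one (show c ^ 2 = 1 by rw [pow_two, h2])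
      rw [e, Nat.prime_dvd_prime_iff_eq hp Nat.prime_two] at this
      rw [this] at hodd
      exact absurd hodd (by decide)
  have hxr : x * r = r * x := (mem_CV.1 hx).1
  have hxs : x * s = s * x := (mem_CV.1 hx).2
  set π₀ := QuotientGroup.mk' Z with hπ
  have hπs : Function.Surjective π₀ := QuotientGroup.mk'_surjective _
  have hπ1 : ∀ y : C, π₀ y = 1 ↔ (y : G) ∈ zpowers x := fun y => by
    rw [hπ, QuotientGroup.mk'_apply, QuotientGroup.eq_one_iff, hZ, mem_subgroupOf]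
  let rC : C := ⟨r, mem_centralizer_singleton_iff.2 hxr.symm⟩
  let sC : C := ⟨s, mem_centralizer_singleton_iff.2 hxs.symm⟩
  obtain ⟨g, hgx, hgr, hgs⟩ := F.exists_cycle hx hord
  let gC : C := ⟨g, mem_centralizer_singleton_iff.2 hgx⟩
  have hne : ∀ {y : C}, (y : G) * y = 1 → (y : G) ≠ 1 → π₀ y ≠ 1 := fun h2 h1 h => h1 (hsplit ((hπ1 _).1 h) h2)
  have hcases : ∀ q : C ⧸ Z, q * π₀ rC = π₀ rC * q → q = 1 ∨ q = π₀ rC ∨ q = π₀ sC ∨ q = π₀ rC * π₀ sC := by
    intro q hq
    obtain ⟨d, rfl⟩ := hπs q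
    have h1 : (r * (d : G))⁻¹ * ((d : G) * r) ∈ zpowers x := by
      have := (hπ1 ((rC * d)⁻¹ * (d * rC))).1 (by
        rw [map_mul π₀ ((rC * d)⁻¹), map_inv, map_mul, map_mul, hq, inv_mul_cancel])
      exact this
    set c := (r * (d : G))⁻¹ * ((d : G) * r) with hc
    have hdr : (d : G) * r = r * d := by
      have hcr : c * r = r * c := by
        obtain ⟨k, hk⟩ := mem_zpowers_iff.1 h1
        rw [← hk]; exact ((show Commute x r from hxr).zpow_left k).eq
      have h2 : (d : G)⁻¹ * r * d = r * c⁻¹ := by rw [hc]; group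
      have hci : c⁻¹ * r = r * c⁻¹ := (Commute.inv_left (show Commute c r from hcr)).eq
      have h3 : c⁻¹ = 1 := by
        refine hsplit (inv_mem h1) ?_
        calc c⁻¹ * c⁻¹ = (r * r) * c⁻¹ * c⁻¹ := by rw [F.r2, one_mul]
          _ = r * (r * c⁻¹) * c⁻¹ := by group
          _ = r * (c⁻¹ * r) * c⁻¹ := by rw [hci]
          _ = r * c⁻¹ * (r * c⁻¹) := by group
          _ = (d : G)⁻¹ * (r * r) * d := by rw [← h2]; group
          _ = 1 := by rw [F.r2]; group
      rw [h3, mul_one] at h2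
      calc (d : G) * r = (d : G) * ((d : G)⁻¹ * r * d) := by rw [h2]
        _ = r * d := by group
    obtain ⟨k, w, hw, e⟩ := F.cent_D_cases O hx hord hdr (mem_centralizer_singleton_iff.1 d.2)
    obtain ⟨a, b, rfl⟩ := F.mem_V hw
    have key : ∀ y : C, (y : G) = zb r a * zb s b → π₀ d = π₀ y := fun y hy => by
      rw [show d = ⟨x, hxC⟩ ^ k * y from Subtype.ext (by rw [e, Subgroup.coe_mul, Subgroup.coe_pow, hy]), map_mul,
        map_pow, (hπ1 ⟨x, hxC⟩).2 (mem_zpowers x), one_pow, one_mul]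
    rcases two_cases a with rfl | rfl <;> rcases two_cases b with rfl | rfl
    · exact .inl ((key 1 (by simp [zb_zero])).trans (map_one _))
    · exact .inr (.inr (.inl (key sC (by simp [zb_zero, zb_one, sC]))))
    · exact .inr (.inl (key rC (by simp [zb_zero, zb_one, rC])))
    · exact .inr (.inr (.inr ((key (rC * sC) (by simp [zb_one, rC, sC])).trans (map_mul _ _ _))))
  have hcard := card_mul_index Z
  rw [hZc, index_eq_card] at hcard
  have hsr : π₀ sC ≠ π₀ rC := fun h => by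
    refine hne (y := rC * sC)
      (F.V_sq (w := r * s) (mul_mem (subset_closure (by simp)) (subset_closure (by simp)))) (fun h' => ?_) ?_
    · have h'' : r * s = 1 := h'
      exact F.s_ne_r (mul_left_cancel (h''.trans F.r2.symm))
    · rw [map_mul, h, ← map_mul, show rC * rC = 1 from Subtype.ext F.r2, map_one]
  rcases klein_cases (r := π₀ rC) (s := π₀ sC)
    (by rw [← map_mul, show rC * rC = 1 from Subtype.ext F.r2, map_one])
    (by rw [← map_mul, show sC * sC = 1 from Subtype.ext F.s2, map_one])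
    (by rw [← map_mul, ← map_mul]; exact congrArg π₀ (Subtype.ext F.rs))
    (hne F.r2 F.r_ne_one) (hne F.s2 F.s_not_one) hsr hcases (g := π₀ gC)
    (by rw [← map_inv, ← map_mul, ← map_mul]; exact congrArg π₀ (Subtype.ext hgr))
    (by rw [← map_inv, ← map_mul, ← map_mul, ← map_mul]; exact congrArg π₀ (Subtype.ext hgs)) with h | ⟨h, ⟨e⟩⟩
  · left; rw [← hcard, h, mul_comm]
  · right
    refine ⟨by rw [← hcard, h, mul_comm], ?_⟩
    have hcop : Nat.Coprime (Nat.card Z) Z.index := by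
      rw [hZc, index_eq_card, h]
      rcases hord with h' | h' <;> rw [h'] <;> norm_num
    obtain ⟨K, hK⟩ := exists_right_complement'_of_coprime hcop
    let f : ↥Z × ↥K →* ↥C :=
      { toFun := fun p => (p.1 : C) * p.2
        map_one' := by simp
        map_mul' := fun p q => by
          have hc : (q.1 : C) * (p.2 : C) = (p.2 : C) * q.1 := Subtype.ext (by
            obtain ⟨k, hk⟩ := mem_zpowers_iff.1 (mem_subgroupOf.1 q.1.2)
            show ((q.1 : C) : G) * ((p.2 : C) : G) = ((p.2 : C) : G) * ((q.1 : C) : G)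
            rw [← hk]
            exact ((show Commute x ((p.2 : C) : G) from (mem_centralizer_singleton_iff.1 (p.2 : C).2).symm).zpow_left k).eq)
          show (p.1 : C) * q.1 * ((p.2 : C) * q.2) = (p.1 : C) * p.2 * ((q.1 : C) * q.2)
          rw [mul_assoc, mul_assoc, ← mul_assoc (q.1 : C), hc, mul_assoc (p.2 : C)] }
    have hf : Function.Bijective f := hK
    exact ⟨(MulEquiv.ofBijective f hf).symm.trans ((subgroupOfEquivOfLe (zpowers_le.2 hxC)).prodCongr
      ((hK.symm.QuotientMulEquiv).symm.trans e))⟩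

/-- The automiser of a cyclic subgroup of order seven of `C(V)`. -/
theorem card_norm_seven {x : G} (hx : x ∈ CV r s) (ho : orderOf x = 7) :
    Nat.card (normalizer (zpowers x : Set G)) = 6 * Nat.card (centralizer ({x} : Set G)) := by
  classical
  obtain ⟨n₀, hn₀, j, hj, hj3, hj1⟩ := F.exists_seven_act hx ho
  obtain ⟨c, hc, hmem⟩ := F.exists_back hx (.inr ho) (F.D_conj_CV O O.hr hx)
  obtain ⟨i, hi⟩ := exists_act hmem
  have hr' : c * τ * r = r * (c * τ) := (Commute.mul_left (show Commute c r from (mem_CV.1 hc).1) O.hr).eq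
  have hout : c * τ ∉ CV r s := fun h => by
    have := mul_mem (inv_mem hc) h
    rw [inv_mul_cancel_left] at this
    exact O.hs (mem_CV.1 this).2
  have hi3 : (i : ZMod 7) ^ 3 ≠ 1 := fun h3 => by
    have hsome : ∀ k : ℕ, (i : ZMod 7) = (j : ZMod 7) ^ k → False := fun k hk => by
      have e : x ^ i = x ^ j ^ k := pow_cast ho (by rw [Nat.cast_pow]; exact hk)
      have hd : (n₀ ^ k)⁻¹ * (c * τ) * x = x * ((n₀ ^ k)⁻¹ * (c * τ)) := by
        refine mul_inv_eq_iff_eq_mul.1 ?_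
        calc (n₀ ^ k)⁻¹ * (c * τ) * x * ((n₀ ^ k)⁻¹ * (c * τ))⁻¹
            = (n₀ ^ k)⁻¹ * (c * τ * x * (c * τ)⁻¹) * n₀ ^ k := by group
          _ = (n₀ ^ k)⁻¹ * (n₀ ^ k * x * (n₀ ^ k)⁻¹) * n₀ ^ k := by rw [hi, e, conj_pow_act hj]
          _ = x := by group
      have := F.cent_five_seven O hx (.inr ho)
        (Commute.mul_left (Commute.inv_left ((show Commute n₀ r from (mem_CV.1 hn₀).1).pow_left k)) hr').eq hd
      exact hout (by
        have h' := mul_mem (pow_mem hn₀ k) this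
        rwa [mul_inv_cancel_left] at h')
    rcases (show ∀ a b : ZMod 7, a ^ 3 = 1 → b ^ 3 = 1 → b ≠ 1 → a = b ^ 0 ∨ a = b ^ 1 ∨ a = b ^ 2 by decide)
      _ _ h3 hj3 hj1 with h | h | h
    exacts [hsome 0 h, hsome 1 h, hsome 2 h]
  have hnorm : ∀ {g : G}, g * x * g⁻¹ ∈ zpowers x → g ∈ normalizer (zpowers x : Set G) := fun {g} hg => by
    have hle : (zpowers x).map (MulAut.conj g).toMonoidHom = zpowers x := by
      refine eq_of_le_of_card_ge ?_ (le_of_eq ?_)
      · rw [MonoidHom.map_zpowers]; exact zpowers_le.2 hg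
      · rw [card_map_of_injective (MulAut.conj g).injective]
    refine mem_normalizer_iff.2 fun y => ?_
    conv_rhs => rw [← hle]
    constructor
    · exact fun hy => ⟨y, hy, rfl⟩
    · rintro ⟨y', hy', e⟩
      have e' : g * y' * g⁻¹ = g * y * g⁻¹ := e
      rwa [← mul_left_cancel (mul_right_cancel e')]
  set φ := (zpowers x).normalizerMonoidHom with hφ
  have hker : φ.ker = (centralizer ({x} : Set G)).subgroupOf (normalizer (zpowers x : Set G)) := by
    rw [hφ, normalizerMonoidHom_ker, zpowers_eq_closure, centralizer_closure]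
  have hle : centralizer ({x} : Set G) ≤ normalizer (zpowers x : Set G) := fun g hg => hnorm (by
    rw [mem_centralizer_singleton_iff.1 hg, mul_inv_cancel_right]; exact mem_zpowers x)
  have h6 : Nat.card φ.range = 6 := by
    have hd : Nat.card φ.range ∣ 6 := (card_subgroup_dvd_card _).trans (dvd_of_eq (by
      haveI : IsCyclic (zpowers x) := inferInstance
      rw [IsCyclic.card_mulAut, Nat.card_zpowers, ho]
      exact Nat.totient_prime (by norm_num)))
    have key : ∀ {g : G} {k e : ℕ} (hg : g * x * g⁻¹ = x ^ k),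
        (φ ⟨g, hnorm (hg ▸ pow_mem (mem_zpowers x) k)⟩) ^ e = 1 → ((k : ZMod 7) ^ e) = 1 := by
      intro g k e hg h
      rw [← map_pow] at h
      have h2 : g ^ e * x * (g ^ e)⁻¹ = x := congrArg Subtype.val (MulEquiv.congr_fun h ⟨x, mem_zpowers x⟩)
      rw [conj_pow_act hg] at h2
      have := cast_of_pow ho (h2.trans (pow_one x).symm)
      rwa [Nat.cast_pow, Nat.cast_one] at this
    have hle6 := Nat.le_of_dvd (by norm_num) hd
    have hpow : ∀ y : φ.range, y ^ Nat.card φ.range = 1 := fun y => pow_card_eq_one'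
    have hy1 := key hj (congrArg Subtype.val (hpow ⟨_, ⟨_, rfl⟩⟩))
    have hy2 := key hi (congrArg Subtype.val (hpow ⟨_, ⟨_, rfl⟩⟩))
    have hpos : 0 < Nat.card φ.range := Nat.card_pos
    interval_cases hn : Nat.card φ.range
    · rw [pow_one] at hy1; exact absurd hy1 hj1
    · exact absurd hy1 ((show ∀ a : ZMod 7, a ^ 3 = 1 → a ≠ 1 → a ^ 2 ≠ 1 by decide) _ hj3 hj1)
    · exact absurd hy2 hi3
    · norm_num at hd
    · norm_num at hd
    · rfl
  have h := card_mul_index φ.ker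
  rw [index_ker, h6, hker, Nat.card_congr (subgroupOfEquivOfLe hle).toEquiv] at h
  rw [← h, mul_comm]

end Frm

end CfsgLib.SuzType
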