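import Mathlib
import Cfsg.Agent.Lib.SuzType.Local.Frm

/-!
Suzuki type: isometries of order five of the six-dimensional space of minus type.
-/

set_option autoImplicit false
set_option linter.style.haveILetI false
set_option linter.unusedSectionVars false
set_option linter.unusedSimpArgs false

namespace CfsgLib.SuzType

open CfsgLib.Classical

/-- Singular and orthogonal to a pair. -/
def pB (i j k : ℕ) : Bool := singB k && !bn i k && !bn j k

theorem check_sing_count : ((List.range 64).filter singB).length = 27 := by decide +kernel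

theorem check_pair : all64 (fun i => !singB i || all64 fun j => !(singB j && bn i j) ||
    (((List.range 64).filter (pB i j)).length == 5 &&
      all64 fun x => x == 0 || bn i x || bn j x || any64 fun k => pB i j k && bn k x)) = true := by decide +kernel

theorem card_vec (p : ℕ → Bool) (P : V6 → Prop) (h : ∀ i, i < 64 → (P (vec i) ↔ p i = true)) :
    Nat.card {x : V6 // P x} = ((List.range 64).filter p).length := by
  classical
  rw [← List.toFinset_card_of_nodup (List.nodup_range.filter _), ← Nat.card_eq_finsetCard]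
  refine (Nat.card_congr (Equiv.ofBijective
    (fun i : ((List.range 64).filter p).toFinset => (⟨vec i.1, ?_⟩ : {x : V6 // P x})) ⟨?_, ?_⟩)).symm
  · obtain ⟨h1, h2⟩ := List.mem_filter.1 (List.mem_toFinset.1 i.2)
    exact (h _ (List.mem_range.1 h1)).2 h2
  · intro i j e
    have hi := List.mem_range.1 (List.mem_filter.1 (List.mem_toFinset.1 i.2)).1
    have hj := List.mem_range.1 (List.mem_filter.1 (List.mem_toFinset.1 j.2)).1
    exact Subtype.ext ((vec_eq_iff hi hj).1 (congrArg Subtype.val e))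
  · rintro ⟨x, hx⟩
    obtain ⟨i, hi, rfl⟩ := vec_surj x
    exact ⟨⟨i, List.mem_toFinset.2 (List.mem_filter.2 ⟨List.mem_range.2 hi, (h i hi).1 hx⟩)⟩, rfl⟩

theorem card_sing : Nat.card {x : V6 // Sing x} = 27 :=
  (card_vec singB Sing fun _ hi => sing_vec hi).trans check_sing_count

theorem pb_vec_zero_iff {i j : ℕ} (hi : i < 64) (hj : j < 64) : pb (vec i) (vec j) = 0 ↔ bn i j = false := by
  rw [pb_vec hi hj]; exact ite_zero_iff

theorem pb_vec_one_iff {i j : ℕ} (hi : i < 64) (hj : j < 64) : pb (vec i) (vec j) = 1 ↔ bn i j = true := by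
  rw [pb_vec hi hj]; exact ite_one_iff

theorem pair_facts {a b : V6} (ha : Sing a) (hb : Sing b) (hab : pb a b = 1) :
    Nat.card {c : V6 // Sing c ∧ pb a c = 0 ∧ pb b c = 0} = 5 ∧
      ∀ x, pb a x = 0 → pb b x = 0 → (∀ c, Sing c → pb a c = 0 → pb b c = 0 → pb c x = 0) → x = 0 := by
  obtain ⟨i, hi, rfl⟩ := vec_surj a
  obtain ⟨j, hj, rfl⟩ := vec_surj b
  have h1 := all64_get check_pair hi
  simp only [(sing_vec hi).1 ha, Bool.not_true, Bool.false_or] at h1
  have h2 := all64_get h1 hj
  simp only [(sing_vec hj).1 hb, (pb_vec_one_iff hi hj).1 hab, Bool.and_self, Bool.not_true, Bool.false_or,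
    Bool.and_eq_true, beq_iff_eq] at h2
  refine ⟨(card_vec (pB i j) _ fun k hk => ?_).trans h2.1, fun x hax hbx hc => ?_⟩
  · rw [sing_vec hk, pb_vec_zero_iff hi hk, pb_vec_zero_iff hj hk, pB]
    simp [and_assoc]
  · obtain ⟨k, hk, rfl⟩ := vec_surj x
    have h3 := all64_get h2.2 hk
    simp only [(pb_vec_zero_iff hi hk).1 hax, (pb_vec_zero_iff hj hk).1 hbx, Bool.or_false, Bool.or_eq_true,
      beq_iff_eq] at h3
    rcases h3 with h3 | h3
    · rw [h3, vec_zero]
    · obtain ⟨l, hl, h4⟩ := any64_get h3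
      simp only [pB, Bool.and_eq_true, Bool.not_eq_true'] at h4
      have := hc (vec l) ((sing_vec hl).2 h4.1.1.1) ((pb_vec_zero_iff hi hl).2 h4.1.1.2)
        ((pb_vec_zero_iff hj hl).2 h4.1.2)
      rw [(pb_vec_one_iff hl hk).2 h4.2] at this
      exact absurd this one_ne_zero

theorem qAut_pow_fix {g : qAut qm} {x : V6} (h : g.1 x = x) (k : ℕ) : (g ^ k).1 x = x := by
  induction k with
  | zero => rw [pow_zero]; rfl
  | succ k ih => rw [pow_succ, qAut_mul_apply, h, ih]

theorem pb_of_fix {g : qAut qm} {a : V6} (h : g.1 a = a) (x : V6) : pb a (g.1 x) = pb a x := by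
  conv_lhs => rw [← h]
  exact pb_map g a x

theorem sing_map {g : qAut qm} {x : V6} : Sing (g.1 x) ↔ Sing x := by
  rw [Sing, Sing, qAut_map g, ne_eq, g.1.map_eq_zero_iff]

theorem fixed_mod {g : qAut qm} (hg5 : g ^ 5 = 1) (P : V6 → Prop) (hP : ∀ x, P (g.1 x) ↔ P x) :
    Nat.card {x : V6 // P x ∧ g.1 x = x} ≡ Nat.card {x : V6 // P x} [MOD 5] := by
  classical
  haveI : Fact (Nat.Prime 5) := ⟨by norm_num⟩
  let σ : Equiv.Perm {x : V6 // P x} := g.1.toEquiv.subtypeEquiv fun x => (hP x).symm
  have hpow : ∀ (k : ℕ) (x : {x : V6 // P x}), ((σ ^ k) x : V6) = (g ^ k).1 x := fun k => by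
    induction k with
    | zero => intro x; rw [pow_zero, pow_zero]; rfl
    | succ k ih => intro x; rw [pow_succ', pow_succ', Equiv.Perm.mul_apply, qAut_mul_apply, ← ih]; rfl
  have hσ : σ ^ 5 ^ 1 = 1 := Equiv.ext fun x => Subtype.ext (by rw [pow_one, hpow, hg5]; rfl)
  have h := Equiv.Perm.card_compl_support_modEq hσ
  rw [← Nat.card_eq_fintype_card] at h
  convert h using 1
  rw [← Nat.card_eq_finsetCard]
  refine Nat.card_congr
    { toFun := fun x => ⟨⟨x.1, x.2.1⟩, Finset.mem_compl.2 (Equiv.Perm.notMem_support.2 (Subtype.ext x.2.2))⟩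
      invFun := fun x => ⟨x.1.1, x.1.2,
        congrArg Subtype.val (Equiv.Perm.notMem_support.1 (Finset.mem_compl.1 x.2))⟩
      left_inv := fun _ => rfl
      right_inv := fun _ => rfl }

/-- The geometry of an isometry of order five. -/
theorem five_geom {g : qAut qm} (hg5 : g ^ 5 = 1) (hg1 : g ≠ 1) :
    ∃ a b : V6, Sing a ∧ Sing b ∧ pb a b = 1 ∧ g.1 a = a ∧ g.1 b = b ∧
      (∀ x, g.1 x = x → x = 0 ∨ x = a ∨ x = b ∨ x = a + b) ∧
      ∀ h, h ∈ Ev → h * g = g * h → ∃ k : ℕ, h = g ^ k := by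
  classical
  haveI := finite_qAut qm
  haveI : Fact (Nat.Prime 5) := ⟨by norm_num⟩
  have ho : orderOf g = 5 := orderOf_eq_prime hg5 hg1
  have hgev : g ∈ Ev := by
    have : g = (g ^ 3) ^ 2 := by rw [← pow_mul, pow_succ, hg5, one_mul]
    rw [this]; exact Subgroup.sq_mem_of_index_two index_ev _
  -- the fixed space
  let W : Submodule (ZMod 2) V6 := LinearMap.eqLocus g.1.toLinearMap LinearMap.id
  have hWc : Nat.card {x : V6 // g.1 x = x} = 4 := by
    have h64 : Nat.card V6 = 64 := by simp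
    have hm := fixed_mod hg5 (fun _ => True) (fun _ => Iff.rfl)
    rw [Nat.card_congr (Equiv.subtypeUnivEquiv fun _ => trivial), h64,
      Nat.card_congr (Equiv.subtypeEquivRight (q := fun x => g.1 x = x) fun x => iff_of_eq (true_and _))] at hm
    have hd : Nat.card W ∣ 64 := h64 ▸ W.toAddSubgroup.card_addSubgroup_dvd_card
    have hW : Nat.card {x : V6 // g.1 x = x} = Nat.card W := rfl
    rw [hW] at hm ⊢
    have hne : Nat.card W ≠ 64 := fun h => hg1 (qAut_ext fun x => by
      have htop : W.toAddSubgroup = ⊤ := AddSubgroup.eq_top_of_card_eq _ (h.trans h64.symm)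
      have hx : x ∈ W := show x ∈ W.toAddSubgroup by rw [htop]; trivial
      exact hx)
    obtain ⟨k, hk, hk'⟩ := (Nat.dvd_prime_pow Nat.prime_two).1 (show Nat.card W ∣ 2 ^ 6 from hd.trans (dvd_of_eq (by norm_num)))
    rw [hk'] at hm hne ⊢
    revert hm hne
    interval_cases k <;> simp [Nat.ModEq]
  have hS := fixed_mod hg5 Sing fun _ => sing_map
  rw [card_sing] at hS
  set Sf := {x : V6 // Sing x ∧ g.1 x = x} with hSf
  have hS2 : 2 ≤ Nat.card Sf := by
    unfold Nat.ModEq at hS
    omega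
  obtain ⟨⟨a, ha, hga⟩, ⟨b, hb, hgb⟩, hab'⟩ := Finite.one_lt_card_iff_nontrivial.1 (show 1 < Nat.card Sf by omega)
  have hab : a ≠ b := fun e => hab' (Subtype.ext e)
  have hab0 : a + b ≠ 0 := fun e => hab (funext fun i => CharTwo.add_eq_zero.1 (congrFun e i))
  have hgab : g.1 (a + b) = a + b := by rw [map_add, hga, hgb]
  have hfix : ∀ x, g.1 x = x → x = 0 ∨ x = a ∨ x = b ∨ x = a + b := by
    intro x hx
    have hsub : ({0, a, b, a + b} : Finset V6) ⊆ Finset.univ.filter fun x => g.1 x = x := by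
      intro y hy
      simp only [Finset.mem_insert, Finset.mem_singleton] at hy
      rw [Finset.mem_filter]
      rcases hy with rfl | rfl | rfl | rfl
      exacts [⟨Finset.mem_univ _, map_zero _⟩, ⟨Finset.mem_univ _, hga⟩, ⟨Finset.mem_univ _, hgb⟩,
        ⟨Finset.mem_univ _, hgab⟩]
    have h4 : ({0, a, b, a + b} : Finset V6).card = 4 := by
      simp [ha.1.symm, hb.1.symm, hab, hab0.symm, hb.1, ha.1]
    have := Finset.eq_of_subset_of_card_le hsub (by
      rw [h4, ← Fintype.card_subtype, ← Nat.card_eq_fintype_card, hWc])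
    have hm : x ∈ ({0, a, b, a + b} : Finset V6) := this.symm ▸ Finset.mem_filter.2 ⟨Finset.mem_univ _, hx⟩
    simpa using hm
  have hpab : pb a b = 1 := by
    by_contra h
    have h0 := (two_cases _).resolve_right h
    have hs3 : Sing (a + b) := ⟨hab0, by rw [qm_add, ha.2, hb.2, h0]; decide⟩
    have hc : Nat.card Sf = 3 := by
      rw [hSf, Nat.card_eq_fintype_card, Fintype.card_subtype]
      rw [show (Finset.univ.filter fun x => Sing x ∧ g.1 x = x) = {a, b, a + b} by
        ext x
        simp only [Finset.mem_filter, Finset.mem_univ, true_and, Finset.mem_insert, Finset.mem_singleton]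
        constructor
        · rintro ⟨hx, hgx⟩
          exact (hfix x hgx).resolve_left hx.1
        · rintro (rfl | rfl | rfl)
          exacts [⟨ha, hga⟩, ⟨hb, hgb⟩, ⟨hs3, hgab⟩]]
      simp [hab, ha.1, hb.1]
    rw [hc] at hS
    exact absurd hS (by decide)
  refine ⟨a, b, ha, hb, hpab, hga, hgb, hfix, ?_⟩
  obtain ⟨h5, hnd⟩ := pair_facts ha hb hpab
  set T := {c : V6 // Sing c ∧ pb a c = 0 ∧ pb b c = 0} with hT
  obtain ⟨c₀⟩ : Nonempty T := Finite.card_pos_iff.1 (by omega)
  have hnofix : g.1 c₀.1 ≠ c₀.1 := fun e => by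
    rcases hfix _ e with h | h | h | h
    · exact c₀.2.1.1 h
    · have := c₀.2.2.2; rw [h, pb_comm, hpab] at this; exact one_ne_zero this
    · have := c₀.2.2.1; rw [h, hpab] at this; exact one_ne_zero this
    · have := c₀.2.2.1
      rw [h, pb_add_right, pb_self, hpab, zero_add] at this
      exact one_ne_zero this
  have hperp : ∀ k : ℕ, Sing ((g ^ k).1 c₀.1) ∧ pb a ((g ^ k).1 c₀.1) = 0 ∧ pb b ((g ^ k).1 c₀.1) = 0 := fun k => by
    refine ⟨sing_map.2 c₀.2.1, ?_, ?_⟩
    · rw [pb_of_fix (qAut_pow_fix hga k)]; exact c₀.2.2.1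
    · rw [pb_of_fix (qAut_pow_fix hgb k)]; exact c₀.2.2.2
  have horb : ∀ c : T, ∃ k : Fin 5, (g ^ k.1).1 c₀.1 = c.1 := by
    let f : Fin 5 → T := fun k => ⟨(g ^ k.1).1 c₀.1, hperp k⟩
    have hf : Function.Injective f := by
      intro i j e
      have e' : (g ^ i.1).1 c₀.1 = (g ^ j.1).1 c₀.1 := congrArg Subtype.val e
      by_contra hne
      wlog hlt : i.1 < j.1 generalizing i j
      · exact this e.symm e'.symm (Ne.symm hne) (by omega)
      have hd : (g ^ (j.1 - i.1)).1 c₀.1 = c₀.1 := by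
        apply (g ^ i.1).1.injective
        rw [← qAut_mul_apply, ← pow_add, show i.1 + (j.1 - i.1) = j.1 by omega, ← e']
      obtain ⟨l, hl⟩ := exists_pow_eq_self_of_coprime (x := g) (n := j.1 - i.1) (by
        rw [ho]
        exact ((Nat.Prime.coprime_iff_not_dvd (by norm_num)).2 (Nat.not_dvd_of_pos_of_lt (by omega) (by omega))).symm)
      refine hnofix ?_
      conv_lhs => rw [← hl]
      exact qAut_pow_fix hd l
    have hb' := (Fintype.bijective_iff_injective_and_card f).2 ⟨hf, by
      rw [Fintype.card_fin, ← Nat.card_eq_fintype_card, h5]⟩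
    intro c
    obtain ⟨k, hk⟩ := hb'.2 c
    exact ⟨k, congrArg Subtype.val hk⟩
  -- the stabilizer of the pair
  have main : ∀ h : qAut qm, h * g = g * h → h.1 a = a → h.1 b = b → ∃ k : ℕ, h = g ^ k := by
    intro h hc hha hhb
    obtain ⟨k, hk⟩ := horb ⟨h.1 c₀.1, sing_map.2 c₀.2.1, by rw [pb_of_fix hha]; exact c₀.2.2.1,
      by rw [pb_of_fix hhb]; exact c₀.2.2.2⟩
    set d := (g ^ k.1)⁻¹ * h with hd
    have hdg : Commute d g := Commute.mul_left ((Commute.refl g).pow_left k.1).inv_left hc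
    have hd0 : d.1 c₀.1 = c₀.1 := by
      apply (g ^ k.1).1.injective
      rw [hd, ← qAut_mul_apply, mul_inv_cancel_left, hk]
    have hfixd : ∀ {x : V6}, g.1 x = x → h.1 x = x → d.1 x = x := fun hx hy => by
      rw [hd, qAut_mul_apply, hy]; exact qAut_fix_inv (qAut_pow_fix hx k.1)
    have hda := hfixd hga hha
    have hdb := hfixd hgb hhb
    have hdT : ∀ c, Sing c → pb a c = 0 → pb b c = 0 → d.1 c = c := fun c h1 h2 h3 => by
      obtain ⟨l, hl⟩ := horb ⟨c, h1, h2, h3⟩
      rw [← show (g ^ l.1).1 c₀.1 = c from hl, ← qAut_mul_apply, (hdg.pow_right l.1).eq, qAut_mul_apply, hd0]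
    have hd1 : d = 1 := qAut_ext fun x => by
      have : d.1 x + x = 0 := by
        refine hnd _ ?_ ?_ fun c h1 h2 h3 => ?_
        · rw [pb_add_right]; nth_rewrite 1 [← hda]; rw [pb_map, CharTwo.add_self_eq_zero]
        · rw [pb_add_right]; nth_rewrite 1 [← hdb]; rw [pb_map, CharTwo.add_self_eq_zero]
        · rw [pb_add_right]; nth_rewrite 1 [← hdT c h1 h2 h3]; rw [pb_map, CharTwo.add_self_eq_zero]
      exact funext fun i => CharTwo.add_eq_zero.1 (congrFun this i)
    exact ⟨k, (inv_mul_eq_one.1 (hd.symm.trans hd1)).symm⟩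
  intro h hev hc
  have himg : ∀ {x : V6}, Sing x → g.1 x = x → h.1 x = a ∨ h.1 x = b := fun {x} hx hgx => by
    have hgh : g.1 (h.1 x) = h.1 x := by rw [← qAut_mul_apply, ← hc, qAut_mul_apply, hgx]
    rcases hfix _ hgh with e | e | e | e
    · exact absurd (h.1.map_eq_zero_iff.1 e) hx.1
    · exact .inl e
    · exact .inr e
    · have := (sing_map (g := h)).2 hx
      rw [e] at this
      have h' := this.2
      rw [qm_add, ha.2, hb.2, hpab] at h'
      exact absurd h' (by decide)
  rcases himg ha hga with e | e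
  · rcases himg hb hgb with e' | e'
    · exact absurd (h.1.injective (e.trans e'.symm)) hab
    · exact main h hc e e'
  · exfalso
    rcases himg hb hgb with e' | e'
    swap
    · exact hab (h.1.injective (e.trans e'.symm))
    have hq : qm (a + b) = 1 := by rw [qm_add, ha.2, hb.2, hpab]; decide
    set r := rf (a + b) hq with hr
    have hrg : r * g = g * r := qAut_ext fun x => by
      rw [qAut_mul_apply, qAut_mul_apply, hr, rf_apply, rf_apply, map_add, map_smul, hgab]
      congr 2
      conv_lhs => rw [← hgab]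
      exact pb_map g x (a + b)
    have hra : r.1 b = a := by
      rw [hr, rf_move hq (by rw [pb_add_right, pb_self, pb_comm, hpab, add_zero]), add_comm a b, add_cancel6]
    have hrb : r.1 a = b := by
      rw [hr, rf_move hq (by rw [pb_add_right, pb_self, hpab, zero_add]), add_cancel6]
    obtain ⟨k, hk⟩ := main (r * h) (by rw [mul_assoc, hc, ← mul_assoc, hrg, mul_assoc])
      (by rw [qAut_mul_apply, e, hra]) (by rw [qAut_mul_apply, e', hrb])
    refine rf_not_mem hq ?_
    have h' : r = g ^ k * h⁻¹ := by rw [← hk, mul_inv_cancel_right]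
    rw [← hr, h']
    exact mul_mem (pow_mem hgev k) (inv_mem hev)

end CfsgLib.SuzType
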