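import Mathlib
import Cfsg.Agent.Lib.SuzType.Local.CentFiveSeven
import Cfsg.Agent.Lib.SuzType.Local.Five

/-!
Suzuki type: elements of order five of `C(z)`.
-/

set_option autoImplicit false
set_option linter.style.haveILetI false
set_option linter.unusedSectionVars false
set_option linter.unusedSimpArgs false

namespace CfsgLib.SuzType

open Subgroup CfsgLib.Classical

variable {G : Type*} [Group G] [Finite G]

theorem two_gen : ∀ x : ZMod 5, x ≠ 0 → ∃ k : Fin 4, (2 : ZMod 5) ^ k.1 * x = 1 := by decide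

namespace Setup

variable {z : G} {Q : Subgroup G} {π : G → V6} {ρ : G → qAut qm} (S : Setup z Q π ρ)

include S

theorem card_C : Nat.card (centralizer ({z} : Set G)) = 3317760 := by
  let φ : centralizer ({z} : Set G) →* qAut qm :=
    MonoidHom.mk' (fun c => ρ c) fun a b => S.rho_mul a a.2 b b.2
  have hk : φ.ker = Q.subgroupOf (centralizer ({z} : Set G)) := by
    ext c; exact S.rho_ker c c.2
  have hr : φ.range = Ev := by
    ext g
    rw [MonoidHom.mem_range, S.rho_range g]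
    exact ⟨fun ⟨c, hc⟩ => ⟨c, c.2, hc⟩, fun ⟨c, h1, h2⟩ => ⟨⟨c, h1⟩, h2⟩⟩
  have h := card_mul_index φ.ker
  rw [index_ker, hr, hk, Nat.card_congr (subgroupOfEquivOfLe S.le).toEquiv, S.card] at h
  haveI := finite_qAut qm
  have h2 := card_mul_index Ev
  rw [index_ev, card_qAut6] at h2
  rw [← h]
  omega

theorem rho_pow5 {f : G} (hf : f ∈ centralizer ({z} : Set G)) (h5 : orderOf f = 5) :
    ρ f ^ 5 = 1 ∧ ρ f ≠ 1 := by
  refine ⟨by rw [← rho_pow S hf, ← h5, pow_orderOf_eq_one, S.rho_one], fun h => ?_⟩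
  have h' := orderOf_dvd_natCard Q ((S.rho_ker f hf).1 h)
  rw [h5, S.card] at h'
  norm_num at h'

/-- Lifts of fixed vectors are centralized. -/
theorem comm_lift {f q : G} (hf : f ∈ centralizer ({z} : Set G)) (h5 : orderOf f = 5) (hq : q ∈ Q)
    (h : (ρ f).1 (π q) = π q) : f * q = q * f := by
  have hfz := mem_centralizer_singleton_iff.1 hf
  rcases S.pi_eq hq (S.conj_mem hf hq) (by rw [S.rho_pi f hf q hq, h]) with e | e
  · exact mul_inv_eq_iff_eq_mul.1 e
  · exfalso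
    have hzf : f * z * f⁻¹ = z := mul_inv_eq_iff_eq_mul.2 hfz
    have h2 : f ^ 2 * q * (f ^ 2)⁻¹ = q := by
      calc f ^ 2 * q * (f ^ 2)⁻¹ = f * (f * q * f⁻¹) * f⁻¹ := by rw [pow_two]; group
        _ = (f * z * f⁻¹) * (f * q * f⁻¹) := by
          conv_lhs => rw [e]
          group
        _ = q := by rw [hzf, e, ← mul_assoc, S.z2, one_mul]
    have h6 : f ^ 6 * q * (f ^ 6)⁻¹ = q := by
      calc f ^ 6 * q * (f ^ 6)⁻¹ = f ^ 4 * (f ^ 2 * q * (f ^ 2)⁻¹) * (f ^ 4)⁻¹ := by group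
        _ = f ^ 4 * q * (f ^ 4)⁻¹ := by rw [h2]
        _ = f ^ 2 * (f ^ 2 * q * (f ^ 2)⁻¹) * (f ^ 2)⁻¹ := by group
        _ = q := by rw [h2, h2]
    rw [pow_succ, show f ^ 5 = 1 from h5 ▸ pow_orderOf_eq_one f, one_mul, e] at h6
    exact S.z1 (mul_eq_right.1 h6)

/-- The centralizer in `C(z)` of an element of order five. -/
theorem cent_five_data {f : G} (hf : f ∈ centralizer ({z} : Set G)) (h5 : orderOf f = 5) :
    (∃ qa qb, qa ∈ Q ∧ qb ∈ Q ∧ qa * qa = 1 ∧ qb * qb = 1 ∧ qa * qb * (qa * qb) = z ∧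
      qa * f = f * qa ∧ qb * f = f * qb) ∧
    (∀ d, d * z = z * d → d * f = f * d → ∃ k : ℕ, ∃ q ∈ Q, q * f = f * q ∧ d = f ^ k * q) ∧
    Nat.card ↥(centralizer ({z} : Set G) ⊓ centralizer ({f} : Set G)) = 40 := by
  classical
  obtain ⟨g5, g1⟩ := S.rho_pow5 hf h5
  obtain ⟨a, b, ha, hb, hab, hga, hgb, hfix, hcen⟩ := five_geom g5 g1
  obtain ⟨qa, hqa, ea⟩ := S.pi_surj a
  obtain ⟨qb, hqb, eb⟩ := S.pi_surj b
  have hca := S.comm_lift hf h5 hqa (by rw [ea]; exact hga)
  have hcb := S.comm_lift hf h5 hqb (by rw [eb]; exact hgb)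
  have qa2 : qa * qa = 1 := by rw [S.sq qa hqa, ea, ha.2, zb_zero]
  have qb2 : qb * qb = 1 := by rw [S.sq qb hqb, eb, hb.2, zb_zero]
  have qab : qa * qb * (qa * qb) = z := by
    rw [S.sq _ (mul_mem hqa hqb), S.pi_mul qa hqa qb hqb, ea, eb, qm_add, ha.2, hb.2, hab,
      show (0 : ZMod 2) + 0 + 1 = 1 by decide, zb_one]
  have hfz := mem_centralizer_singleton_iff.1 hf
  have hdec : ∀ d, d * z = z * d → d * f = f * d → ∃ k : ℕ, ∃ q ∈ Q, q * f = f * q ∧ d = f ^ k * q := by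
    intro d hdz hdf
    have hdC : d ∈ centralizer ({z} : Set G) := mem_centralizer_singleton_iff.2 hdz
    obtain ⟨k, hk⟩ := hcen (ρ d) (S.rho_mem hdC) (by rw [← S.rho_mul d hdC f hf, hdf, S.rho_mul f hf d hdC])
    refine ⟨k, (f ^ k)⁻¹ * d, ?_, ?_, (mul_inv_cancel_left _ _).symm⟩
    · refine (S.rho_ker _ (mul_mem (inv_mem (pow_mem hf k)) hdC)).1 ?_
      rw [S.rho_mul _ (inv_mem (pow_mem hf k)) d hdC, S.rho_inv (pow_mem hf k), rho_pow S hf, hk, inv_mul_cancel]
    · exact (Commute.mul_left ((Commute.refl f).pow_left k).inv_left hdf).eq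
  refine ⟨⟨qa, qb, hqa, hqb, qa2, qb2, qab, hca.symm, hcb.symm⟩, hdec, ?_⟩
  -- the count
  let φ : ZMod 2 × ZMod 2 × ZMod 2 → G := fun p => zb z p.1 * (zb qa p.2.1 * zb qb p.2.2)
  have hφQ : ∀ p, φ p ∈ Q := fun p => by
    refine mul_mem ?_ (mul_mem ?_ ?_)
    · rcases two_cases p.1 with e | e <;> rw [e]
      exacts [by rw [zb_zero]; exact one_mem _, by rw [zb_one]; exact S.zQ]
    · rcases two_cases p.2.1 with e | e <;> rw [e]
      exacts [by rw [zb_zero]; exact one_mem _, by rw [zb_one]; exact hqa]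
    · rcases two_cases p.2.2 with e | e <;> rw [e]
      exacts [by rw [zb_zero]; exact one_mem _, by rw [zb_one]; exact hqb]
  have hπφ : ∀ p, π (φ p) = p.2.1 • a + p.2.2 • b := fun p => by
    have hz : ∀ i, π (zb z i) = 0 := fun i => by
      rcases two_cases i with rfl | rfl
      · rw [zb_zero, S.pi_one]
      · rw [zb_one, S.pi_z]
    have hm : ∀ {q : G} {w : V6}, q ∈ Q → π q = w → ∀ i, zb q i ∈ Q ∧ π (zb q i) = i • w := fun hq e i => by
      rcases two_cases i with rfl | rfl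
      · rw [zb_zero, zero_smul]; exact ⟨one_mem _, S.pi_one⟩
      · rw [zb_one, one_smul]; exact ⟨hq, e⟩
    rw [S.pi_mul _ (hm S.zQ S.pi_z p.1).1 _ (mul_mem (hm hqa ea p.2.1).1 (hm hqb eb p.2.2).1),
      S.pi_mul _ (hm hqa ea p.2.1).1 _ (hm hqb eb p.2.2).1, hz, zero_add, (hm hqa ea p.2.1).2, (hm hqb eb p.2.2).2]
  have hφc : ∀ p, φ p * f = f * φ p := fun p => by
    have hm : ∀ {q : G}, q * f = f * q → ∀ i, Commute (zb q i) f := fun h i => by
      rcases two_cases i with rfl | rfl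
      · rw [zb_zero]; exact Commute.one_left f
      · rw [zb_one]; exact h
    exact ((hm hfz.symm p.1).mul_left ((hm hca.symm p.2.1).mul_left (hm hcb.symm p.2.2))).eq
  have hφinj : Function.Injective φ := by
    intro p p' e
    have e2 := hπφ p
    rw [e, hπφ p'] at e2
    have ca := congrArg (pb · b) e2
    have cb := congrArg (pb · a) e2
    simp only [pb_add_left, pb_smul_left, pb_self, hab, pb_comm b a, mul_one, mul_zero, add_zero, zero_add] at ca cb
    have e1 : zb z p.1 = zb z p'.1 := by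
      have e' : zb z p.1 * (zb qa p.2.1 * zb qb p.2.2) = zb z p'.1 * (zb qa p'.2.1 * zb qb p'.2.2) := e
      rw [ca, cb] at e'
      exact mul_right_cancel e'
    have h1 : p.1 = p'.1 := by
      rcases two_cases p.1 with u | u <;> rcases two_cases p'.1 with w | w <;> rw [u, w] at e1 ⊢ <;>
        simp [zb_zero, zb_one] at e1
      · exact absurd e1.symm S.z1
      · exact absurd e1 S.z1
    exact Prod.ext h1 (Prod.ext ca.symm cb.symm)
  have hφs : ∀ q ∈ Q, q * f = f * q → ∃ p, φ p = q := by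
    intro q hq hqf
    have hfx : (ρ f).1 (π q) = π q := by
      rw [← S.rho_pi f hf q hq, ← hqf, mul_inv_cancel_right]
    have hsome : ∃ i j : ZMod 2, π q = i • a + j • b := by
      rcases hfix _ hfx with h | h | h | h
      · exact ⟨0, 0, by simp [h]⟩
      · exact ⟨1, 0, by simp [h]⟩
      · exact ⟨0, 1, by simp [h]⟩
      · exact ⟨1, 1, by simp [h]⟩
    obtain ⟨i, j, hij⟩ := hsome
    rcases S.pi_eq (hφQ (0, i, j)) hq ((hπφ (0, i, j)).trans hij.symm) with e | e
    · exact ⟨(0, i, j), e.symm⟩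
    · exact ⟨(1, i, j), by rw [e]; simp [φ, zb_zero, zb_one]⟩
  have h5' : f ^ 5 = 1 := h5 ▸ pow_orderOf_eq_one f
  let ψ : Fin 5 × (ZMod 2 × ZMod 2 × ZMod 2) → ↥(centralizer ({z} : Set G) ⊓ centralizer ({f} : Set G)) := fun p =>
    ⟨f ^ p.1.1 * φ p.2, mem_inf.2 ⟨mul_mem (pow_mem hf _) (S.le (hφQ _)),
      mem_centralizer_singleton_iff.2 ((Commute.mul_left ((Commute.refl f).pow_left _) (hφc _)).eq)⟩⟩
  rw [← Nat.card_congr (Equiv.ofBijective ψ ⟨fun p p' e => ?_, fun d => ?_⟩)]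
  · simp
  · have e' : f ^ p.1.1 * φ p.2 = f ^ p'.1.1 * φ p'.2 := congrArg Subtype.val e
    have hmem : (f ^ p'.1.1)⁻¹ * f ^ p.1.1 ∈ Q := by
      rw [show (f ^ p'.1.1)⁻¹ * f ^ p.1.1 = φ p'.2 * (φ p.2)⁻¹ by
        calc (f ^ p'.1.1)⁻¹ * f ^ p.1.1 = (f ^ p'.1.1)⁻¹ * (f ^ p.1.1 * φ p.2) * (φ p.2)⁻¹ := by group
          _ = φ p'.2 * (φ p.2)⁻¹ := by rw [e']; group]
      exact mul_mem (hφQ _) (inv_mem (hφQ _))
    have h1 := orderOf_dvd_natCard Q hmem
    have h2 : orderOf ((f ^ p'.1.1)⁻¹ * f ^ p.1.1) ∣ 5 := (Subgroup.orderOf_dvd_natCard (zpowers f)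
      (mul_mem (inv_mem (pow_mem (mem_zpowers f) _)) (pow_mem (mem_zpowers f) _))).trans
        (dvd_of_eq (by rw [Nat.card_zpowers, h5]))
    rw [S.card] at h1
    have h0 := inv_mul_eq_one.1 (orderOf_eq_one_iff.1
      (Nat.eq_one_of_dvd_one ((by norm_num : Nat.gcd 128 5 = 1) ▸ Nat.dvd_gcd h1 h2)))
    have hk : p'.1 = p.1 := Fin.ext (pow_injOn_Iio_orderOf (Set.mem_Iio.2 (h5.symm ▸ p'.1.2))
      (Set.mem_Iio.2 (h5.symm ▸ p.1.2)) h0)
    rw [hk] at e'
    exact Prod.ext hk.symm (hφinj (mul_left_cancel e'))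
  · obtain ⟨h1, h2⟩ := mem_inf.1 d.2
    obtain ⟨k, q, hq, hqf, e⟩ := hdec d (mem_centralizer_singleton_iff.1 h1) (mem_centralizer_singleton_iff.1 h2)
    obtain ⟨p, hp⟩ := hφs q hq hqf
    refine ⟨(⟨k % 5, Nat.mod_lt _ (by norm_num)⟩, p), Subtype.ext ?_⟩
    show f ^ (k % 5) * φ p = d
    rw [← pow_eq_pow_mod k h5', hp, e]

/-- The normalizer in `C(z)` induces all automorphisms. -/
theorem five_act {f : G} (hf : f ∈ centralizer ({z} : Set G)) (h5 : orderOf f = 5) :
    ∃ e ∈ centralizer ({z} : Set G), e * f * e⁻¹ = f ^ 2 := by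
  classical
  haveI : Fact (Nat.Prime 5) := ⟨by norm_num⟩
  set H := centralizer ({z} : Set G) with hH
  let f' : H := ⟨f, hf⟩
  have hf5 : orderOf f' = 5 := by rw [Subgroup.orderOf_mk, h5]
  let P : Sylow 5 H := Sylow.ofCard (zpowers f') (by
    rw [Nat.card_zpowers, hf5, S.card_C]
    have e1 := (Nat.Prime.pow_dvd_iff_le_factorization (show Nat.Prime 5 by norm_num)
      (show 3317760 ≠ 0 by norm_num)).1 (show 5 ^ 1 ∣ 3317760 by norm_num)
    have e2 := mt (Nat.Prime.pow_dvd_iff_le_factorization (show Nat.Prime 5 by norm_num)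
      (show 3317760 ≠ 0 by norm_num)).2 (show ¬ 5 ^ 2 ∣ 3317760 by norm_num)
    rw [show Nat.factorization 3317760 5 = 1 by omega, pow_one])
  set N := normalizer (zpowers f' : Set H) with hN
  set φ := (zpowers f').normalizerMonoidHom with hφ
  have hcz : centralizer (zpowers f' : Set H) = centralizer ({f'} : Set H) := by
    rw [zpowers_eq_closure, centralizer_closure]
  have hle : centralizer ({f'} : Set H) ≤ N := by
    intro x hx
    refine mem_normalizer_iff.2 fun y => ?_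
    have hc : ∀ {w}, w ∈ zpowers f' → x * w * x⁻¹ = w := fun {w} hw => by
      obtain ⟨i, rfl⟩ := mem_zpowers_iff.1 hw
      rw [((show Commute x f' from mem_centralizer_singleton_iff.1 hx).zpow_right i).eq, mul_inv_cancel_right]
    refine ⟨fun hy => by rw [hc hy]; exact hy, fun hy => ?_⟩
    have := hc hy
    rwa [mul_left_cancel (mul_right_cancel this)] at hy
  have hk : Nat.card φ.ker = 40 := by
    rw [hφ, normalizerMonoidHom_ker, Nat.card_congr (subgroupOfEquivOfLe (hcz ▸ hle)).toEquiv, hcz,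
      ← (S.cent_five_data hf h5).2.2]
    refine Nat.card_congr
      { toFun := fun w => ⟨((w : H) : G), mem_inf.2 ⟨(w : H).2, mem_centralizer_singleton_iff.2
          (congrArg Subtype.val (mem_centralizer_singleton_iff.1 w.2))⟩⟩
        invFun := fun w => ⟨⟨w, (mem_inf.1 w.2).1⟩, mem_centralizer_singleton_iff.2 (Subtype.ext
          (mem_centralizer_singleton_iff.1 (mem_inf.1 w.2).2))⟩
        left_inv := fun _ => rfl
        right_inv := fun _ => rfl }
  have hr : Nat.card φ.range ∣ 4 := (card_subgroup_dvd_card _).trans (dvd_of_eq (by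
    haveI : IsCyclic (zpowers f') := inferInstance
    rw [IsCyclic.card_mulAut, Nat.card_zpowers, hf5]
    exact Nat.totient_prime (by norm_num)))
  have hcN := card_mul_index φ.ker
  rw [index_ker, hk] at hcN
  have hmod : Nat.card (Sylow 5 H) ≡ 1 [MOD 5] := card_sylow_modEq_one 5 H
  rw [P.card_eq_index_normalizer] at hmod
  change N.index ≡ 1 [MOD 5] at hmod
  have hidx := card_mul_index N
  rw [← hcN, S.card_C] at hidx
  have hr4 : Nat.card φ.range = 4 := by
    rcases (Nat.dvd_prime_pow Nat.prime_two).1 (show Nat.card φ.range ∣ 2 ^ 2 from hr.trans (dvd_of_eq (by norm_num))) with ⟨i, hi, e⟩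
    rw [e] at hidx ⊢
    interval_cases i
    · rw [show N.index = 82944 by omega] at hmod; exact absurd hmod (by decide)
    · rw [show N.index = 41472 by omega] at hmod; exact absurd hmod (by decide)
    · rfl
  have htop : φ.range = ⊤ := eq_top_of_card_eq _ (by
    haveI : IsCyclic (zpowers f') := inferInstance
    rw [hr4, IsCyclic.card_mulAut, Nat.card_zpowers, hf5]
    rw [Nat.totient_prime (by norm_num : Nat.Prime 5)])
  have hbij : Function.Bijective (fun w : zpowers f' => w ^ 2) :=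
    ((IsPGroup.of_card (p := 5) (G := zpowers f') (n := 1) (by rw [Nat.card_zpowers, hf5, pow_one])).powEquiv
      (by norm_num : Nat.Coprime 5 2)).bijective
  let α : MulAut (zpowers f') := MulEquiv.ofBijective
    ({ toFun := fun w => w ^ 2
       map_one' := one_pow 2
       map_mul' := fun a b => (show Commute a b from Subtype.ext (by
          obtain ⟨i, hi⟩ := mem_zpowers_iff.1 a.2
          obtain ⟨j, hj⟩ := mem_zpowers_iff.1 b.2
          show (a : H) * b = b * a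
          rw [← hi, ← hj, ← zpow_add, ← zpow_add, add_comm])).mul_pow 2 } : zpowers f' →* zpowers f') hbij
  obtain ⟨⟨⟨e, heH⟩, heN⟩, he⟩ := (htop ▸ mem_top α : α ∈ φ.range)
  refine ⟨e, heH, ?_⟩
  exact congrArg Subtype.val (congrArg Subtype.val (MulEquiv.congr_fun he ⟨f', mem_zpowers f'⟩))

/-- Elements of order five of `C(z)` are conjugate there. -/
theorem five_conj {f f' : G} (hf : f ∈ centralizer ({z} : Set G)) (h5 : orderOf f = 5)
    (hf' : f' ∈ centralizer ({z} : Set G)) (h5' : orderOf f' = 5) :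
    ∃ c ∈ centralizer ({z} : Set G), c * f' * c⁻¹ = f := by
  classical
  haveI : Fact (Nat.Prime 5) := ⟨by norm_num⟩
  set H := centralizer ({z} : Set G) with hH
  let P : Sylow 5 H := Sylow.ofCard (zpowers (⟨f, hf⟩ : H)) (by
    rw [Nat.card_zpowers, Subgroup.orderOf_mk, h5, S.card_C]
    have e1 := (Nat.Prime.pow_dvd_iff_le_factorization (show Nat.Prime 5 by norm_num)
      (show 3317760 ≠ 0 by norm_num)).1 (show 5 ^ 1 ∣ 3317760 by norm_num)
    have e2 := mt (Nat.Prime.pow_dvd_iff_le_factorization (show Nat.Prime 5 by norm_num)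
      (show 3317760 ≠ 0 by norm_num)).2 (show ¬ 5 ^ 2 ∣ 3317760 by norm_num)
    rw [show Nat.factorization 3317760 5 = 1 by omega, pow_one])
  obtain ⟨c, hc⟩ := CfsgLib.Transfer.exists_conj_mem_sylow P (S := zpowers (⟨f', hf'⟩ : H))
    (IsPGroup.of_card (n := 1) (by rw [Nat.card_zpowers, Subgroup.orderOf_mk, h5', pow_one]))
  obtain ⟨i, hi⟩ := mem_powers_iff_mem_zpowers.2 (hc _ (mem_zpowers _))
  have hi' : f ^ i = (c : G) * f' * (c : G)⁻¹ := congrArg Subtype.val hi
  obtain ⟨e, he, hef⟩ := S.five_act hf h5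
  have hi0 : (i : ZMod 5) ≠ 0 := fun h0 => by
    have := pow_cast h5 (show (i : ZMod 5) = ((0 : ℕ) : ZMod 5) by rw [h0, Nat.cast_zero])
    rw [pow_zero, hi'] at this
    rw [conj_eq_one_iff.1 this, orderOf_one] at h5'
    norm_num at h5'
  obtain ⟨k, hk⟩ : ∃ k : Fin 4, (2 : ZMod 5) ^ k.1 * i = 1 :=
    two_gen _ hi0
  refine ⟨e ^ k.1 * c, mul_mem (pow_mem he _) c.2, ?_⟩
  calc e ^ k.1 * (c : G) * f' * (e ^ k.1 * (c : G))⁻¹ = e ^ k.1 * ((c : G) * f' * (c : G)⁻¹) * (e ^ k.1)⁻¹ := by group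
    _ = (e ^ k.1 * f * (e ^ k.1)⁻¹) ^ i := by rw [← hi', conj_pow]
    _ = f ^ (2 ^ k.1 * i) := by rw [conj_pow_act hef, ← pow_mul]
    _ = f := by
      conv_rhs => rw [← pow_one f]
      exact pow_cast h5 (by push_cast; exact hk)

end Setup

namespace Frm

variable {z t : G} {Q R : Subgroup G} {π π' : G → V6} {ρ ρ' : G → qAut qm} {r s ω au bu av bv τ : G}
  {m n u v : V6} (F : Frm z t Q R π π' ρ ρ' r s ω au bu av bv m n u v)

include F

theorem r_order : orderOf r = 2 := orderOf_eq_prime (by rw [pow_two, F.r2]) F.r_ne_one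

theorem typeOne_r : TypeOne z t Q R π π' r := F.P.co_typeOne F.cr F.r2 F.B.n1

theorem not_conj_r : ¬ IsConj z r := F.C.not_conj F.typeOne_r

theorem classes_r {w : G} (hw : w * w = 1) (hw1 : w ≠ 1) : IsConj z w ∨ IsConj r w :=
  (F.P.classes F.C.zt F.typeOne_r hw hw1).imp IsConj.symm IsConj.symm

theorem five_invol_z {f w : G} (hf : f * z = z * f) (h5 : orderOf f = 5) (hwz : w * z = z * w) (hwf : w * f = f * w)
    (hw : w * w = 1) (hw1 : w ≠ 1) : IsConj z w := by
  obtain ⟨k, q, hq, hqf, rfl⟩ := (F.P.S.cent_five_data (mem_centralizer_singleton_iff.2 hf) h5).2.1 w hwz hwf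
  have hc : Commute (f ^ k) q := (show Commute f q from hqf.symm).pow_left k
  have h2 : f ^ (k + k) ∈ Q := by
    rw [pow_add, show f ^ k * f ^ k = (q * q)⁻¹ from eq_inv_of_mul_eq_one_left (by
      rw [← hw, mul_assoc (f ^ k) q, ← mul_assoc q, ← hc.eq]; group)]
    exact inv_mem (mul_mem hq hq)
  have h1 := orderOf_dvd_natCard Q h2
  rw [F.P.S.card] at h1
  have h5d : orderOf (f ^ (k + k)) ∣ 5 := h5 ▸ orderOf_pow_dvd (k + k)
  have h0 := orderOf_eq_one_iff.1 (Nat.eq_one_of_dvd_one ((by norm_num : Nat.gcd 128 5 = 1) ▸ Nat.dvd_gcd h1 h5d))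
  rw [← orderOf_dvd_iff_pow_eq_one, h5, ← two_mul] at h0
  obtain ⟨j, rfl⟩ := (Nat.Coprime.dvd_of_dvd_mul_left (by norm_num) h0 : 5 ∣ k)
  rw [pow_mul, show f ^ 5 = 1 from h5 ▸ pow_orderOf_eq_one f, one_pow, one_mul] at hw hw1 ⊢
  exact F.P.q_conj F.C.zt hq hw hw1

/-- An element of order five does not commute with involutions of both classes. -/
theorem five_not_both {f y w : G} (h5 : orderOf f = 5) (hy : IsConj z y) (hyf : y * f = f * y)
    (hw : w * w = 1) (hw1 : w ≠ 1) (hwf : w * f = f * w) : IsConj z w := by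
  have key : ∀ {y w : G}, IsConj z y → y * f = f * y → w * y = y * w → w * f = f * w → w * w = 1 → w ≠ 1 →
      IsConj z w := by
    intro y w hy hyf hwy hwf hw hw1
    obtain ⟨g, rfl⟩ := isConj_iff.1 hy
    have c1 := comm_conj (g := g⁻¹) hyf
    have c2 := comm_conj (g := g⁻¹) hwy
    have c3 := comm_conj (g := g⁻¹) hwf
    rw [show g⁻¹ * (g * z * g⁻¹) * g⁻¹⁻¹ = z by group] at c1 c2
    have h := F.five_invol_z c1.symm (by rw [conj_order_eq, h5]) c2 c3
      (by rw [show g⁻¹ * w * g⁻¹⁻¹ * (g⁻¹ * w * g⁻¹⁻¹) = g⁻¹ * (w * w) * g⁻¹⁻¹ by group, hw]; group)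
      (fun h => hw1 (conj_eq_one_iff.1 h))
    exact h.trans (isConj_iff.2 ⟨g, by group⟩)
  by_contra hnot
  have hy2 : orderOf y = 2 := by
    rw [← CfsgLib.Invol.orderOf_eq_of_isConj hy]; exact orderOf_eq_prime (by rw [pow_two, F.P.S.z2]) F.P.S.z1
  obtain ⟨i, hi, hiy, hiw, him⟩ := CfsgLib.Invol.exists_common_involution hy2
    (orderOf_eq_prime (by rw [pow_two, hw]) hw1) fun h => hnot (hy.trans h)
  have hif : i * f = f * i := by
    obtain ⟨k, hk⟩ := mem_zpowers_iff.1 him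
    rw [← hk]
    exact (((show Commute y f from hyf).mul_left hwf).zpow_left k).eq
  have hi2 := orderOf_two'.1 hi
  have hiz := key hy hyf hiy.eq hif hi2.1 hi2.2
  exact hnot (key hiz hif hiw.eq.symm hwf hw hw1)

/-- The elements of order five of `C(V)` commute with no conjugate of `z`. -/
theorem five_CV_not_z {h y : G} (hh : h ∈ CV r s) (h5 : orderOf h = 5) (hy : IsConj z y) : y * h ≠ h * y := fun e =>
  F.not_conj_r (F.five_not_both h5 hy e F.r2 F.r_ne_one (mem_CV.1 hh).1.symm)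

/-- Conjugates of `z` centralizing an element of order five of `C(z)` are conjugate in its centralizer. -/
theorem five_transitive {f w : G} (hf : f * z = z * f) (h5 : orderOf f = 5) (hw : IsConj z w) (hwf : w * f = f * w) :
    ∃ c, c * f = f * c ∧ c * w * c⁻¹ = z := by
  obtain ⟨g, rfl⟩ := isConj_iff.1 hw
  have c1 := comm_conj (g := g⁻¹) hwf
  rw [show g⁻¹ * (g * z * g⁻¹) * g⁻¹⁻¹ = z by group] at c1
  obtain ⟨c, hc, e⟩ := F.P.S.five_conj (mem_centralizer_singleton_iff.2 hf) h5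
    (mem_centralizer_singleton_iff.2 c1.symm) (by rw [conj_order_eq, h5])
  refine ⟨c * g⁻¹, mul_inv_eq_iff_eq_mul.1 ?_, ?_⟩
  · calc c * g⁻¹ * f * (c * g⁻¹)⁻¹ = c * (g⁻¹ * f * g⁻¹⁻¹) * c⁻¹ := by group
      _ = f := e
  · calc c * g⁻¹ * (g * z * g⁻¹) * (c * g⁻¹)⁻¹ = c * z * c⁻¹ := by group
      _ = z := mul_inv_eq_iff_eq_mul.2 (mem_centralizer_singleton_iff.1 hc)

end Frm

end CfsgLib.SuzType
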