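import Mathlib
import Cfsg.Agent.Lib.SuzType.Form

/-!
Suzuki type: isometries of the six-dimensional space whose image is a totally singular line.
-/

set_option autoImplicit false
set_option linter.style.haveILetI false
set_option linter.unusedSimpArgs false

namespace CfsgLib.SuzType

open CfsgLib.Classical

/-- A nontrivial isometry all whose displacements are singular. -/
def LongI (h : qAut qm) : Prop := h ≠ 1 ∧ ∀ x, qm (h.1 x + x) = 0

/-- An axis. -/
def Axis (h : qAut qm) (s : V6) : Prop := Sing s ∧ InT s h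

theorem qAut_inv_apply (g : qAut qm) (x : V6) : g.1 ((g⁻¹).1 x) = x := by
  rw [← qAut_mul_apply, mul_inv_cancel]; rfl

theorem inT_one (s : V6) : InT s (1 : qAut qm) := ⟨rfl, fun x _ => .inl (add_self6 x)⟩

theorem inT_map {p : V6} {h : qAut qm} (g : qAut qm) (hh : InT p h) : InT (g.1 p) (g * h * g⁻¹) := by
  have hi : (g⁻¹).1 (g.1 p) = p := g.1.injective (qAut_inv_apply g _)
  refine ⟨by rw [qAut_mul_apply, qAut_mul_apply, hi, hh.1], fun x hx => ?_⟩
  obtain ⟨y, rfl⟩ : ∃ y, g.1 y = x := g.1.surjective x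
  have hy : (g⁻¹).1 (g.1 y) = y := g.1.injective (qAut_inv_apply g _)
  rw [pb_map] at hx
  rw [qAut_mul_apply, qAut_mul_apply, hy, ← map_add]
  rcases hh.2 y hx with e | e <;> rw [e]
  · exact .inl (map_zero _)
  · exact .inr rfl

theorem longI_conj {h : qAut qm} (g : qAut qm) (hh : LongI h) : LongI (g * h * g⁻¹) := by
  refine ⟨fun e => hh.1 (conj_eq_one_iff.1 e), fun x => ?_⟩
  obtain ⟨y, rfl⟩ : ∃ y, g.1 y = x := g.1.surjective x
  have hy : (g⁻¹).1 (g.1 y) = y := g.1.injective (qAut_inv_apply g _)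
  rw [qAut_mul_apply, qAut_mul_apply, hy, ← map_add, qAut_map g, hh.2]

theorem axis_map {h : qAut qm} {s : V6} (g : qAut qm) (hs : Axis h s) : Axis (g * h * g⁻¹) (g.1 s) :=
  ⟨⟨fun e => hs.1.1 (g.1.injective (e.trans (map_zero _).symm)), by rw [qAut_map g]; exact hs.1.2⟩,
    inT_map g hs.2⟩

theorem long_tv {h : qAut qm} {s : V6} (hh : LongI h) (hs : Axis h s) : SVec s (tv s h) :=
  ⟨hh.2 _, tv_perp hs.1 hs.2, fun e => hh.1 (inT_trivial hs.1 hs.2 e)⟩

theorem long_formula {h : qAut qm} {s : V6} (hh : LongI h) (hs : Axis h s) (x : V6) :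
    h.1 x + x = pb x s • tv s h + pb x (tv s h) • s := by
  have h0 : pb (pt s) (tv s h) = 0 := by
    have e : h.1 (pt s) = tv s h + pt s := by rw [tv, add_assoc, add_self6, add_zero]
    have := qAut_map h (pt s)
    rw [e, qm_add, (long_tv hh hs).1, zero_add, add_eq_left, pb_comm] at this
    exact this
  rw [inT_formula hs.1 hs.2 x, pb_comm s x, pb_add_left, pb_smul_left, h0, mul_zero, add_zero]

theorem long_apply {h : qAut qm} {s : V6} (hh : LongI h) (hs : Axis h s) (x : V6) :
    h.1 x = x + (pb x s • tv s h + pb x (tv s h) • s) := by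
  rw [← long_formula hh hs x, add_comm (h.1 x), add_cancel6]

theorem long_combo {s w : V6} (hw : ¬ Pm s w) (hs : s ≠ 0) {a b : ZMod 2} (h : a • w + b • s = 0) :
    a = 0 ∧ b = 0 := by
  rcases two_cases a with rfl | rfl <;> rcases two_cases b with rfl | rfl
  · exact ⟨rfl, rfl⟩
  · exact absurd (by simpa using h) hs
  · exact absurd (.inl (by simpa using h)) hw
  · exact absurd (.inr (CharTwo.add_eq_zero.1 (funext fun i => congrFun (by simpa using h) i))) hw

/-- A singular fixed vector is an axis. -/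
theorem long_fix {h : qAut qm} {s p : V6} (hh : LongI h) (hs : Axis h s) (hp : Sing p) (hfix : h.1 p = p) :
    Axis h p := by
  have hw := long_tv hh hs
  obtain ⟨e1, e2⟩ := long_combo hw.2.2 hs.1.1
    (show pb p s • tv s h + pb p (tv s h) • s = 0 by rw [← long_formula hh hs p, hfix, add_self6])
  refine ⟨hp, hfix, fun x hx => ?_⟩
  rw [long_formula hh hs x]
  rw [pb_comm p x] at hx
  rcases fact_7 hs.1 hw hp.2 (by rw [pb_comm, e1]) (by rw [pb_comm, e2]) with h' | h'
  · rcases h' with rfl | rfl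
    · exact absurd rfl hp.1
    · rw [hx, zero_smul, zero_add]
      rcases two_cases (pb x (tv p h)) with e | e <;> rw [e]
      · exact .inl (zero_smul _ _)
      · exact .inr (one_smul _ _)
  · rcases h' with e | e
    · have hpw : p = tv s h := CharTwo.add_eq_zero.1 (funext fun i => congrFun e i)
      rw [← hpw, hx, zero_smul, add_zero]
      rcases two_cases (pb x s) with e' | e' <;> rw [e']
      · exact .inl (zero_smul _ _)
      · exact .inr (one_smul _ _)
    · have hsum : pb x s = pb x (tv s h) := by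
        have h2 : p = tv s h + s := by
          funext i
          have := congrFun e i
          simp only [Pi.add_apply] at this ⊢
          revert this
          generalize p i = a, tv s h i = b, s i = c
          revert a b c
          decide
        rw [h2, pb_add_right] at hx
        exact (CharTwo.add_eq_zero.1 hx).symm
      rw [hsum, ← smul_add, add_comm, show s + tv s h = p by
        funext i
        have := congrFun e i
        simp only [Pi.add_apply] at this ⊢
        revert this
        generalize p i = a, tv s h i = b, s i = c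
        revert a b c
        decide]
      rcases two_cases (pb x (tv s h)) with e' | e' <;> rw [e']
      · exact .inl (zero_smul _ _)
      · exact .inr (one_smul _ _)

/-- Two axes. -/
theorem axis_fixed {h : qAut qm} {s s' : V6} (hh : LongI h) (hs : Axis h s) (hs' : Axis h s') :
    pb s' s = 0 ∧ pb s' (tv s h) = 0 :=
  long_combo (long_tv hh hs).2.2 hs.1.1 (by rw [← long_formula hh hs s', hs'.2.1, add_self6])

theorem axis_sum {h : qAut qm} {s s' : V6} (hh : LongI h) (hs : Axis h s) (hs' : Axis h s') (hne : s ≠ s') :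
    Axis h (s + s') := by
  refine long_fix hh hs ⟨fun e => hne (CharTwo.add_eq_zero.1 (funext fun i => congrFun e i)), ?_⟩ ?_
  · rw [qm_add, hs.1.2, hs'.1.2, pb_comm, (axis_fixed hh hs hs').1, add_zero, add_zero]
  · rw [map_add, hs.2.1, hs'.2.1]

/-- A commuting short element shares its point. -/
theorem long_comm_short {g h : qAut qm} {s p : V6} (hh : LongI h) (hs : Axis h s) (hp : Sing p) (hg : InT p g)
    (hw : qm (tv p g) = 1) (hc : g * h = h * g) : Axis h p := by
  refine long_fix hh hs hp ?_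
  obtain ⟨x, hx⟩ : ∃ x, g.1 x + x = p := by
    obtain ⟨y, hy, hy1⟩ : ∃ y, pb p y = 0 ∧ pb (tv p g) y ≠ 0 := by
      by_contra hne
      push Not at hne
      rcases fact_perp hp hne with e | e
      · rw [e, show qm (0 : V6) = 0 from QuadraticMap.map_zero _] at hw
        exact zero_ne_one hw
      · rw [e, hp.2] at hw
        exact zero_ne_one hw
    exact ⟨y, by rw [inT_apply hp hg hy, pb_comm, (two_cases _).resolve_left hy1, one_smul]⟩
  have e : g.1 (h.1 x) + h.1 x = h.1 p := by
    rw [← hx, map_add, ← qAut_mul_apply, hc, qAut_mul_apply]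
  rcases inT_sing_unique hp hg hw (x := h.1 x) (by rw [e, qAut_map h, hp.2]) with h' | h'
  · rw [e] at h'
    exact absurd (h.1.injective (h'.trans (map_zero _).symm)) hp.1
  · rw [← e]; exact h'

theorem short_not_long {g : qAut qm} {p : V6} (hw : qm (tv p g) = 1) : ¬ LongI g := fun h => by
  have := h.2 (pt p)
  rw [show g.1 (pt p) + pt p = tv p g from rfl, hw] at this
  exact one_ne_zero this

theorem conj_of_odd_pow {X : Type*} [Group X] {g h : X} (hh2 : h * h = 1) (hg2 : g * g = 1) {l : ℕ}
    (e : (h * g) ^ (2 * l + 1) = 1) : (h * g) ^ l * h * ((h * g) ^ l)⁻¹ = g := by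
  have hi : h⁻¹ = h := inv_eq_of_mul_eq_one_right hh2
  have gi : g⁻¹ = g := inv_eq_of_mul_eq_one_right hg2
  have h1 : h * (h * g) * h⁻¹ = (h * g)⁻¹ := by
    rw [mul_inv_rev, gi, hi, ← mul_assoc h, hh2, one_mul]
  have h2 : h * ((h * g) ^ l)⁻¹ = (h * g) ^ l * h := by
    rw [← inv_pow, ← h1, conj_pow, ← mul_assoc h, ← mul_assoc h, hh2, one_mul, hi]
  have h3 : (h * g) ^ (2 * l) = (h * g)⁻¹ := eq_inv_of_mul_eq_one_left (by rw [← pow_succ]; exact e)
  rw [mul_assoc, h2, ← mul_assoc, ← pow_add, ← two_mul, h3, mul_inv_rev, gi, hi, mul_assoc, hh2, mul_one]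

/-- An odd power of a product of two involutions is one only if they are conjugate. -/
theorem odd_pow_ne_one {g h : qAut qm} (hh2 : h * h = 1) (hg2 : g * g = 1) (hh : LongI h) (hg : ¬ LongI g)
    (l : ℕ) : (h * g) ^ (2 * l + 1) ≠ 1 := fun e =>
  hg (conj_of_odd_pow hh2 hg2 e ▸ longI_conj _ hh)

/-- The step of the product of two such isometries on coefficients. -/
def stepF (a b c d : ZMod 2) (e : (ZMod 2 × ZMod 2) × ZMod 2 × ZMod 2)
    (k : (ZMod 2 × ZMod 2) × ZMod 2 × ZMod 2) : (ZMod 2 × ZMod 2) × ZMod 2 × ZMod 2 :=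
  let es' := e.2.1 + k.1.1 * a + k.1.2 * c
  let ew' := e.2.2 + k.1.1 * b + k.1.2 * d
  let g' := k.2.1 + ew'
  let d' := k.2.2 + es'
  ((k.1.1 + (e.1.2 + g' * c + d' * d), k.1.2 + (e.1.1 + g' * a + d' * b)), g', d')

theorem step_cube : ∀ a b c d : ZMod 2, a * d + b * c = 1 → ∀ e : (ZMod 2 × ZMod 2) × ZMod 2 × ZMod 2,
    stepF a b c d e (stepF a b c d e (stepF a b c d e ((0, 0), 0, 0))) = ((0, 0), 0, 0) := by decide

theorem axis_pairing : ∀ a b c d : ZMod 2, ¬ (a = 0 ∧ b = 0) → ¬ (c = 0 ∧ d = 0) → ¬ (a = c ∧ b = d) →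
    a * d + b * c = 1 := by decide

/-- Two such isometries without common axis generate a dihedral group of order six. -/
theorem long_cube {h h' : qAut qm} {s s' : V6} (hh : LongI h) (hs : Axis h s) (hh' : LongI h') (hs' : Axis h' s')
    (hdis : ∀ x, Axis h x → ¬ Axis h' x) : (h * h') ^ 3 = 1 := by
  set w := tv s h with hw
  set w' := tv s' h' with hw'
  have S := long_tv hh hs
  have S' := long_tv hh' hs'
  have hss : pb s s = 0 := pb_self s
  have hww : pb w w = 0 := pb_self w
  have hsw : pb s w = 0 := tv_perp hs.1 hs.2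
  have hws : pb w s = 0 := by rw [pb_comm, hsw]
  have hss' : pb s' s' = 0 := pb_self s'
  have hww' : pb w' w' = 0 := pb_self w'
  have hsw' : pb s' w' = 0 := tv_perp hs'.1 hs'.2
  have hws' : pb w' s' = 0 := by rw [pb_comm, hsw']
  -- a singular vector perpendicular to both axes of `h'`
  have key : ∀ {v}, Axis h v → ¬ (pb v s' = 0 ∧ pb v w' = 0) := fun {v} hv ⟨e1, e2⟩ => by
    refine hdis v hv (long_fix hh' hs' hv.1 ?_)
    rw [long_apply hh' hs' v, e1, show pb v (tv s' h') = 0 from e2]
    simp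
  have hwA : Axis h w := by
    refine long_fix hh hs ⟨fun e => S.2.2 (.inl e), S.1⟩ ?_
    rw [long_apply hh hs, hws, hww]
    simp
  have hsum := axis_sum hh hs hwA (fun e => S.2.2 (.inr e.symm))
  have hk3 : ¬ (pb s s' = pb w s' ∧ pb s w' = pb w w') := fun ⟨e1, e2⟩ => key hsum ⟨by
    rw [pb_add_left, e1, CharTwo.add_self_eq_zero], by rw [pb_add_left, e2, CharTwo.add_self_eq_zero]⟩
  have hdet := axis_pairing _ _ _ _ (key hs) (key hwA) hk3
  refine qAut_ext fun x => ?_
  let comb : (ZMod 2 × ZMod 2) × ZMod 2 × ZMod 2 → V6 := fun k =>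
    x + k.1.1 • s + k.1.2 • w + k.2.1 • s' + k.2.2 • w'
  set e : (ZMod 2 × ZMod 2) × ZMod 2 × ZMod 2 := ((pb x s, pb x w), pb x s', pb x w') with he
  have hstep : ∀ k, (h * h').1 (comb k) = comb (stepF (pb s s') (pb s w') (pb w s') (pb w w') e k) := by
    intro k
    rw [qAut_mul_apply, long_apply hh' hs' (comb k), long_apply hh hs]
    simp only [comb, stepF, he, ← hw, ← hw', pb_add_left, pb_smul_left, pb_comm s' s, pb_comm w' s, pb_comm s' w,
      pb_comm w' w, hss, hww, hsw, hws, hss', hww', hsw', hws', mul_zero, add_zero, zero_add]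
    funext i
    simp only [Pi.add_apply, Pi.smul_apply, smul_eq_mul]
    ring
  have h0 : comb ((0, 0), 0, 0) = x := by simp [comb]
  show ((h * h') ^ 3).1 x = (1 : qAut qm).1 x
  rw [pow_succ, pow_two, qAut_mul_apply, qAut_mul_apply]
  conv_lhs => rw [← h0, hstep, hstep, hstep, step_cube _ _ _ _ hdet e, h0]
  rfl

end CfsgLib.SuzType
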