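import Mathlib
import Cfsg.Agent.Lib.SuzType.Local.LongElt
import Cfsg.Agent.Lib.SuzType.Local.Frm

/-!
Suzuki type: conjugates of `z` in `C(z)` outside `Q`, in coordinates at one of their axes.
-/

set_option autoImplicit false
set_option linter.style.haveILetI false
set_option linter.unusedSectionVars false
set_option linter.unusedSimpArgs false

namespace CfsgLib.SuzType

open Subgroup CfsgLib.Classical

variable {G : Type*} [Group G] [Finite G]

/-- A conjugate of `z` in `C(z)` outside `Q`. -/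
def ZOut (z : G) (Q : Subgroup G) (u : G) : Prop := IsConj z u ∧ u * z = z * u ∧ u ∉ Q

namespace Setup

variable {z : G} {Q : Subgroup G} {π : G → V6} {ρ : G → qAut qm} (S : Setup z Q π ρ)

include S

theorem rho_conj {c x : G} (hc : c ∈ centralizer ({z} : Set G)) (hx : x ∈ centralizer ({z} : Set G)) :
    ρ (c * x * c⁻¹) = ρ c * ρ x * (ρ c)⁻¹ := by
  rw [S.rho_mul (c * x) (mul_mem hc hx) c⁻¹ (inv_mem hc), S.rho_mul c hc x hx, S.rho_inv hc]

theorem zOut_conj {c u : G} (hc : c ∈ centralizer ({z} : Set G)) (hu : ZOut z Q u) : ZOut z Q (c * u * c⁻¹) := by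
  refine ⟨hu.1.trans (isConj_iff.2 ⟨c, rfl⟩), mem_centralizer_singleton_iff.1
    (mul_mem (mul_mem hc (mem_centralizer_singleton_iff.2 hu.2.1)) (inv_mem hc)), fun h => hu.2.2 ?_⟩
  have := S.conj_mem (inv_mem hc) h
  rwa [show c⁻¹ * (c * u * c⁻¹) * c⁻¹⁻¹ = u by group] at this

theorem zOut_sq {u : G} (hu : ZOut z Q u) : u * u = 1 := by
  obtain ⟨g, rfl⟩ := isConj_iff.1 hu.1
  rw [show g * z * g⁻¹ * (g * z * g⁻¹) = g * (z * z) * g⁻¹ by group, S.z2]; group

theorem zOut_rho {u : G} (hu : ZOut z Q u) :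
    u ∈ centralizer ({z} : Set G) ∧ ρ u * ρ u = 1 ∧ ρ u ≠ 1 ∧ ρ u ∈ Ev := by
  have hC : u ∈ centralizer ({z} : Set G) := mem_centralizer_singleton_iff.2 hu.2.1
  exact ⟨hC, by rw [← S.rho_mul u hC u hC, S.zOut_sq hu, S.rho_one], fun h => hu.2.2 ((S.rho_ker u hC).1 h),
    S.rho_mem hC⟩

end Setup

namespace Pair

variable {z t : G} {Q R : Subgroup G} {π π' : G → V6} {ρ ρ' : G → qAut qm}
  (P : Pair z t Q R π π' ρ ρ')

include P

theorem co_of_inT {x : G} (hx : x ∈ centralizer ({z} : Set G)) (hx2 : x * x = 1) (hin : InT (π t) (ρ x))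
    (hne : ρ x ≠ 1) : ∃ a b, Co z t Q R π ρ x a b := by
  obtain ⟨b, hb, hbz, hbw⟩ := P.w_surj (tv_perp P.p_sing hin)
  have hρb := inT_eq P.p_sing (P.inT hb hbz) hin hbw
  have hbC := (P.R_z hb hbz).1
  have ha : x * b⁻¹ ∈ Q := by
    refine (P.S.rho_ker _ (mul_mem hx (inv_mem hbC))).1 ?_
    rw [P.S.rho_mul _ hx _ (inv_mem hbC), P.S.rho_inv hbC, hρb, mul_inv_cancel]
  have hbQ : b ∉ Q := fun h => hne (by
    have := (P.S.rho_ker _ hx).2 (show x ∈ Q by simpa using mul_mem ha h)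
    exact this)
  refine ⟨π (x * b⁻¹), tv (π t) (ρ b), x * b⁻¹, b, ha, ?_, hb, hbz, by group, pm_self _, pm_self _⟩
  refine mem_centralizer_singleton_iff.1 ((P.mem_A ha).2 ?_)
  set a := x * b⁻¹ with hadef
  have hab : a * (b * a * b⁻¹) = (b * b)⁻¹ := by
    rw [eq_inv_iff_mul_eq_one, hadef]
    calc x * b⁻¹ * (b * (x * b⁻¹) * b⁻¹) * (b * b) = x * x := by group
      _ = 1 := hx2
  have hpi : Pm (π t) ((ρ b).1 (π a) + π a) := by
    rw [add_comm, ← P.S.rho_pi b hbC a ha, ← P.S.pi_mul a ha _ (P.S.conj_mem hbC ha), hab, P.S'.sq b hb]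
    rcases two_cases (qm (π' b)) with e | e <;> rw [e]
    · rw [zb_zero, inv_one]; exact .inl P.S.pi_one
    · rw [zb_one, P.S.pi_inv P.tQ]; exact .inr rfl
  by_contra hp
  have hp1 := (two_cases _).resolve_left hp
  rw [inT_formula P.p_sing (P.inT hb hbz), hp1, one_smul] at hpi
  refine hbQ ((P.w_pm_iff hb hbz).1 ?_)
  have h3 := hpi.add (show Pm (π t) (pb (π a + (1 : ZMod 2) • pt (π t)) (tv (π t) (ρ b)) • π t) by
    rcases two_cases (pb (π a + (1 : ZMod 2) • pt (π t)) (tv (π t) (ρ b))) with e | e <;> rw [e]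
    · exact .inl (zero_smul _ _)
    · exact .inr (one_smul _ _))
  rwa [one_smul, add_assoc, add_self6, add_zero] at h3

end Pair

namespace Config

variable {z t : G} {Q R : Subgroup G} {π π' : G → V6} {ρ ρ' : G → qAut qm}
  (C : Config z t Q R π π' ρ ρ')

include C

/-- Coordinates at `t`. -/
theorem z_coords {u : G} (hu : ZOut z Q u) (hin : InT (π t) (ρ u)) :
    ∃ (γ : ZMod 2) (y : V6), SVec (π t) y ∧ Co z t Q R π ρ u (γ • y) y := by
  obtain ⟨hC, -, h1, -⟩ := C.P.S.zOut_rho hu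
  obtain ⟨x, y, h⟩ := C.P.co_of_inT hC (C.P.S.zOut_sq hu) hin h1
  obtain ⟨hpx, hpy⟩ := C.P.co_perp h
  have hy0 : qm y = 0 := (two_cases _).resolve_right fun e =>
    C.not_conj (C.P.co_typeOne h (C.P.S.zOut_sq hu) e) hu.1
  have hy : SVec (π t) y := by
    refine ⟨hy0, hpy, fun e => h1 (inT_trivial C.P.p_sing hin ?_)⟩
    have := (C.P.co_rho h).2.add e
    rwa [add_assoc, add_self6, add_zero] at this
  have e := C.P.co_sq h
  rw [C.P.S.zOut_sq hu, hy0, zero_add] at e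
  obtain ⟨e1, e2⟩ := C.P.zeta_eq_one e.symm
  rw [e2, add_zero] at e1
  rcases fact_7 C.P.p_sing hy e1 hpx (by rw [pb_comm, e2]) with h' | h'
  · exact ⟨0, y, hy, C.P.co_congr h (by rw [zero_smul, add_zero]; exact h') (pm_self _)⟩
  · exact ⟨1, y, hy, C.P.co_congr h (by rw [one_smul]; exact h') (pm_self _)⟩

theorem long_of_inT {u : G} (hu : ZOut z Q u) (hin : InT (π t) (ρ u)) : LongI (ρ u) := by
  obtain ⟨γ, y, hy, h⟩ := C.z_coords hu hin
  obtain ⟨hC, -, h1, -⟩ := C.P.S.zOut_rho hu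
  refine ⟨h1, fun x => ?_⟩
  rw [inT_range_quad C.P.p_sing hin, pm_quad C.P.p_sing (C.P.co_rho h).2 hy.2.1, hy.1, mul_zero]

/-- A lift moving `π t` to a given singular vector. -/
theorem exists_to {s : V6} (hs : Sing s) : ∃ c ∈ centralizer ({z} : Set G), (ρ c).1 (π t) = s := by
  obtain ⟨g, hg, gp⟩ := ev_sing C.P.p_sing hs
  obtain ⟨c, hc, rfl⟩ := (C.P.S.rho_range g).1 hg
  exact ⟨c, hc, gp⟩

/-- A conjugation taking an axis to `π t`. -/
theorem to_axis {c u : G} (hc : c ∈ centralizer ({z} : Set G)) (hu : ZOut z Q u) {s : V6}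
    (hcs : (ρ c).1 (π t) = s) : InT s (ρ u) ↔ InT (π t) (ρ (c⁻¹ * u * c)) := by
  obtain ⟨hC, -, -, -⟩ := C.P.S.zOut_rho hu
  have e : ρ (c⁻¹ * u * c) = (ρ c)⁻¹ * ρ u * (ρ c) := by
    have := C.P.S.rho_conj (inv_mem hc) hC
    rwa [inv_inv, C.P.S.rho_inv hc, inv_inv] at this
  constructor
  · intro h
    have h' := inT_map (ρ c)⁻¹ h
    rw [inv_inv, ← e] at h'
    rwa [show ((ρ c)⁻¹).1 s = π t from (ρ c).1.injective ((qAut_inv_apply _ _).trans hcs.symm)] at h'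
  · intro h
    have h' := inT_map (ρ c) h
    rw [hcs, e] at h'
    rwa [show ρ c * ((ρ c)⁻¹ * ρ u * ρ c) * (ρ c)⁻¹ = ρ u by group] at h'

/-- The image of a conjugate of `z` outside `Q` is long. -/
theorem long_of_zOut {u : G} (hu : ZOut z Q u) : LongI (ρ u) ∧ ∃ s, Axis (ρ u) s := by
  obtain ⟨hC, h2, h1, hEv⟩ := C.P.S.zOut_rho hu
  obtain ⟨s, hs, hin⟩ := exists_inT_of_invol hEv (fun x => by rw [← qAut_mul_apply, h2]; rfl) h1
  obtain ⟨c, hc, hcs⟩ := C.exists_to hs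
  have hu' := C.P.S.zOut_conj (inv_mem hc) hu
  rw [inv_inv] at hu'
  have hl := C.long_of_inT hu' ((C.to_axis hc hu hcs).1 hin)
  have := longI_conj (ρ c) hl
  rw [← C.P.S.rho_conj hc (mem_centralizer_singleton_iff.2 hu'.2.1),
    show c * (c⁻¹ * u * c) * c⁻¹ = u by group] at this
  exact ⟨this, s, hs, hin⟩

end Config

end CfsgLib.SuzType
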