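import Mathlib
import Cfsg.Agent.Lib.SuzType.Local.LongCoords
import Cfsg.Agent.Lib.SuzType.Local.CentR

/-!
Suzuki type: when is `z` a power of the product of a conjugate of `z` and the fixed involution `r`.
-/

set_option autoImplicit false
set_option linter.style.haveILetI false
set_option linter.unusedSectionVars false
set_option linter.unusedSimpArgs false

namespace CfsgLib.SuzType

open Subgroup CfsgLib.Classical

variable {G : Type*} [Group G] [Finite G]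

theorem zpowers_pair_conj (c z u r : G) (hc : c * z = z * c) :
    z ∈ zpowers (u * r) ↔ z ∈ zpowers (c⁻¹ * u * c * (c⁻¹ * r * c)) := by
  rw [mem_zpowers_iff, mem_zpowers_iff]
  have e : ∀ k : ℤ, (c⁻¹ * u * c * (c⁻¹ * r * c)) ^ k = c⁻¹ * (u * r) ^ k * c := fun k => by
    rw [show c⁻¹ * u * c * (c⁻¹ * r * c) = c⁻¹ * (u * r) * c⁻¹⁻¹ by group, conj_zpow, inv_inv]
  refine exists_congr fun k => ?_
  rw [e]
  constructor
  · intro h; rw [h, mul_assoc, ← hc, inv_mul_cancel_left]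
  · intro h
    calc (u * r) ^ k = c * (c⁻¹ * (u * r) ^ k * c) * c⁻¹ := by group
      _ = z := by rw [h, hc, mul_inv_cancel_right]

theorem pow_of_sq {x : G} (h : x * x = 1) (i : ℕ) : x ^ i = 1 ∨ x ^ i = x := by
  induction i with
  | zero => exact .inl (pow_zero x)
  | succ i ih =>
    rcases ih with e | e
    · exact .inr (by rw [pow_succ, e, one_mul])
    · exact .inl (by rw [pow_succ, e, h])

theorem long_eps : ∀ γ a b : ZMod 2, γ * a + (γ * b + a) = 0 → b + (γ * b + a) = 0 → a = 0 ∧ b = 0 := by decide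

theorem comm_eps : ∀ γ : ZMod 2, ¬ (γ * (γ * 1) + (γ * 1 + γ * 1) = 1 ∧ (1 : ZMod 2) + (γ * 1 + γ * 1) = 0) := by decide

theorem anti_eps : ∀ γ : ZMod 2, (γ + 1) * (γ * 1) + (γ * 1 + (γ + 1) * 1) = 1 ∧
    (1 : ZMod 2) + (γ * 1 + (γ + 1) * 1) = 0 := by decide

theorem svec_smul_inj {p y : V6} (hy : SVec p y) {γ δ : ZMod 2} (h : Pm p (γ • y + δ • y)) : γ = δ := by
  rw [← add_smul] at h
  by_contra hne
  rw [(two_cases (γ + δ)).resolve_left (fun e => hne (CharTwo.add_eq_zero.1 e)), one_smul] at h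
  exact hy.2.2 h

namespace Pair

variable {z t : G} {Q R : Subgroup G} {π π' : G → V6} {ρ ρ' : G → qAut qm}
  (P : Pair z t Q R π π' ρ ρ')

include P

theorem pow_zeta_eq_z {i j : ZMod 2} : (∃ k : ℕ, zeta z t i j ^ k = z) ↔ i = 1 ∧ j = 0 := by
  have hz : z = zeta z t 1 0 := by simp [zeta, zb_zero, zb_one]
  constructor
  · rintro ⟨k, hk⟩
    have hsq : zeta z t i j * zeta z t i j = 1 := by
      rw [P.zeta_mul, CharTwo.add_self_eq_zero, CharTwo.add_self_eq_zero, zeta_zero]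
    rcases pow_of_sq hsq k with e | e
    · exact absurd (e.symm.trans hk).symm P.S.z1
    · have h := e.symm.trans hk
      have h2 : zeta z t (i + 1) j = 1 := by
        rw [← add_zero j, ← P.zeta_mul i j 1 0, ← hz, h, P.S.z2]
      obtain ⟨h3, h4⟩ := P.zeta_eq_one h2
      exact ⟨CharTwo.add_eq_zero.1 h3, h4⟩
  · rintro ⟨rfl, rfl⟩
    exact ⟨1, by rw [pow_one, ← hz]⟩

theorem co_pair {u u' : G} {x y x' y' : V6} (h : Co z t Q R π ρ u x y) (h' : Co z t Q R π ρ u' x' y')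
    (h2 : u * u = 1) (h2' : u' * u' = 1) :
    u * u' * (u * u') = zeta z t (pb x x' + (pb x y' + pb x' y)) (pb y y' + (pb x y' + pb x' y)) := by
  nth_rewrite 1 [P.co_comm h h']
  calc _ * (u' * u) * (u * u') = zeta z t (pb x x' + (pb x y' + pb x' y)) (pb y y' + (pb x y' + pb x' y)) *
      (u' * (u * u) * u') := by group
    _ = _ := by rw [h2, mul_one, h2', mul_one]

end Pair

namespace Config

variable {z t : G} {Q R : Subgroup G} {π π' : G → V6} {ρ ρ' : G → qAut qm}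
  (C : Config z t Q R π π' ρ ρ')

include C

/-- Only even powers matter. -/
theorem good_iff {u r : G} (hu : u ∈ centralizer ({z} : Set G)) (hr : r ∈ centralizer ({z} : Set G))
    (hu2 : u * u = 1) (hr2 : r * r = 1) (hl : LongI (ρ u) ∨ ρ u = 1) (hg : ¬ LongI (ρ r)) (hg1 : ρ r ≠ 1) :
    z ∈ zpowers (u * r) ↔ ∃ k : ℕ, (u * (r * u * r)) ^ k = z := by
  have hy : u * r * (u * r) = u * (r * u * r) := by group
  constructor
  · intro h
    obtain ⟨i, hi⟩ := mem_powers_iff_mem_zpowers.2 h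
    dsimp only at hi
    rcases Nat.even_or_odd' i with ⟨k, rfl | rfl⟩
    · exact ⟨k, by rw [← hy, ← pow_two, ← pow_mul, hi]⟩
    · exfalso
      have e := congrArg ρ hi
      rw [rho_pow C.P.S (mul_mem hu hr), C.P.S.rho_mul u hu r hr, C.P.S.rho_Q C.P.S.zQ] at e
      have hg2 : ρ r * ρ r = 1 := by rw [← C.P.S.rho_mul r hr r hr, hr2, C.P.S.rho_one]
      rcases hl with hl | hl
      · exact odd_pow_ne_one (by rw [← C.P.S.rho_mul u hu u hu, hu2, C.P.S.rho_one]) hg2 hl hg k e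
      · rw [hl, one_mul, pow_succ, pow_mul, pow_two, hg2, one_pow, one_mul] at e
        exact hg1 e
  · rintro ⟨k, hk⟩
    rw [← hk, ← hy]
    exact pow_mem (mul_mem (mem_zpowers _) (mem_zpowers _)) k

/-- Two conjugates of `z` at one axis. -/
theorem pair_axis {u r : G} (hu : ZOut z Q u) (hin : InT (π t) (ρ u)) (hr : r ∈ centralizer ({z} : Set G))
    (hr2 : r * r = 1) (hfix : (ρ r).1 (π t) = π t) (hne : ρ r * ρ u ≠ ρ u * ρ r) :
    (∃ k : ℕ, (u * (r * u * r)) ^ k = z) ↔ r * t * r⁻¹ ≠ t := by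
  have S := C.P.S
  obtain ⟨hC, hh2, -, -⟩ := S.zOut_rho hu
  have hri : r⁻¹ = r := inv_eq_of_mul_eq_one_right hr2
  set u' := r * u * r with hu'
  have hu'Z : ZOut z Q u' := by
    have := S.zOut_conj hr hu
    rwa [hri] at this
  have hρ' : ρ u' = ρ r * ρ u * (ρ r)⁻¹ := by
    rw [hu', show r * u * r = r * u * r⁻¹ by rw [hri], S.rho_conj hr hC]
  have hin' : InT (π t) (ρ u') := by
    have := inT_map (ρ r) hin
    rwa [hfix, ← hρ'] at this
  obtain ⟨γ, y, hy, h⟩ := C.z_coords hu hin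
  obtain ⟨δ, y', hy', h'⟩ := C.z_coords hu'Z hin'
  have hnp : ¬ Pm (π t) (y' + y) := fun e => hne (by
    have := inT_eq C.P.p_sing hin' hin (pm_trans (pm_trans (C.P.co_rho h').2 e) (pm_symm (C.P.co_rho h).2))
    rw [hρ', mul_inv_eq_iff_eq_mul] at this
    exact this)
  have hyy : pb y y' = 1 := (two_cases _).resolve_left fun e => by
    rcases fact_7 C.P.p_sing hy hy'.1 hy'.2.1 e with h0 | h0
    · exact hy'.2.2 h0
    · exact hnp h0
  have hyy' : pb y' y = 1 := by rw [pb_comm, hyy]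
  have hsq := C.P.co_pair h h' (S.zOut_sq hu) (S.zOut_sq hu'Z)
  simp only [pb_smul_left, pb_smul_right, hyy, hyy'] at hsq
  have hkey : (∃ k : ℕ, (u * u') ^ k = z) ↔
      δ * (γ * 1) + (γ * 1 + δ * 1) = 1 ∧ (1 : ZMod 2) + (γ * 1 + δ * 1) = 0 := by
    rw [← C.P.pow_zeta_eq_z, ← hsq]
    constructor
    · rintro ⟨k, hk⟩
      rcases Nat.even_or_odd' k with ⟨i, rfl | rfl⟩
      · exact ⟨i, by rw [← pow_two, ← pow_mul, hk]⟩
      · exfalso
        have e := congrArg ρ hk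
        have hC' := (S.zOut_rho hu'Z).1
        have h2 : ρ (u * u') ^ 2 = 1 := by
          rw [← rho_pow S (mul_mem hC hC'), pow_two, hsq, S.rho_Q (C.P.zeta_mem _ _).1]
        rw [rho_pow S (mul_mem hC hC'), S.rho_Q S.zQ, pow_succ, pow_mul, h2, one_pow, one_mul,
          S.rho_mul u hC u' hC'] at e
        have e' : ρ u' = ρ u := mul_left_cancel (e.trans hh2.symm)
        rw [hρ', mul_inv_eq_iff_eq_mul] at e'
        exact hne e'
    · rintro ⟨i, hi⟩
      exact ⟨2 * i, by rw [pow_mul, pow_two, hi]⟩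
  rw [hkey]
  have hgy : pb (π t) ((ρ r).1 y) = 0 := perp_map hfix hy.2.1
  rcases (show r * t * r⁻¹ = t ∨ r * t * r⁻¹ = z * t from
    S.pi_eq C.P.tQ (S.conj_mem hr C.P.tQ) (by rw [S.rho_pi r hr t C.P.tQ, hfix])) with e | e
  · -- commuting
    have hrt : r ∈ centralizer ({t} : Set G) := mem_centralizer_singleton_iff.2 (mul_inv_eq_iff_eq_mul.1 e)
    have hc := C.P.co_conj hr hrt h
    rw [hri] at hc
    obtain ⟨e1, e2⟩ := C.P.co_unique hc h'
    rw [map_smul] at e1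
    have : γ = δ := svec_smul_inj hy' (by
      rcases two_cases γ with rfl | rfl
      · rw [zero_smul] at e1 ⊢; exact e1
      · rw [one_smul] at e1 ⊢; exact pm_trans (pm_symm e2) e1)
    subst this
    exact iff_of_false (comm_eps γ) (fun h0 => h0 e)
  · -- swapped
    obtain ⟨q, hq, hq1, hqt⟩ := C.P.exists_swap
    have hqC : q ∈ centralizer ({z} : Set G) := S.le hq
    have hdt : q * r ∈ centralizer ({t} : Set G) := mem_centralizer_singleton_iff.2 (mul_inv_eq_iff_eq_mul.1 (by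
      calc q * r * t * (q * r)⁻¹ = q * (r * t * r⁻¹) * q⁻¹ := by group
        _ = q * z * q⁻¹ * (q * t * q⁻¹) := by rw [e]; group
        _ = t := by rw [hqt, S.z_comm hq, mul_inv_cancel_right, ← mul_assoc, S.z2, one_mul]))
    have hρd : ρ (q * r) = ρ r := by rw [S.rho_mul q hqC r hr, S.rho_Q hq, one_mul]
    have hc := C.P.co_swap (q := q⁻¹) (inv_mem hq) (by rw [S.pi_inv hq]; exact hq1)
      (C.P.co_conj (mul_mem hqC hr) hdt h)
    rw [hρd, show q⁻¹ * (q * r * u * (q * r)⁻¹) * q⁻¹⁻¹ = r * u * r⁻¹ by group, hri] at hc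
    obtain ⟨e1, e2⟩ := C.P.co_unique hc h'
    rw [map_smul] at e1
    have : γ + 1 = δ := svec_smul_inj hy' (by
      rcases two_cases γ with rfl | rfl
      · rw [zero_smul, zero_add] at e1
        rw [zero_add, one_smul]
        exact pm_trans (pm_symm e2) e1
      · rw [one_smul, add_self6, zero_add] at e1
        rw [show (1 : ZMod 2) + 1 = 0 by decide, zero_smul, zero_add]
        exact e1)
    subst this
    exact iff_of_true (anti_eps γ) (fun h0 => S.z1 (mul_eq_right.1 (e.symm.trans h0)))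

/-- The same at any axis fixed by `r`. -/
theorem good_axis {u r T : G} (hu : ZOut z Q u) (hr : r ∈ centralizer ({z} : Set G)) (hr2 : r * r = 1)
    {s : V6} (hs : Axis (ρ u) s) (hfix : (ρ r).1 s = s) (hne : ρ r * ρ u ≠ ρ u * ρ r) (hg : ¬ LongI (ρ r))
    (hT : T ∈ Q) (hTs : π T = s) : z ∈ zpowers (u * r) ↔ r * T * r⁻¹ ≠ T := by
  have S := C.P.S
  obtain ⟨c, hc, hcs⟩ := C.exists_to hs.1
  have hcz := mem_centralizer_singleton_iff.1 hc
  have hu' : ZOut z Q (c⁻¹ * u * c) := by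
    have := S.zOut_conj (inv_mem hc) hu
    rwa [inv_inv] at this
  have hin := (C.to_axis hc hu hcs).1 hs.2
  have hr' : c⁻¹ * r * c ∈ centralizer ({z} : Set G) := mul_mem (mul_mem (inv_mem hc) hr) hc
  have hr2' : c⁻¹ * r * c * (c⁻¹ * r * c) = 1 := by
    rw [show c⁻¹ * r * c * (c⁻¹ * r * c) = c⁻¹ * (r * r) * c by group, hr2, mul_one, inv_mul_cancel]
  have er : ρ (c⁻¹ * r * c) = (ρ c)⁻¹ * ρ r * ρ c := by
    have := S.rho_conj (inv_mem hc) hr
    rwa [inv_inv, S.rho_inv hc, inv_inv] at this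
  have eu : ρ (c⁻¹ * u * c) = (ρ c)⁻¹ * ρ u * ρ c := by
    have := S.rho_conj (inv_mem hc) (mem_centralizer_singleton_iff.2 hu.2.1)
    rwa [inv_inv, S.rho_inv hc, inv_inv] at this
  have hfix' : (ρ (c⁻¹ * r * c)).1 (π t) = π t := by
    rw [er, qAut_mul_apply, qAut_mul_apply, hcs, hfix]
    exact (ρ c).1.injective ((qAut_inv_apply _ _).trans hcs.symm)
  have hg1 : ρ r ≠ 1 := fun e => hne (by rw [e, one_mul, mul_one])
  rw [zpowers_pair_conj c z u r hcz, C.good_iff (mem_centralizer_singleton_iff.2 hu'.2.1) hr' (S.zOut_sq hu') hr2'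
      (.inl (C.long_of_inT hu' hin))
      (fun h => hg (by
        have := longI_conj (ρ c) h
        rwa [er, show ρ c * ((ρ c)⁻¹ * ρ r * ρ c) * (ρ c)⁻¹ = ρ r by group] at this))
      (fun h => hg1 (by rw [er] at h; simpa [mul_assoc] using congrArg (fun x => ρ c * x * (ρ c)⁻¹) h)),
    C.pair_axis hu' hin hr' hr2' hfix' (fun h => hne (by
      rw [er, eu] at h
      calc ρ r * ρ u = ρ c * ((ρ c)⁻¹ * ρ r * ρ c * ((ρ c)⁻¹ * ρ u * ρ c)) * (ρ c)⁻¹ := by group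
        _ = ρ u * ρ r := by rw [h]; group))]
  have hiff : ∀ {X : G}, c⁻¹ * r * c * (c⁻¹ * X * c) * (c⁻¹ * r * c)⁻¹ = c⁻¹ * X * c ↔ r * X * r⁻¹ = X := by
    intro X
    rw [show c⁻¹ * r * c * (c⁻¹ * X * c) * (c⁻¹ * r * c)⁻¹ = c⁻¹ * (r * X * r⁻¹) * c by group, mul_left_inj,
      mul_right_inj]
  rw [ne_eq, ne_eq, show t = c⁻¹ * (c * t * c⁻¹) * c by group, hiff]
  rcases S.pi_eq hT (S.conj_mem hc C.P.tQ) (by rw [S.rho_pi c hc t C.P.tQ, hcs, hTs]) with e | e
  · rw [e]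
  · rw [e, show r * (z * T) * r⁻¹ = r * z * r⁻¹ * (r * T * r⁻¹) by group, mem_centralizer_singleton_iff.1 hr,
      mul_inv_cancel_right, mul_right_inj]

end Config

namespace Frm

variable {z t : G} {Q R : Subgroup G} {π π' : G → V6} {ρ ρ' : G → qAut qm} {r s ω au bu av bv : G}
  {m n u v : V6} (F : Frm z t Q R π π' ρ ρ' r s ω au bu av bv m n u v)

include F

theorem r_short : InT (π t) (ρ r) ∧ qm (tv (π t) (ρ r)) = 1 ∧ ¬ LongI (ρ r) ∧ ρ r ≠ 1 ∧
    r ∈ centralizer ({z} : Set G) := by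
  obtain ⟨h1, h2⟩ := F.P.co_rho F.cr
  have hq : qm (tv (π t) (ρ r)) = 1 := (pm_quad F.P.p_sing h2 F.B.pn).trans F.B.n1
  refine ⟨h1, hq, short_not_long hq, fun e => ?_, mem_centralizer_singleton_iff.2 F.r_co.1⟩
  rw [e, tv_one, show qm (0 : V6) = 0 from QuadraticMap.map_zero _] at hq
  exact zero_ne_one hq

/-- An element with coordinates. -/
theorem good_co {w : G} {x y : V6} (h : Co z t Q R π ρ w x y) (hw : w * w = 1) (hl : LongI (ρ w) ∨ ρ w = 1) :
    z ∈ zpowers (w * r) ↔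
      pb x m + (pb x n + pb m y) = 1 ∧ pb y n + (pb x n + pb m y) = 0 := by
  obtain ⟨-, -, hg, hg1, hr⟩ := F.r_short
  rw [F.C.good_iff (mem_centralizer_singleton_iff.2 (F.P.co_comm_zt h).1) hr hw F.r2 hl hg hg1,
    show w * (r * w * r) = w * r * (w * r) by group, F.P.co_pair h F.cr hw F.r2, F.P.pow_zeta_eq_z]

/-- Outside `p⊥` in `Q`. -/
theorem good_Q_out {w : G} (hw : w ∈ Q) (hw2 : w * w = 1) (hp : pb (π t) (π w) = 1) : z ∈ zpowers (w * r) := by
  obtain ⟨hin, hq, hg, hg1, hr⟩ := F.r_short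
  have hri : r⁻¹ = r := inv_eq_of_mul_eq_one_right F.r2
  rw [F.C.good_iff (F.P.S.le hw) hr hw2 F.r2 (.inr (F.P.S.rho_Q hw)) hg hg1]
  refine ⟨2, ?_⟩
  have hc : r * w * r ∈ Q := by
    have := F.P.S.conj_mem hr hw
    rwa [hri] at this
  have hπ : π (r * w * r) = (ρ r).1 (π w) := by rw [← F.P.S.rho_pi r hr w hw, hri]
  rw [pow_two, F.P.S.sq _ (mul_mem hw hc), F.P.S.pi_mul w hw _ hc, hπ, add_comm, inT_range_quad F.P.p_sing hin,
    hp, hq, one_mul, zb_one]

/-- No axis fixed by `r`. -/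
theorem good_skew {w : G} (hw : ZOut z Q w) (hno : ∀ a, Axis (ρ w) a → (ρ r).1 a ≠ a) :
    z ∈ zpowers (w * r) := by
  obtain ⟨hin, hq, hg, hg1, hr⟩ := F.r_short
  have S := F.P.S
  obtain ⟨hC, hh2, -, -⟩ := S.zOut_rho hw
  obtain ⟨hl, a, ha⟩ := F.C.long_of_zOut hw
  have hr2 := F.r2
  have hri : r⁻¹ = r := inv_eq_of_mul_eq_one_right hr2
  set g := ρ r with hgdef
  have hg2 : g * g = 1 := by rw [hgdef, ← S.rho_mul r hr r hr, hr2, S.rho_one]
  set w' := r * w * r with hw'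
  have hw'Z : ZOut z Q w' := by
    have := S.zOut_conj hr hw
    rwa [hri] at this
  have hρ' : ρ w' = g * ρ w * g⁻¹ := by rw [hw', show r * w * r = r * w * r⁻¹ by rw [hri], S.rho_conj hr hC]
  have hgg : ∀ x, g.1 (g.1 x) = x := fun x => by rw [← qAut_mul_apply, hg2]; rfl
  have hdis : ∀ x, Axis (ρ w) x → ¬ Axis (ρ w') x := by
    intro x hx hx'
    have hgx : Axis (ρ w) (g.1 x) := by
      have := axis_map g hx'
      rwa [hρ', show g * (g * ρ w * g⁻¹) * g⁻¹ = g * g * ρ w * (g * g)⁻¹ by group, hg2, one_mul, inv_one,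
        mul_one] at this
    refine hno (x + g.1 x) (axis_sum hl hx hgx (fun e => hno x hx e.symm)) ?_
    rw [map_add, hgg, add_comm]
  obtain ⟨hC', hh2', -, -⟩ := S.zOut_rho hw'Z
  have hl' : LongI (ρ w') := hρ' ▸ longI_conj g hl
  have hcube := long_cube hl ha hl' (hρ' ▸ axis_map g ha) hdis
  set y := w * r with hy
  have hy2 : y * y = w * w' := by rw [hy, hw']; group
  set q := y ^ 6 with hqdef
  have hyC : y ∈ centralizer ({z} : Set G) := mul_mem hC hr
  have hq2 : q = (w * w') ^ 3 := by rw [hqdef, ← hy2, ← pow_two, ← pow_mul]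
  have hqQ : q ∈ Q := by
    rw [hq2]
    refine (S.rho_ker _ (pow_mem (mul_mem hC hC') 3)).1 ?_
    rw [rho_pow S (mul_mem hC hC'), S.rho_mul w hC w' hC', hcube]
  have hinv : ∀ {d : G}, d * y * d⁻¹ = y⁻¹ → d * q * d⁻¹ = q⁻¹ := fun {d} hd => by
    rw [hqdef, ← conj_pow, hd, inv_pow]
  have hwy : w * y * w⁻¹ = y⁻¹ := by
    rw [hy, inv_eq_of_mul_eq_one_right (S.zOut_sq hw), mul_inv_rev, hri,
      inv_eq_of_mul_eq_one_right (S.zOut_sq hw), ← mul_assoc w, S.zOut_sq hw, one_mul]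
  have hry : r * y * r⁻¹ = y⁻¹ := by
    rw [hy, mul_inv_rev, hri, inv_eq_of_mul_eq_one_right (S.zOut_sq hw), mul_assoc r, mul_assoc w, hr2, mul_one]
  have hfix1 : (ρ w).1 (π q) = π q := by rw [← S.rho_pi w hC q hqQ, hinv hwy, S.pi_inv hqQ]
  have hfix2 : (ρ w').1 (π q) = π q := by
    rw [hρ', qAut_mul_apply, qAut_mul_apply]
    have h1 : (ρ r).1 (π q) = π q := by rw [← S.rho_pi r hr q hqQ, hinv hry, S.pi_inv hqQ]
    rw [show (g⁻¹).1 (π q) = π q from qAut_fix_inv h1, hfix1, h1]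
  rcases two_cases (qm (π q)) with e0 | e1
  swap
  · refine mem_zpowers_iff.2 ⟨(12 : ℕ), ?_⟩
    rw [zpow_natCast, show (12 : ℕ) = 6 * 2 from rfl, pow_mul, ← hqdef, pow_two, S.sq q hqQ, e1, zb_one]
  have hπ0 : π q = 0 := by
    by_contra hne
    exact hdis (π q) (long_fix hl ha ⟨hne, e0⟩ hfix1) (long_fix hl' (hρ' ▸ axis_map g ha) ⟨hne, e0⟩ hfix2)
  rcases (S.pi_ker q hqQ).1 hπ0 with h1 | hz
  swap
  · show z ∈ zpowers y
    rw [← hz, hqdef]; exact pow_mem (mem_zpowers y) 6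
  exfalso
  -- the central involution
  set w₁ := y * w * y⁻¹ with hw₁
  have hw₁Z : ZOut z Q w₁ := S.zOut_conj hyC hw
  have hc : y ^ 3 = w₁ * r := by
    rw [hw₁, hy, mul_inv_rev, hri, inv_eq_of_mul_eq_one_right (S.zOut_sq hw), pow_succ, pow_two]
    group
  have h3 : y ^ 3 * y ^ 3 = 1 := by rw [← pow_add, ← h1, hqdef]
  have hi3 : (y ^ 3)⁻¹ = y ^ 3 := inv_eq_of_mul_eq_one_right h3
  have hrc : r * y ^ 3 = y ^ 3 * r :=
    mul_inv_eq_iff_eq_mul.1 (by rw [← conj_pow, hry, inv_pow, hi3])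
  have hwc : w * y ^ 3 = y ^ 3 * w :=
    mul_inv_eq_iff_eq_mul.1 (by rw [← conj_pow, hwy, inv_pow, hi3])
  have hw₁r : w₁ * r = r * w₁ := by
    have : r * (w₁ * r) = w₁ * r * r := by rw [← hc, hrc]
    exact (mul_right_cancel ((mul_assoc r w₁ r).trans this)).symm
  obtain ⟨hC₁, -, -, -⟩ := S.zOut_rho hw₁Z
  have hl₁ := F.C.long_of_zOut hw₁Z
  obtain ⟨hl₁, a₁, ha₁⟩ := hl₁
  have hax := long_comm_short hl₁ ha₁ F.P.p_sing hin hq
    (by rw [hgdef, ← S.rho_mul r hr w₁ hC₁, ← hw₁r, S.rho_mul w₁ hC₁ r hr])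
  obtain ⟨γ, Y, hY, hco⟩ := F.C.z_coords hw₁Z hax.2
  obtain ⟨e1, e2⟩ := (F.P.co_commute_iff hco F.cr).1 hw₁r
  simp only [pb_smul_left, pb_comm m Y] at e1 e2
  obtain ⟨-, hb⟩ := long_eps γ _ _ e1 e2
  have hcc := F.P.co_mul hco F.cr
  rw [← hc] at hcc
  obtain ⟨hinc, htvc⟩ := F.P.co_rho hcc
  have hqc : qm (tv (π t) (ρ (y ^ 3))) = 1 := by
    rw [pm_quad F.P.p_sing htvc (by rw [pb_add_right, hY.2.1, F.B.pn, add_zero]), qm_add, hY.1, F.B.n1, hb]
    decide
  have hax' := long_comm_short hl ha F.P.p_sing hinc hqc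
    (by rw [← S.rho_mul _ (pow_mem hyC 3) w hC, ← hwc, S.rho_mul w hC _ (pow_mem hyC 3)])
  exact hno _ hax' hin.1

end Frm

end CfsgLib.SuzType
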