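import Mathlib
import Cfsg.Agent.Lib.SuzType.Local.GoodPairs

/-!
Suzuki type: the conjugates of `z` at one axis, enumerated.
-/

set_option autoImplicit false
set_option linter.style.haveILetI false
set_option linter.unusedSectionVars false
set_option linter.unusedSimpArgs false

namespace CfsgLib.SuzType

open Subgroup CfsgLib.Classical

variable {G : Type*} [Group G] [Finite G]

/-- Coordinates of a singular class: the pairings with `m, n, u, v`. -/
abbrev Quad := {e : (ZMod 2 × ZMod 2) × ZMod 2 × ZMod 2 //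
  e.1.1 + e.1.2 + e.1.1 * e.1.2 + e.2.1 * e.2.2 = 0 ∧ e ≠ ((0, 0), 0, 0)}

/-- The vector with the given pairings. -/
def qvec (m n u v : V6) (e : (ZMod 2 × ZMod 2) × ZMod 2 × ZMod 2) : V6 :=
  e.1.2 • m + e.1.1 • n + e.2.2 • u + e.2.1 • v

theorem card_lp : (Finset.univ : Finset ((ZMod 2 × Quad) × ZMod 2 × ZMod 2)).card = 40 := by decide

theorem card_good : ((Finset.univ : Finset ((ZMod 2 × Quad) × ZMod 2 × ZMod 2)).filter fun x =>
    x.1.1 * x.1.2.1.1.1 + (x.1.1 * x.1.2.1.1.2 + x.1.2.1.1.1) = 1 ∧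
      x.1.2.1.1.2 + (x.1.1 * x.1.2.1.1.2 + x.1.2.1.1.1) = 0).card = 8 := by decide

theorem card_axis_u : ((Finset.univ : Finset ((ZMod 2 × Quad) × ZMod 2 × ZMod 2)).filter fun x =>
    x.1.2.1.2.1 = 0).card = 8 := by decide

theorem card_axis_v : ((Finset.univ : Finset ((ZMod 2 × Quad) × ZMod 2 × ZMod 2)).filter fun x =>
    x.1.2.1.2.2 = 0).card = 8 := by decide

theorem quad_zero : ∀ i j k l : ZMod 2, i = 0 → j = 0 → i + j + i * j + k * l = 0 →
    k = 0 ∧ l = 0 ∨ k = 1 ∧ l = 0 ∨ k = 0 ∧ l = 1 := by decide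

theorem quad_in : ∀ i j k l : ZMod 2, i = 1 → j = 0 → i + j + i * j + k * l = 0 → k = 1 ∧ l = 1 := by decide

namespace Basis4

variable {p m n u v : V6} (B : Basis4 p m n u v)

include B

theorem qvec_perp (e : (ZMod 2 × ZMod 2) × ZMod 2 × ZMod 2) : pb p (qvec m n u v e) = 0 := by
  simp only [qvec, pb_add_right, pb_smul_right, B.pm, B.pn, B.pu, B.pv, mul_zero, add_zero]

theorem qvec_pb (e : (ZMod 2 × ZMod 2) × ZMod 2 × ZMod 2) :
    pb (qvec m n u v e) m = e.1.1 ∧ pb (qvec m n u v e) n = e.1.2 ∧ pb (qvec m n u v e) u = e.2.1 ∧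
      pb (qvec m n u v e) v = e.2.2 := by
  simp only [qvec, pb_add_left, pb_smul_left, pb_self, B.mn, B.nm, B.uv, B.vu, B.um, B.un, B.vm, B.vn, B.mu, B.nu,
    B.mv, B.nv, mul_zero, mul_one, add_zero, zero_add, and_self]

theorem qvec_q (e : (ZMod 2 × ZMod 2) × ZMod 2 × ZMod 2) :
    qm (qvec m n u v e) = e.1.1 + e.1.2 + e.1.1 * e.1.2 + e.2.1 * e.2.2 := by
  simp only [qvec, qm_add, quad_smul, B.m1, B.n1, B.u0, B.v0, pb_add_left, pb_smul_left, pb_smul_right, B.mn,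
    B.uv, B.mu, B.nu, B.mv, B.nv, mul_zero, mul_one, add_zero, zero_add]
  generalize e.1.1 = i, e.1.2 = j, e.2.1 = k, e.2.2 = l
  revert i j k l
  decide

theorem dec_qvec {x : V6} (hx : pb p x = 0) :
    Pm p (x + qvec m n u v ((pb x m, pb x n), pb x u, pb x v)) := B.dec x hx

theorem quad_of_sing (hp : Sing p) {x : V6} (hx : pb p x = 0) (hq : qm x = 0) :
    pb x m + pb x n + pb x m * pb x n + pb x u * pb x v = 0 := by
  have := pm_quad hp (B.dec_qvec hx) (B.qvec_perp _)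
  rw [hq, B.qvec_q] at this
  exact this.symm

theorem svec_qvec (e : Quad) : SVec p (qvec m n u v e.1) := by
  refine ⟨by rw [B.qvec_q]; exact e.2.1, B.qvec_perp _, fun h => e.2.2 ?_⟩
  obtain ⟨h1, h2, h3, h4⟩ := B.qvec_pb e.1
  rw [h.polar B.pm] at h1
  rw [h.polar B.pn] at h2
  rw [h.polar B.pu] at h3
  rw [h.polar B.pv] at h4
  exact Prod.ext (Prod.ext h1.symm h2.symm) (Prod.ext h3.symm h4.symm)

theorem exists_quad (hp : Sing p) {y : V6} (hy : SVec p y) : ∃ e : Quad, Pm p (y + qvec m n u v e.1) := by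
  have h := B.dec_qvec hy.2.1
  have hne : (((pb y m, pb y n), pb y u, pb y v) : (ZMod 2 × ZMod 2) × ZMod 2 × ZMod 2) ≠ ((0, 0), 0, 0) := by
    intro h0
    rw [h0] at h
    refine hy.2.2 ?_
    simpa [qvec] using h
  exact ⟨⟨((pb y m, pb y n), pb y u, pb y v), B.quad_of_sing hp hy.2.1 hy.1, hne⟩, h⟩

end Basis4

namespace Frm

variable {z t : G} {Q R : Subgroup G} {π π' : G → V6} {ρ ρ' : G → qAut qm} {r s ω au bu av bv : G}
  {m n u v : V6} (F : Frm z t Q R π π' ρ ρ' r s ω au bu av bv m n u v)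

include F

/-- The enumeration of the conjugates of `z` with axis `π t`. -/
theorem exists_enum : ∃ f : (ZMod 2 × Quad) × ZMod 2 × ZMod 2 → G, Function.Injective f ∧
    (∀ w, (ZOut z Q w ∧ InT (π t) (ρ w)) ↔ ∃ x, f x = w) ∧
    ∀ x, Co z t Q R π ρ (f x) (x.1.1 • qvec m n u v x.1.2.1) (qvec m n u v x.1.2.1) := by
  classical
  have P := F.P
  have hc : ∀ k : ZMod 2 × Quad, ∃ c, Co z t Q R π ρ c (k.1 • qvec m n u v k.2.1) (qvec m n u v k.2.1) :=
    fun k => P.co_exists (by rw [pb_smul_right, F.B.qvec_perp, mul_zero]) (F.B.qvec_perp _)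
  choose c hc using hc
  have hsq : ∀ k : ZMod 2 × Quad, ∀ {w}, Co z t Q R π ρ w (k.1 • qvec m n u v k.2.1) (qvec m n u v k.2.1) →
      w * w = 1 := fun k w h => by
    rw [P.co_sq h, quad_smul, pb_smul_left, pb_self, (F.B.svec_qvec k.2).1]
    simp [zeta_zero]
  have hco : ∀ x : (ZMod 2 × Quad) × ZMod 2 × ZMod 2,
      Co z t Q R π ρ (zeta z t x.2.1 x.2.2 * c x.1) (x.1.1 • qvec m n u v x.1.2.1) (qvec m n u v x.1.2.1) :=
    fun x => by
    have := P.co_mul (P.co_zeta x.2.1 x.2.2) (hc x.1)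
    simpa only [zero_add] using this
  refine ⟨fun x => zeta z t x.2.1 x.2.2 * c x.1, ?_, fun w => ⟨?_, ?_⟩, hco⟩
  · intro x x' e
    have e' : zeta z t x.2.1 x.2.2 * c x.1 = zeta z t x'.2.1 x'.2.2 * c x'.1 := e
    obtain ⟨h1, h2⟩ := P.co_unique (hco x) (e' ▸ hco x')
    have hq : x.1.2 = x'.1.2 := by
      obtain ⟨a1, a2, a3, a4⟩ := F.B.qvec_pb x.1.2.1
      obtain ⟨b1, b2, b3, b4⟩ := F.B.qvec_pb x'.1.2.1
      refine Subtype.ext (Prod.ext (Prod.ext ?_ ?_) (Prod.ext ?_ ?_))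
      · rw [← a1, ← b1]; exact pm_polar h2 F.B.pm
      · rw [← a2, ← b2]; exact pm_polar h2 F.B.pn
      · rw [← a3, ← b3]; exact pm_polar h2 F.B.pu
      · rw [← a4, ← b4]; exact pm_polar h2 F.B.pv
    rw [← hq] at h1
    have hk : x.1 = x'.1 := Prod.ext (svec_smul_inj (F.B.svec_qvec x.1.2) h1) hq
    rw [hk] at e'
    have e3 := mul_right_cancel e'
    have e4 : zeta z t (x.2.1 + x'.2.1) (x.2.2 + x'.2.2) = 1 := by
      rw [← P.zeta_mul, e3, P.zeta_mul, CharTwo.add_self_eq_zero, CharTwo.add_self_eq_zero, zeta_zero]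
    obtain ⟨e5, e6⟩ := P.zeta_eq_one e4
    exact Prod.ext hk (Prod.ext (CharTwo.add_eq_zero.1 e5) (CharTwo.add_eq_zero.1 e6))
  · rintro ⟨hw, hin⟩
    obtain ⟨γ, y, hy, h⟩ := F.C.z_coords hw hin
    obtain ⟨e, he⟩ := F.B.exists_quad P.p_sing hy
    have hg : Pm (π t) (γ • y + γ • qvec m n u v e.1) := by
      rw [← smul_add]
      rcases two_cases γ with rfl | rfl
      · exact .inl (zero_smul _ _)
      · rw [one_smul]; exact he
    obtain ⟨i, j, hij⟩ := P.co_zero (P.co_mul h (hc (γ, e))) hg he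
    refine ⟨((γ, e), i, j), ?_⟩
    show zeta z t i j * c (γ, e) = w
    rw [← hij, mul_assoc, hsq _ (hc (γ, e)), mul_one]
  · rintro ⟨x, rfl⟩
    have h := hco x
    have hy := F.B.svec_qvec x.1.2
    refine ⟨⟨P.co_zclass F.C.zt h (hsq _ h) (fun e => ?_) hy.1, (P.co_comm_zt h).1, fun hQ => ?_⟩, (P.co_rho h).1⟩
    · have e' : zeta z t x.2.1 x.2.2 * c x.1 = 1 := e
      rw [e'] at h
      have h0 := P.co_zeta 0 0
      rw [zeta_zero] at h0
      have e2 := (P.co_unique h h0).2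
      rw [add_zero] at e2
      exact hy.2.2 e2
    · have e2 := (P.co_unique h (P.co_of_Q hQ (P.co_comm_zt h).2)).2
      rw [add_zero] at e2
      exact hy.2.2 e2

/-- The two singular classes `u` and `v` as axes. -/
theorem axis_iff {w : G} {γ : ZMod 2} {e : Quad}
    (h : Co z t Q R π ρ w (γ • qvec m n u v e.1) (qvec m n u v e.1)) (hw : ZOut z Q w) (hin : InT (π t) (ρ w))
    {a a₀ : V6} (ha : Sing a) (ha₀ : Pm (π t) (a + a₀)) (h₀ : pb (π t) a₀ = 0) :
    InT a (ρ w) ↔ pb (qvec m n u v e.1) a₀ = 0 := by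
  have hl := F.C.long_of_inT hw hin
  have hax : Axis (ρ w) (π t) := ⟨F.P.p_sing, hin⟩
  have hap : pb a (π t) = 0 := by rw [pm_polar ha₀ (pb_self (π t)), pb_comm, h₀]
  have hpa : pb (π t) a = 0 := by rw [pb_comm, hap]
  have htv : pb a (tv (π t) (ρ w)) = pb (qvec m n u v e.1) a₀ := by
    rw [pb_comm, pm_polar (F.P.co_rho h).2 hpa, pb_comm, pm_polar ha₀ (F.B.qvec_perp _), pb_comm]
  constructor
  · intro hi
    rw [← htv]
    exact (axis_fixed hl hax ⟨ha, hi⟩).2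
  · intro h0
    refine (long_fix hl hax ha ?_).2
    rw [long_apply hl hax, hap, htv, h0]
    simp

end Frm

end CfsgLib.SuzType
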