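import Mathlib
import Cfsg.Agent.Lib.SuzType.Local.AxisSets
import Cfsg.Agent.Lib.SuzType.Local.CentF

/-!
Suzuki type: the number of conjugates `w` of `z` with `z` a power of `w * r`, modulo five.
-/

set_option autoImplicit false
set_option linter.style.haveILetI false
set_option linter.unusedSectionVars false
set_option linter.unusedSimpArgs false

namespace CfsgLib.SuzType

open Subgroup CfsgLib.Classical

variable {G : Type*} [Group G] [Finite G]

theorem check_out : all64 (fun p => !singB p ||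
    ((List.range 64).filter fun y => !qn y && bn p y).length == 16) = true := by decide +kernel

theorem card_sing_out {p : V6} (hp : Sing p) :
    (Finset.univ.filter fun y : V6 => qm y = 0 ∧ pb p y = 1).card = 16 := by
  classical
  obtain ⟨i, hi, rfl⟩ := vec_surj p
  have H := all64_get check_out hi
  simp only [(sing_vec hi).1 hp, Bool.not_true, Bool.false_or, beq_iff_eq] at H
  have e : (Finset.univ.filter fun y : V6 => qm y = 0 ∧ pb (vec i) y = 1) =
      ((List.range 64).filter fun y => !qn y && bn i y).toFinset.image vec := by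
    ext y
    obtain ⟨j, hj, rfl⟩ := vec_surj y
    simp only [Finset.mem_filter, Finset.mem_univ, true_and, Finset.mem_image, List.mem_toFinset, List.mem_filter,
      List.mem_range, qm_vec hj, pb_vec hi hj, ite_zero_iff, ite_one_iff, Bool.and_eq_true, Bool.not_eq_true']
    constructor
    · intro hy; exact ⟨j, ⟨hj, hy⟩, rfl⟩
    · rintro ⟨k, ⟨hk, hk'⟩, hkj⟩
      rw [← (vec_eq_iff hk hj).1 hkj]
      exact hk'
  rw [e, Finset.card_image_of_injOn, List.toFinset_card_of_nodup (List.nodup_range.filter _), H]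
  intro a ha b hb hab
  simp only [Finset.mem_coe, List.mem_toFinset, List.mem_filter, List.mem_range] at ha hb
  exact (vec_eq_iff ha.1 hb.1).1 hab

theorem commute_of_mem_pair {z w r : G} (hz : z * z = 1) (hw : w * w = 1) (hr : r * r = 1)
    (h : z ∈ zpowers (w * r)) : w * z = z * w := by
  obtain ⟨k, hk⟩ := mem_zpowers_iff.1 h
  have hwy : w * (w * r) * w⁻¹ = (w * r)⁻¹ := by
    rw [mul_inv_rev, inv_eq_of_mul_eq_one_right hr, inv_eq_of_mul_eq_one_right hw, ← mul_assoc w, hw, one_mul]
  refine mul_inv_eq_iff_eq_mul.1 ?_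
  rw [← hk, ← conj_zpow, hwy, inv_zpow, hk, inv_eq_of_mul_eq_one_right hz]

namespace Setup

variable {z : G} {Q : Subgroup G} {π : G → V6} {ρ : G → qAut qm} (S : Setup z Q π ρ)

include S

/-- An element of order five fixes no conjugate of `z` outside `Q`. -/
theorem five_dvd_zOut : 5 ∣ Nat.card {w : G // ZOut z Q w} := by
  classical
  haveI : Fact (Nat.Prime 5) := ⟨by norm_num⟩
  obtain ⟨⟨f, hf⟩, hfo⟩ := exists_prime_orderOf_dvd_card' (G := centralizer ({z} : Set G)) 5
    (by rw [S.card_C]; norm_num)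
  have h5 : orderOf f = 5 := by rw [← hfo, Subgroup.orderOf_mk]
  have hf5 : f ^ 5 = 1 := h5 ▸ pow_orderOf_eq_one f
  let σ : Equiv.Perm {w : G // ZOut z Q w} :=
    { toFun := fun w => ⟨f * w.1 * f⁻¹, S.zOut_conj hf w.2⟩
      invFun := fun w => ⟨f⁻¹ * w.1 * f⁻¹⁻¹, S.zOut_conj (inv_mem hf) w.2⟩
      left_inv := fun w => Subtype.ext (show f⁻¹ * (f * w.1 * f⁻¹) * f⁻¹⁻¹ = w.1 by group)
      right_inv := fun w => Subtype.ext (show f * (f⁻¹ * w.1 * f⁻¹⁻¹) * f⁻¹ = w.1 by group) }
  have hpow : ∀ k : ℕ, ∀ w, (((σ ^ k) w).1 : G) = f ^ k * w.1 * (f ^ k)⁻¹ := by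
    intro k
    induction k with
    | zero => intro w; simp
    | succ k ih =>
      intro w
      rw [pow_succ', Equiv.Perm.mul_apply, pow_succ']
      show f * ((σ ^ k) w).1 * f⁻¹ = _
      rw [ih]; group
  have hσ : σ ^ 5 ^ 1 = 1 := by
    refine Equiv.ext fun w => Subtype.ext ?_
    rw [pow_one, hpow, hf5, one_mul, inv_one, mul_one]
    rfl
  haveI : Fintype {w : G // ZOut z Q w} := Fintype.ofFinite _
  have hmod := Equiv.Perm.card_compl_support_modEq hσ
  have h0 : (σ.supportᶜ).card = 0 := Finset.card_eq_zero.2 (Finset.eq_empty_of_forall_notMem fun w hw => by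
    have hfix : f * w.1 * f⁻¹ = w.1 :=
      congrArg Subtype.val (Equiv.Perm.notMem_support.1 (Finset.mem_compl.1 hw))
    obtain ⟨k, q, hq, hqf, e⟩ := (S.cent_five_data hf h5).2.1 w.1 w.2.2.1 (mul_inv_eq_iff_eq_mul.1 hfix).symm
    refine w.2.2.2 ?_
    have hw5 : w.1 ^ 5 = w.1 := by
      rw [show (5 : ℕ) = 2 * 2 + 1 from rfl, pow_succ, pow_mul, pow_two w.1, S.zOut_sq w.2, one_pow, one_mul]
    rw [← hw5, e, ((show Commute f q from hqf.symm).pow_left k).mul_pow, ← pow_mul, mul_comm k, pow_mul, hf5,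
      one_pow, one_mul]
    exact pow_mem hq 5)
  rw [h0] at hmod
  rw [Nat.card_eq_fintype_card]
  exact (Nat.modEq_zero_iff_dvd).1 hmod.symm

end Setup

namespace Frm

variable {z t : G} {Q R : Subgroup G} {π π' : G → V6} {ρ ρ' : G → qAut qm} {r s ω au bu av bv : G}
  {m n u v : V6} (F : Frm z t Q R π π' ρ ρ' r s ω au bu av bv m n u v)

include F

/-- The good elements inside `Q`. -/
theorem card_good_Q : Nat.card {w : G // w ∈ Q ∧ IsConj z w ∧ z ∈ zpowers (w * r)} = 36 := by
  classical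
  haveI := Fintype.ofFinite G
  have S := F.P.S
  have P := F.P
  set p := π t with hp
  have hps : Sing p := P.p_sing
  set T : Finset V6 :=
    Finset.univ.filter fun x => qm x = 0 ∧ (pb p x = 1 ∨ pb p x = 0 ∧ pb x m = 1 ∧ pb x n = 0) with hT
  set y₀ := n + u + v with hy₀
  have hy : qm y₀ = 0 ∧ pb p y₀ = 0 ∧ pb y₀ m = 1 ∧ pb y₀ n = 0 := by
    rw [hy₀, hp]
    simp only [qm_add, pb_add_left, pb_add_right, F.B.n1, F.B.u0, F.B.v0, F.B.nu, F.B.nv, F.B.uv, F.B.pn, F.B.pu,
      F.B.pv, F.B.nm, F.B.um, F.B.vm, pb_self, F.B.un, F.B.vn, add_zero, zero_add]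
    decide
  have hT18 : T.card = 18 := by
    have hB : (Finset.univ.filter fun x => qm x = 0 ∧ pb p x = 0 ∧ pb x m = 1 ∧ pb x n = 0) =
        ({y₀, y₀ + p} : Finset V6) := by
      ext x
      simp only [Finset.mem_filter, Finset.mem_univ, true_and, Finset.mem_insert, Finset.mem_singleton]
      constructor
      · rintro ⟨hq, hx, hm, hn⟩
        have h1 := F.B.dec_qvec hx
        obtain ⟨hu1, hv1⟩ := quad_in _ _ _ _ hm hn (F.B.quad_of_sing hps hx hq)
        rw [hm, hn, hu1, hv1] at h1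
        simp only [qvec, zero_smul, one_smul, zero_add, ← hy₀] at h1
        rcases h1 with e | e
        · exact .inl (CharTwo.add_eq_zero.1 (funext fun i => congrFun e i))
        · refine .inr ?_
          rw [hp, ← e, add_comm x y₀, add_cancel6]
      · rintro (rfl | rfl)
        · exact hy
        · obtain ⟨h1, h2, h3, h4⟩ := hy
          refine ⟨?_, ?_, ?_, ?_⟩
          · rw [qm_add, h1, hps.2, pb_comm, h2, add_zero, add_zero]
          · rw [pb_add_right, h2, pb_self, add_zero]
          · rw [pb_add_left, h3, hp, F.B.pm, add_zero]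
          · rw [pb_add_left, h4, hp, F.B.pn, add_zero]
    have hne : y₀ ≠ y₀ + p := fun e => hps.1 (add_eq_left.1 e.symm)
    rw [show T = (Finset.univ.filter fun x => qm x = 0 ∧ pb p x = 1) ∪
        (Finset.univ.filter fun x => qm x = 0 ∧ pb p x = 0 ∧ pb x m = 1 ∧ pb x n = 0) by
      ext x; simp only [hT, Finset.mem_filter, Finset.mem_union, Finset.mem_univ, true_and]; tauto,
      Finset.card_union_of_disjoint, card_sing_out hps, hB, Finset.card_pair hne]
    rw [Finset.disjoint_filter]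
    exact fun x _ h h' => one_ne_zero (h.2.symm.trans h'.2.1)
  have hgood : ∀ w ∈ Q, w * w = 1 → (z ∈ zpowers (w * r) ↔ π w ∈ T) := by
    intro w hw hw2
    have hq : qm (π w) = 0 := by
      rcases two_cases (qm (π w)) with e | e
      · exact e
      · have := S.sq w hw
        rw [hw2, e, zb_one] at this
        exact absurd this.symm S.z1
    rw [hT, Finset.mem_filter]
    rcases two_cases (pb p (π w)) with e | e
    · have hwt : w * t = t * w := mem_centralizer_singleton_iff.1 ((P.mem_A hw).2 e)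
      rw [F.good_co (P.co_of_Q hw hwt) hw2 (.inr (S.rho_Q hw)), pb_zero_left, pb_zero_right, add_zero, zero_add]
      constructor
      · rintro ⟨h1, h2⟩
        exact ⟨Finset.mem_univ _, hq, .inr ⟨e, by rwa [h2, add_zero] at h1, h2⟩⟩
      · rintro ⟨-, -, h | ⟨-, h1, h2⟩⟩
        · exact absurd (h.symm.trans e) one_ne_zero
        · exact ⟨by rw [h1, h2, add_zero], h2⟩
    · exact iff_of_true (F.good_Q_out hw hw2 e) ⟨Finset.mem_univ _, hq, .inl e⟩
  rw [Nat.card_eq_fintype_card, Fintype.card_subtype]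
  rw [Finset.card_eq_sum_card_fiberwise (f := π) (t := T), Finset.sum_congr rfl (g := fun _ => 2),
    Finset.sum_const, hT18]
  · rfl
  · intro x hx
    obtain ⟨a, ha, rfl⟩ := S.pi_surj x
    have hx' := (Finset.mem_filter.1 hx).2
    have ha2 : a * a = 1 := by rw [S.sq a ha, hx'.1, zb_zero]
    have hne : π a ≠ 0 := fun e => by
      rw [e] at hx'
      simp [pb_zero_left, pb_zero_right] at hx'
    have hza : z * a * (z * a) = 1 := by rw [S.sq _ (mul_mem S.zQ ha), S.pi_zmul ha, hx'.1, zb_zero]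
    have hne' : a ≠ z * a := fun e => S.z1 (mul_eq_right.1 e.symm)
    rw [show (Finset.univ.filter fun w => w ∈ Q ∧ IsConj z w ∧ z ∈ zpowers (w * r)).filter (fun w => π w = π a) =
      ({a, z * a} : Finset G) by
        ext w
        simp only [Finset.mem_filter, Finset.mem_univ, true_and, Finset.mem_insert, Finset.mem_singleton]
        constructor
        · rintro ⟨⟨hw, -, -⟩, e⟩
          exact S.pi_eq ha hw e.symm
        · have key : ∀ b ∈ Q, b * b = 1 → π b = π a → (b ∈ Q ∧ IsConj z b ∧ z ∈ zpowers (b * r)) ∧ π b = π a :=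
            fun b hb hb2 e => ⟨⟨hb, P.q_conj F.C.zt hb hb2 (fun h => hne (by rw [← e, h, S.pi_one])),
              (hgood b hb hb2).2 (e ▸ hx)⟩, e⟩
          rintro (rfl | rfl)
          · exact key _ ha ha2 rfl
          · exact key _ (mul_mem S.zQ ha) hza (S.pi_zmul ha), Finset.card_pair hne']
  · intro w hw
    obtain ⟨hw, hc, hg⟩ := (Finset.mem_filter.1 hw).2
    have hw2 : w * w = 1 := by
      obtain ⟨g, rfl⟩ := isConj_iff.1 hc
      rw [show g * z * g⁻¹ * (g * z * g⁻¹) = g * (z * z) * g⁻¹ by group, S.z2]; group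
    exact (hgood w hw hw2).1 hg

/-- A commuting fixed axis is one of four. -/
theorem axis_cases {a : V6} {T : G} (ha : Sing a) (hne : a ≠ π t) (hfix : (ρ r).1 a = a) (hT : T ∈ Q)
    (hTa : π T = a) (hc : r * T = T * r) :
    ∃ b : Bool, Pm (π t) (a + if b then u else v) := by
  obtain ⟨hin, hq, -, -, -⟩ := F.r_short
  have hps := F.P.p_sing
  have hpa : pb (π t) a = 0 := by
    refine (two_cases _).resolve_right fun e => ?_
    have h := inT_formula hps hin a
    rw [hfix, add_self6, e, one_smul, one_smul] at h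
    have hpm : Pm (π t) (tv (π t) (ρ r)) := by
      have h' := CharTwo.add_eq_zero.1 (funext fun i => congrFun h.symm i)
      rw [h']
      rcases two_cases (pb (a + pt (π t)) (tv (π t) (ρ r))) with e' | e' <;> rw [e']
      · exact .inl (zero_smul _ _)
      · exact .inr (one_smul _ _)
    rcases hpm with e' | e' <;> rw [e'] at hq
    · rw [show qm (0 : V6) = 0 from QuadraticMap.map_zero _] at hq; exact zero_ne_one hq
    · rw [hps.2] at hq; exact zero_ne_one hq
  have hTt : T * t = t * T := mem_centralizer_singleton_iff.1 ((F.P.mem_A hT).2 (hTa ▸ hpa))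
  have hco := F.P.co_of_Q hT hTt
  rw [hTa] at hco
  obtain ⟨e1, e2⟩ := (F.comm_r_iff hco).1 hc.symm
  rw [pb_zero_left] at e1 e2
  rw [← e2, zero_add] at e1
  have h := F.B.dec_qvec hpa
  have hq' := F.B.quad_of_sing hps hpa ha.2
  rw [← e1, ← e2] at h hq'
  rcases quad_zero _ _ _ _ rfl rfl hq' with ⟨h1, h2⟩ | ⟨h1, h2⟩ | ⟨h1, h2⟩ <;>
    rw [h1, h2] at h <;> simp only [qvec, zero_smul, one_smul, zero_add, add_zero] at h
  · exact absurd (h.resolve_left ha.1) hne
  · exact ⟨false, h⟩
  · exact ⟨true, h⟩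

/-- Outside `Q` there are 160 exceptions. -/
theorem card_bad : Nat.card {w : G // ZOut z Q w ∧ z ∉ zpowers (w * r)} = 160 := by
  classical
  haveI := Fintype.ofFinite G
  obtain ⟨hin, hq, hg, hg1, hr⟩ := F.r_short
  have S := F.P.S
  have P := F.P
  obtain ⟨f, hf, himg, hco⟩ := F.exists_enum
  let L : V6 → Finset G := fun a => Finset.univ.filter fun w => ZOut z Q w ∧ InT a (ρ w)
  have hL : L (π t) = Finset.univ.image f := by
    ext w; simp [L, himg]
  have hL40 : ∀ a, Sing a → (L a).card = 40 := by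
    intro a ha
    have h40 : (L (π t)).card = 40 := by rw [hL, Finset.card_image_of_injective _ hf, card_lp]
    obtain ⟨c, hc, hca⟩ := F.C.exists_to ha
    rw [← h40]
    refine Finset.card_bij' (fun w _ => c⁻¹ * w * c) (fun w _ => c * w * c⁻¹) ?_ ?_ ?_ ?_
    · intro w hw
      obtain ⟨hwz, hwa⟩ := (Finset.mem_filter.1 hw).2
      have := S.zOut_conj (inv_mem hc) hwz
      rw [inv_inv] at this
      exact Finset.mem_filter.2 ⟨Finset.mem_univ _, this, (F.C.to_axis hc hwz hca).1 hwa⟩
    · intro w hw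
      obtain ⟨hwz, hwa⟩ := (Finset.mem_filter.1 hw).2
      refine Finset.mem_filter.2 ⟨Finset.mem_univ _, S.zOut_conj hc hwz,
        (F.C.to_axis hc (S.zOut_conj hc hwz) hca).2 ?_⟩
      rwa [show c⁻¹ * (c * w * c⁻¹) * c = w by group]
    · intro w _; group
    · intro w _; group
  have hfz : ∀ x, ZOut z Q (f x) ∧ InT (π t) (ρ (f x)) := fun x => (himg _).2 ⟨x, rfl⟩
  have hgoodf : ∀ x, z ∈ zpowers (f x * r) ↔
      x.1.1 * x.1.2.1.1.1 + (x.1.1 * x.1.2.1.1.2 + x.1.2.1.1.1) = 1 ∧
        x.1.2.1.1.2 + (x.1.1 * x.1.2.1.1.2 + x.1.2.1.1.1) = 0 := by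
    intro x
    obtain ⟨h1, h2, -, -⟩ := F.B.qvec_pb x.1.2.1
    rw [F.good_co (hco x) (S.zOut_sq (hfz x).1) (.inl (F.C.long_of_inT (hfz x).1 (hfz x).2)), pb_smul_left,
      pb_smul_left, pb_comm m, h1, h2]
  set S4 : Bool × ZMod 2 → V6 := fun k => (if k.1 then u else v) + k.2 • π t with hS4
  have hk0 : ∀ b : Bool, qm (if b then u else v) = 0 ∧ pb (π t) (if b then u else v) = 0 ∧
      pb (if b then u else v) m = 0 ∧ pb (if b then u else v) n = 0 := fun b => by
    cases b <;> simp [F.B.u0, F.B.v0, F.B.pu, F.B.pv, F.B.um, F.B.un, F.B.vm, F.B.vn]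
  have hpm4 : ∀ k, Pm (π t) (S4 k + if k.1 then u else v) := fun k => by
    rw [hS4]
    show Pm (π t) ((if k.1 then u else v) + k.2 • π t + if k.1 then u else v)
    rw [add_comm, add_cancel6]
    rcases two_cases k.2 with e | e <;> rw [e]
    · exact .inl (zero_smul _ _)
    · exact .inr (one_smul _ _)
  have hS4m : ∀ k, Sing (S4 k) ∧ pb (π t) (S4 k) = 0 ∧ pb (S4 k) m = 0 ∧ pb (S4 k) n = 0 ∧
      ¬ Pm (π t) (S4 k) := fun k => by
    obtain ⟨a1, a2, a3, a4⟩ := hk0 k.1
    have h2 : pb (π t) (S4 k) = 0 := by rw [pb_comm, pm_polar (hpm4 k) (pb_self _), pb_comm, a2]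
    have hnp : ¬ Pm (π t) (S4 k) := fun h => by
      have h' := h.add (hpm4 k)
      rw [add_cancel6] at h'
      rcases k with ⟨b, c⟩
      cases b
      · have := h'.polar F.B.pu
        rw [if_neg (by simp), F.B.vu] at this
        exact one_ne_zero this
      · have := h'.polar F.B.pv
        rw [if_pos rfl, F.B.uv] at this
        exact one_ne_zero this
    exact ⟨⟨fun e => hnp (.inl e), by rw [pm_quad P.p_sing (hpm4 k) a2, a1]⟩, h2,
      by rw [pm_polar (hpm4 k) F.B.pm, a3], by rw [pm_polar (hpm4 k) F.B.pn, a4], hnp⟩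
  set Lp := L (π t) with hLp
  have hD : ∀ k, (L (S4 k) \ Lp).card = 32 := by
    intro k
    have h8 : (Lp ∩ L (S4 k)).card = 8 := by
      rw [show Lp ∩ L (S4 k) = Lp.filter fun w => InT (S4 k) (ρ w) by
        ext w; simp only [Lp, L, Finset.mem_inter, Finset.mem_filter, Finset.mem_univ, true_and]; tauto,
        hL, Finset.filter_image, Finset.card_image_of_injective _ hf]
      obtain ⟨a1, a2, a3, a4⟩ := hk0 k.1
      have hiff : ∀ x, InT (S4 k) (ρ (f x)) ↔ pb (qvec m n u v x.1.2.1) (if k.1 then u else v) = 0 := fun x =>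
        F.axis_iff (hco x) (hfz x).1 (hfz x).2 (hS4m k).1 (hpm4 k) a2
      simp only [hiff]
      rcases k with ⟨b, c⟩
      cases b
      · simp only [if_neg (show ¬ (false = true) by simp), (F.B.qvec_pb _).2.2.2]
        exact card_axis_v
      · simp only [if_pos, (F.B.qvec_pb _).2.2.1]
        exact card_axis_u
    rw [Finset.card_sdiff, h8, hL40 _ (hS4m k).1]
  have hP : (Lp.filter fun w => z ∉ zpowers (w * r)).card = 32 := by
    have h := Finset.card_filter_add_card_filter_not (s := Lp) (fun w => z ∈ zpowers (w * r))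
    have h8 : (Lp.filter fun w => z ∈ zpowers (w * r)).card = 8 := by
      rw [hL, Finset.filter_image, Finset.card_image_of_injective _ hf]
      simp only [hgoodf]
      exact card_good
    have h40 : Lp.card = 40 := hL40 _ P.p_sing
    rw [h8, h40] at h
    omega
  have hdisj : ∀ k k', k ≠ k' → ∀ w, w ∈ L (S4 k) → w ∈ L (S4 k') → w ∈ Lp := by
    intro k k' hkk w h h'
    obtain ⟨hw, hi⟩ := (Finset.mem_filter.1 h).2
    obtain ⟨-, hi'⟩ := (Finset.mem_filter.1 h').2
    obtain ⟨hl, -⟩ := F.C.long_of_zOut hw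
    have A : Axis (ρ w) (S4 k) := ⟨(hS4m k).1, hi⟩
    have A' : Axis (ρ w) (S4 k') := ⟨(hS4m k').1, hi'⟩
    have hp0 := (axis_fixed hl A A').1
    rw [pm_polar (hpm4 k') (hS4m k).2.1, pb_comm, pm_polar (hpm4 k) (hk0 k'.1).2.1] at hp0
    rcases k with ⟨b, c⟩
    rcases k' with ⟨b', c'⟩
    have hb : b = b' := by
      cases b <;> cases b' <;> first
        | rfl
        | exact absurd hp0 (by simp [F.B.uv, F.B.vu])
    subst hb
    have hcc : c + c' = 1 := (two_cases _).resolve_left fun e => hkk (by rw [CharTwo.add_eq_zero.1 e])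
    have hsum := axis_sum hl A A' (fun e => hkk (by
      simp only [hS4, add_right_inj] at e
      rw [smul_p_inj P.p_sing e]))
    refine Finset.mem_filter.2 ⟨Finset.mem_univ _, hw, ?_⟩
    have e : S4 (b, c) + S4 (b, c') = π t := by
      simp only [hS4]
      rw [add_add_add_comm, add_self6, zero_add, ← add_smul, hcc, one_smul]
    rw [e] at hsum
    exact hsum.2
  rw [Nat.card_eq_fintype_card, Fintype.card_subtype]
  have hset : (Finset.univ.filter fun w => ZOut z Q w ∧ z ∉ zpowers (w * r)) =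
      (Lp.filter fun w => z ∉ zpowers (w * r)) ∪ Finset.univ.biUnion fun k => L (S4 k) \ Lp := by
    ext w
    simp only [Finset.mem_union, Finset.mem_biUnion, Finset.mem_sdiff, Finset.mem_filter, Finset.mem_univ, true_and,
      Lp, L]
    constructor
    · rintro ⟨hw, hb⟩
      by_cases hp : InT (π t) (ρ w)
      · exact .inl ⟨⟨hw, hp⟩, hb⟩
      refine .inr ?_
      obtain ⟨a, ha, hfix⟩ : ∃ a, Axis (ρ w) a ∧ (ρ r).1 a = a := by
        by_contra hno
        push Not at hno
        exact hb (F.good_skew hw hno)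
      have hne : ρ r * ρ w ≠ ρ w * ρ r := fun e =>
        hp (long_comm_short (F.C.long_of_zOut hw).1 ha P.p_sing hin hq e).2
      obtain ⟨T, hT, hTa⟩ := S.pi_surj a
      have hc : r * T * r⁻¹ = T := by
        by_contra h
        exact hb ((F.C.good_axis hw hr F.r2 ha hfix hne hg hT hTa).2 h)
      have hap : a ≠ π t := fun e => hp (e ▸ ha.2)
      obtain ⟨b, hbm⟩ := F.axis_cases ha.1 hap hfix hT hTa (mul_inv_eq_iff_eq_mul.1 hc)
      have key : ∃ c : ZMod 2, a = S4 (b, c) := by
        rcases hbm with e | e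
        · exact ⟨0, by simp only [hS4, zero_smul, add_zero]; exact CharTwo.add_eq_zero.1 (funext fun i => congrFun e i)⟩
        · exact ⟨1, by simp only [hS4, one_smul]; rw [← e, add_comm a, add_cancel6]⟩
      obtain ⟨c, rfl⟩ := key
      exact ⟨(b, c), ⟨hw, ha.2⟩, fun h => hp h.2⟩
    · rintro (⟨⟨hw, -⟩, hb⟩ | ⟨k, ⟨hw, hi⟩, hnp⟩)
      · exact ⟨hw, hb⟩
      refine ⟨hw, ?_⟩
      obtain ⟨h1, h2, h3, h4, -⟩ := hS4m k
      have hl := (F.C.long_of_zOut hw).1
      have htv : pb (S4 k) (tv (π t) (ρ r)) = 0 := by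
        rw [pb_comm, pm_polar (P.co_rho F.cr).2 h2, pb_comm, h4]
      have hfix : (ρ r).1 (S4 k) = S4 k := by
        have := inT_apply P.p_sing hin h2
        rw [htv, zero_smul] at this
        exact CharTwo.add_eq_zero.1 (funext fun i => congrFun this i)
      have hne : ρ r * ρ w ≠ ρ w * ρ r := fun e =>
        hnp ⟨hw, (long_comm_short hl ⟨h1, hi⟩ P.p_sing hin hq e).2⟩
      obtain ⟨T, hT, hTa⟩ := S.pi_surj (S4 k)
      have hTt : T * t = t * T := mem_centralizer_singleton_iff.1 ((P.mem_A hT).2 (hTa ▸ h2))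
      have hco' := P.co_of_Q hT hTt
      rw [hTa] at hco'
      have hc : T * r = r * T := (F.comm_r_iff hco').2 (by simp [pb_zero_left, h3, h4])
      rw [F.C.good_axis hw hr F.r2 ⟨h1, hi⟩ hfix hne hg hT hTa, ne_eq, not_not, ← hc, mul_inv_cancel_right]
  rw [hset, Finset.card_union_of_disjoint, Finset.card_biUnion, Finset.sum_congr rfl (fun k _ => hD k),
    Finset.sum_const, hP]
  · rfl
  · intro k _ k' _ hkk
    exact Finset.disjoint_left.2 fun w h h' =>
      (Finset.mem_sdiff.1 h).2 (hdisj k k' hkk w (Finset.mem_sdiff.1 h).1 (Finset.mem_sdiff.1 h').1)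
  · exact Finset.disjoint_left.2 fun w h h' => by
      obtain ⟨k, -, hk⟩ := Finset.mem_biUnion.1 h'
      exact (Finset.mem_sdiff.1 hk).2 (Finset.mem_filter.1 h).1

/-- The count modulo five. -/
theorem count_M : (Nat.card {w : G // IsConj z w ∧ z ∈ zpowers (w * r)} : ZMod 5) = 1 := by
  classical
  haveI := Fintype.ofFinite G
  have S := F.P.S
  have h2 : ∀ {w}, IsConj z w → w * w = 1 := fun {w} hw => by
    obtain ⟨g, rfl⟩ := isConj_iff.1 hw
    rw [show g * z * g⁻¹ * (g * z * g⁻¹) = g * (z * z) * g⁻¹ by group, S.z2]; group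
  have hA := F.card_good_Q
  have hB := F.card_bad
  obtain ⟨j, hj⟩ := S.five_dvd_zOut
  rw [Nat.card_eq_fintype_card, Fintype.card_subtype] at hA hB hj ⊢
  have hsplit : (Finset.univ.filter fun w => IsConj z w ∧ z ∈ zpowers (w * r)) =
      (Finset.univ.filter fun w => w ∈ Q ∧ IsConj z w ∧ z ∈ zpowers (w * r)) ∪
        (Finset.univ.filter fun w => ZOut z Q w ∧ z ∈ zpowers (w * r)) := by
    ext w
    simp only [Finset.mem_union, Finset.mem_filter, Finset.mem_univ, true_and]
    constructor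
    · rintro ⟨h1, hg⟩
      by_cases hQ : w ∈ Q
      · exact .inl ⟨hQ, h1, hg⟩
      · exact .inr ⟨⟨h1, commute_of_mem_pair S.z2 (h2 h1) F.r2 hg, hQ⟩, hg⟩
    · rintro (⟨-, h1, hg⟩ | ⟨⟨h1, -, -⟩, hg⟩) <;> exact ⟨h1, hg⟩
  rw [hsplit, Finset.card_union_of_disjoint, hA]
  · have h := Finset.card_filter_add_card_filter_not (s := Finset.univ.filter fun w => ZOut z Q w)
      (fun w => z ∈ zpowers (w * r))
    rw [Finset.filter_filter, Finset.filter_filter, hB, hj] at h
    have h' := congrArg (fun x : ℕ => (x : ZMod 5)) h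
    push_cast at h' ⊢
    rw [show (160 : ZMod 5) = 0 from rfl, show (5 : ZMod 5) = 0 from rfl, zero_mul, add_zero] at h'
    rw [h', show (36 : ZMod 5) = 1 from rfl, add_zero]
  · rw [Finset.disjoint_left]
    intro w h h'
    simp only [Finset.mem_filter, Finset.mem_univ, true_and] at h h'
    exact h'.1.2.2 h.1

end Frm

end CfsgLib.SuzType
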