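import Mathlib
import Cfsg.Agent.Lib.SuzType.Local.MCount
import Cfsg.Agent.Lib.SuzType.Local.CitCount
import Cfsg.Agent.Lib.SuzType.Local.CentFiveSeven

/-!
Suzuki type: the number of conjugates `w` of `r` with `r` a power of `z * w`, modulo five.
-/

set_option autoImplicit false
set_option linter.style.haveILetI false
set_option linter.unusedSectionVars false
set_option linter.unusedSimpArgs false

namespace CfsgLib.SuzType

open Subgroup CfsgLib.Classical

variable {G : Type*} [Group G] [Finite G]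

theorem card_two_cosets {H K : Subgroup G} (hle : H ≤ K) {a : G} (ha : a ∈ K) (ha' : a ∉ H)
    (hcov : ∀ d ∈ K, d ∈ H ∨ a⁻¹ * d ∈ H) : Nat.card K = 2 * Nat.card H := by
  let f : Bool × H → K := fun x => if x.1 then ⟨a * x.2, mul_mem ha (hle x.2.2)⟩ else ⟨x.2, hle x.2.2⟩
  have hf : Function.Bijective f := by
    refine ⟨?_, fun d => ?_⟩
    · rintro ⟨b, h⟩ ⟨b', h'⟩ e
      have e' := congrArg Subtype.val e
      cases b <;> cases b' <;> simp only [f, if_true, if_false, Bool.false_eq_true] at e'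
      · exact Prod.ext rfl (Subtype.ext e')
      · exact absurd (show a ∈ H by
          have := mul_mem h.2 (inv_mem h'.2)
          rw [e', mul_inv_cancel_right] at this
          exact this) ha'
      · exact absurd (show a ∈ H by
          have := mul_mem h'.2 (inv_mem h.2)
          rw [← e', mul_inv_cancel_right] at this
          exact this) ha'
      · exact Prod.ext rfl (Subtype.ext (mul_left_cancel e'))
    · rcases hcov d d.2 with h | h
      · exact ⟨(false, ⟨d, h⟩), Subtype.ext rfl⟩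
      · exact ⟨(true, ⟨_, h⟩), Subtype.ext (mul_inv_cancel_left a d)⟩
  rw [← Nat.card_eq_of_bijective f hf, Nat.card_prod, Nat.card_eq_fintype_card (α := Bool), Fintype.card_bool]

/-- A product of two involutions: the conjugates of the first and of the second by powers. -/
theorem conj_first {a b : G} (ha : a * a = 1) (hb : b * b = 1) (j : ℕ) :
    (a * b) ^ j * a * ((a * b) ^ j)⁻¹ = (a * b) ^ (2 * j) * a ∧
      (a * b) ^ (j + 1) * b * ((a * b) ^ (j + 1))⁻¹ = (a * b) ^ (2 * j + 1) * a := by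
  have hai := inv_eq_of_mul_eq_one_right ha
  have hbi := inv_eq_of_mul_eq_one_right hb
  have h1 : ∀ k : ℕ, a * ((a * b) ^ k)⁻¹ = (a * b) ^ k * a := fun k => by
    have hc : a * (a * b) * a⁻¹ = (a * b)⁻¹ := by rw [mul_inv_rev, hai, hbi, ← mul_assoc a, ha, one_mul]
    rw [← inv_pow, ← hc, conj_pow, ← mul_assoc a, ← mul_assoc a, ha, one_mul, hai]
  refine ⟨by rw [mul_assoc, h1, ← mul_assoc, ← pow_add, two_mul], ?_⟩
  rw [show b = a * (a * b) by rw [← mul_assoc, ha, one_mul]]
  rw [show a * (a * (a * b)) = a * b by rw [← mul_assoc a a, ha, one_mul]]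
  rw [show (a * b) ^ (j + 1) * (a * (a * b)) * ((a * b) ^ (j + 1))⁻¹ =
      (a * b) ^ (j + 1) * (a * ((a * b) ^ j)⁻¹) by rw [pow_succ]; group, h1, ← mul_assoc, ← pow_add]
  congr 2
  omega

namespace Frm

variable {z t : G} {Q R : Subgroup G} {π π' : G → V6} {ρ ρ' : G → qAut qm} {r s ω au bu av bv τ : G}
  {m n u v : V6} (F : Frm z t Q R π π' ρ ρ' r s ω au bu av bv m n u v) (O : Outer z t r s au av τ)

include F

/-- A power of a product of two conjugates of `z` in `C(V)` meets `V` trivially. -/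
theorem V_trivial {w : G} (hw : IsConj z w) {d : ℕ} (hd : (z * w) ^ d ∈ closure ({r, s} : Set G)) :
    (z * w) ^ d = 1 := by
  have hw2 : w * w = 1 := by
    obtain ⟨g, rfl⟩ := isConj_iff.1 hw
    rw [show g * z * g⁻¹ * (g * z * g⁻¹) = g * (z * z) * g⁻¹ by group, F.P.S.z2]; group
  have hcomm := closure_comm F.z_mem_CV hd
  rcases Nat.even_or_odd' d with ⟨j, rfl | rfl⟩
  · refine F.zclass_coset hd (isConj_iff.2 ⟨(z * w) ^ j, ?_⟩)
    rw [(conj_first F.P.S.z2 hw2 j).1, hcomm]
  · refine F.zclass_coset hd (hw.trans (isConj_iff.2 ⟨(z * w) ^ (j + 1), ?_⟩))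
    rw [(conj_first F.P.S.z2 hw2 j).2, hcomm]

include O

theorem card_TT : Nat.card (TT z r) = 512 := by
  rw [card_two_cosets F.HH_le_TT (F.tau_mem O) (fun h => O.hs (mem_HH.1 h).2.2) (fun d hd => F.TT_cases O hd),
    F.card_H]

theorem card_Cr : Nat.card (centralizer ({r} : Set G)) = 161280 := by
  rw [card_two_cosets (H := CV r s) (fun d hd => mem_centralizer_singleton_iff.2 (mem_CV.1 hd).1)
    (mem_centralizer_singleton_iff.2 O.hr) (fun h => O.hs (mem_CV.1 h).2)
    (fun d hd => F.cent_r_cases O (mem_centralizer_singleton_iff.1 hd)), F.card_CV]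

theorem count_N : Nat.card {w : G // IsConj r w ∧ r ∈ zpowers (z * w)} = 193 := by
  classical
  have S := F.P.S
  have C := F.cit
  set μ := QuotientGroup.mk' (VK r s) with hμ
  set Z := μ ⟨z, F.z_mem_CV⟩ with hZ
  have hV : ∀ {x : CV r s}, μ x = 1 ↔ (x : G) ∈ closure ({r, s} : Set G) := fun {x} => by
    rw [hμ, QuotientGroup.mk'_apply, QuotientGroup.eq_one_iff, VK, mem_subgroupOf]
  have hrV : r ∈ closure ({r, s} : Set G) := subset_closure (by simp)
  have hrCV : r ∈ CV r s := mem_CV.2 ⟨rfl, F.rs⟩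
  have hμr : μ ⟨r, hrCV⟩ = 1 := hV.2 hrV
  have hsq : ∀ {w}, IsConj r w → w * w = 1 := fun {w} hw => by
    obtain ⟨g, rfl⟩ := isConj_iff.1 hw
    rw [show g * r * g⁻¹ * (g * r * g⁻¹) = g * (r * r) * g⁻¹ by group, F.r2]; group
  -- lifts of involutions
  have hlift : ∀ j : XX r s, orderOf j = 2 → ∃ a : CV r s, IsConj z (a : G) ∧ μ a = j := fun j hj => by
    obtain ⟨c', hc'⟩ := isConj_iff.1 (C.conj_all hj)
    obtain ⟨c, rfl⟩ := QuotientGroup.mk'_surjective _ c'
    exact ⟨c * ⟨z, F.z_mem_CV⟩ * c⁻¹, isConj_iff.2 ⟨(c : G), rfl⟩, by rw [map_mul, map_mul, map_inv]; exact hc'⟩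
  choose L hLz hLμ using hlift
  have huniq : ∀ {a b : CV r s}, IsConj z (a : G) → IsConj z (b : G) → μ a = μ b → a = b := by
    intro a b ha hb e
    obtain ⟨c, hc, hca⟩ := F.cv_class a.2 ha
    obtain ⟨⟨x, hxC⟩, hx, e'⟩ := (QuotientGroup.mk'_eq_mk' _).1 e
    have e'' : (a : G) * x = b := congrArg Subtype.val e'
    have hxV : x ∈ closure ({r, s} : Set G) := mem_subgroupOf.1 hx
    have : z * x = c⁻¹ * b * c := by
      calc z * x = c⁻¹ * (c * z * c⁻¹ * (c * x * c⁻¹)) * c := by group
        _ = c⁻¹ * b * c := by rw [closure_comm hc hxV, mul_inv_cancel_right, hca, e'']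
    have h1 := F.zclass_coset hxV (this ▸ hb.trans (isConj_iff.2 ⟨c⁻¹, by group⟩))
    exact Subtype.ext (by rw [← e'', h1, mul_one])
  have hpow : ∀ {a : G}, a * r = r * a → ∀ i : ℕ, (z * (a * r)) ^ i = (z * a) ^ i * r ^ i := fun {a} ha i => by
    rw [← mul_assoc]
    exact (Commute.mul_left (show Commute z r from F.r_co.1.symm) ha).mul_pow i
  have hrj : ∀ j hj, IsConj r ((L j hj : G) * r) := fun j hj => by
    have hc : (L j hj : G) * r = r * L j hj := (mem_CV.1 (L j hj).2).1
    have h2 : (L j hj : G) * r * ((L j hj : G) * r) = 1 := by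
      obtain ⟨g, hg⟩ := isConj_iff.1 (hLz j hj)
      rw [show (L j hj : G) * r * ((L j hj : G) * r) = (L j hj : G) * (r * L j hj) * r by group, ← hc,
        show (L j hj : G) * ((L j hj : G) * r) * r = (L j hj : G) * L j hj * (r * r) by group, F.r2, mul_one, ← hg,
        show g * z * g⁻¹ * (g * z * g⁻¹) = g * (z * z) * g⁻¹ by group, S.z2]
      group
    have h1 : (L j hj : G) * r ≠ 1 := fun e => F.not_conj_r (by
      have : (L j hj : G) = r := by
        rw [← inv_eq_of_mul_eq_one_left e]; exact inv_eq_of_mul_eq_one_right F.r2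
      exact this ▸ hLz j hj)
    rcases F.classes_r h2 h1 with h | h
    · have := huniq (a := L j hj) (b := L j hj * ⟨r, hrCV⟩) (hLz j hj) h (by rw [map_mul, hμr, mul_one])
      exact absurd (congrArg Subtype.val (mul_eq_left.1 this.symm)) F.r_ne_one
    · exact h
  have hodd : ∀ j hj, Odd (orderOf (Z * j)) → r ∈ zpowers (z * ((L j hj : G) * r)) := fun j hj ho => by
    refine mem_zpowers_iff.2 ⟨(orderOf (Z * j) : ℕ), ?_⟩
    rw [zpow_natCast, hpow (mem_CV.1 (L j hj).2).1]
    have h1 : (z * (L j hj : G)) ^ orderOf (Z * j) = 1 := F.V_trivial (hLz j hj) (by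
      have h : μ ((⟨z, F.z_mem_CV⟩ * L j hj) ^ orderOf (Z * j)) = 1 := by
        rw [map_pow, map_mul, ← hZ, hLμ, pow_orderOf_eq_one]
      exact hV.1 h)
    obtain ⟨l, hl⟩ := ho
    rw [h1, one_mul, hl, pow_succ, pow_mul, pow_two r, F.r2, one_pow, one_mul]
  let f : {j : XX r s // orderOf j = 2 ∧ Odd (orderOf (Z * j))} → {w : G // IsConj r w ∧ r ∈ zpowers (z * w)} :=
    fun j => ⟨(L j.1 j.2.1 : G) * r, hrj _ _, hodd _ _ j.2.2⟩
  have hf : Function.Bijective f := by
    refine ⟨fun j j' e => ?_, fun ⟨w, hwr, hwp⟩ => ?_⟩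
    · refine Subtype.ext ?_
      have e' : (L j.1 j.2.1 : G) = L j'.1 j'.2.1 := mul_right_cancel (congrArg Subtype.val e)
      rw [← hLμ j.1 j.2.1, ← hLμ j'.1 j'.2.1, Subtype.ext e']
    have hw2 := hsq hwr
    have hwp' : r ∈ zpowers (w * z) := by
      have := inv_eq_of_mul_eq_one_right hw2
      rw [show w * z = (z * w)⁻¹ by rw [mul_inv_rev, this, inv_eq_of_mul_eq_one_right S.z2], zpowers_inv]
      exact hwp
    have hwc := commute_of_mem_pair F.r2 hw2 S.z2 hwp'
    obtain ⟨i, hi⟩ := mem_powers_iff_mem_zpowers.2 hwp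
    dsimp only at hi
    have hwC : w ∈ CV r s := by
      rcases F.normal_V O hwc with h | h
      · exact mem_CV.2 ⟨hwc, mul_inv_eq_iff_eq_mul.1 h⟩
      exfalso
      have hri : r⁻¹ = r := inv_eq_of_mul_eq_one_right F.r2
      have hwi : w⁻¹ = w := inv_eq_of_mul_eq_one_right hw2
      have hz' : w * z * w ∈ CV r s := by
        refine mem_CV.2 ⟨((show Commute w r from hwc).mul_left F.r_co.1.symm).mul_left hwc, ?_⟩
        have h' : w * s * w = r * s := by rwa [hwi] at h
        have h'' : w * (r * s) * w = s := by rw [← h', show w * (w * s * w) * w = w * w * s * (w * w) by group, hw2]; simp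
        calc w * z * w * s = w * z * (w * s * w) * w := by
              rw [show w * z * (w * s * w) * w = w * z * w * s * (w * w) by group, hw2, mul_one]
          _ = w * (z * (r * s)) * w := by rw [h']; group
          _ = w * ((r * s) * z) * w := by
            rw [(show Commute z (r * s) from (show Commute z r from F.r_co.1.symm).mul_right F.s_co.1.symm).eq]
          _ = (w * (r * s) * w) * (w * z * w) := by
            rw [show w * (r * s) * w * (w * z * w) = w * (r * s) * (w * w) * z * w by group, hw2, mul_one]; group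
          _ = s * (w * z * w) := by rw [h'']
      have hsq' : z * w * (z * w) = z * (w * z * w) := by group
      rcases Nat.even_or_odd' i with ⟨l, rfl | rfl⟩
      · rw [pow_mul, pow_two, hsq'] at hi
        have := F.V_trivial (w := w * z * w) (d := l) (isConj_iff.2 ⟨w, by rw [hwi]⟩) (hi.symm ▸ hrV)
        exact F.r_ne_one (hi.symm.trans this)
      · rw [pow_succ, pow_mul, pow_two, hsq'] at hi
        have hzw : z * w ∈ CV r s := by
          have := mul_mem (inv_mem (pow_mem (mul_mem F.z_mem_CV hz') l)) hrCV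
          rwa [show ((z * (w * z * w)) ^ l)⁻¹ * r = z * w from inv_mul_eq_iff_eq_mul.2 hi.symm] at this
        have hw' : w ∈ CV r s := by
          have := mul_mem (inv_mem F.z_mem_CV) hzw
          rwa [inv_mul_cancel_left] at this
        rw [show w * s * w⁻¹ = s from mul_inv_eq_iff_eq_mul.2 (mem_CV.1 hw').2] at h
        exact F.r_ne_one (mul_eq_right.1 h.symm)
    set j := μ ⟨w, hwC⟩ with hj
    have hj1 : j ≠ 1 := fun e => by
      have hwV := hV.1 e
      have hc : Commute z w := (closure_comm F.z_mem_CV hwV)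
      rw [hc.mul_pow] at hi
      rcases Nat.even_or_odd' i with ⟨l, rfl | rfl⟩
      · rw [pow_mul, pow_mul, pow_two, pow_two, S.z2, hw2, one_pow, one_mul] at hi
        exact F.r_ne_one hi.symm
      · rw [pow_succ, pow_succ, pow_mul, pow_mul, pow_two, pow_two, S.z2, hw2, one_pow, one_mul, one_mul] at hi
        refine F.z_notMem_V ?_
        rw [show z = r * w by rw [← hi, mul_assoc, hw2, mul_one]]
        exact mul_mem hrV hwV
    have hjo : orderOf j = 2 := orderOf_two'.2 ⟨by
      rw [hj, ← map_mul, show (⟨w, hwC⟩ * ⟨w, hwC⟩ : CV r s) = 1 from Subtype.ext hw2, map_one], hj1⟩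
    obtain ⟨⟨x, hxC⟩, hx, e'⟩ := (QuotientGroup.mk'_eq_mk' _).1 (hLμ j hjo)
    have e'' : (L j hjo : G) * x = w := congrArg Subtype.val e'
    have hxV : x ∈ closure ({r, s} : Set G) := mem_subgroupOf.1 hx
    have hzx : Commute (z * (L j hjo : G)) x :=
      Commute.mul_left (closure_comm F.z_mem_CV hxV) (closure_comm (L j hjo).2 hxV)
    rw [← e'', ← mul_assoc, hzx.mul_pow] at hi
    have h1 : (z * (L j hjo : G)) ^ i = 1 := F.V_trivial (hLz j hjo) (by
      rw [show (z * (L j hjo : G)) ^ i = r * (x ^ i)⁻¹ from eq_mul_inv_of_mul_eq hi]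
      exact mul_mem hrV (inv_mem (pow_mem hxV i)))
    rw [h1, one_mul] at hi
    have hx2 : x * x = 1 := by
      obtain ⟨a, b, rfl⟩ := F.mem_V hxV
      rcases two_cases a with rfl | rfl <;> rcases two_cases b with rfl | rfl <;>
        simp only [zb_zero, zb_one, one_mul, mul_one, F.r2, F.s2]
      rw [show r * s * (r * s) = r * (s * r) * s by group, ← F.rs, show r * (r * s) * s = r * r * (s * s) by group,
        F.r2, F.s2, one_mul]
    have hio : Odd i ∧ x = r := by
      rcases Nat.even_or_odd' i with ⟨l, rfl | rfl⟩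
      · rw [pow_mul, pow_two, hx2, one_pow] at hi
        exact absurd hi.symm F.r_ne_one
      · rw [pow_succ, pow_mul, pow_two, hx2, one_pow, one_mul] at hi
        exact ⟨⟨l, rfl⟩, hi⟩
    have hdvd : orderOf (Z * j) ∣ i := orderOf_dvd_of_pow_eq_one (by
      rw [hZ, ← hLμ j hjo, ← map_mul, ← map_pow,
        show (⟨z, F.z_mem_CV⟩ * L j hjo) ^ i = 1 from Subtype.ext h1, map_one])
    refine ⟨⟨j, hjo, hio.1.of_dvd_nat hdvd⟩, Subtype.ext ?_⟩
    show (L j hjo : G) * r = w
    exact (congrArg ((L j hjo : G) * ·) hio.2).symm.trans e''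
  rw [← Nat.card_eq_of_bijective f hf]
  haveI := Fintype.ofFinite (XX r s)
  have h315 := C.card_X
  rw [C.main_count.1] at h315
  have h123 := C.card_even_partners
  rw [Nat.card_eq_fintype_card, Fintype.card_subtype] at h315 h123 ⊢
  have hZ2 : orderOf Z = 2 := C.z_order
  have hZZ : Z * Z = 1 := C.z2
  have hset : (Finset.univ.filter fun j : XX r s => orderOf j = 2 ∧ ¬ (Odd (orderOf (Z * j)) ∧ Z * j ≠ 1)) =
      insert Z (Finset.univ.filter fun j : XX r s => orderOf j = 2 ∧ ¬ Odd (orderOf (Z * j))) := by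
    ext j
    simp only [Finset.mem_insert, Finset.mem_filter, Finset.mem_univ, true_and]
    constructor
    · rintro ⟨h2, h⟩
      by_cases ho : Odd (orderOf (Z * j))
      · refine .inl ?_
        have e : Z * j = 1 := not_not.1 fun h' => h ⟨ho, h'⟩
        rw [← inv_eq_of_mul_eq_one_right e, inv_eq_of_mul_eq_one_right hZZ]
      · exact .inr ⟨h2, ho⟩
    · rintro (rfl | ⟨h2, ho⟩)
      · exact ⟨hZ2, fun h => h.2 hZZ⟩
      · exact ⟨h2, fun h => ho h.1⟩
  rw [hset, Finset.card_insert_of_notMem (by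
    simp only [Finset.mem_filter, Finset.mem_univ, true_and, not_and, not_not]
    intro; rw [hZZ, orderOf_one]; decide)] at h123
  have h := Finset.card_filter_add_card_filter_not (s := Finset.univ.filter fun j : XX r s => orderOf j = 2)
    (fun j => Odd (orderOf (Z * j)))
  rw [Finset.filter_filter, Finset.filter_filter] at h
  have h315' : (Finset.univ.filter fun j : XX r s => orderOf j = 2).card * 64 = 20160 := by convert h315 using 4
  omega

end Frm

end CfsgLib.SuzType
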