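import Mathlib
import Cfsg.Agent.S0213
import Cfsg.Agent.Lib.SuzType.Local.NCount

/-!
Suzuki type: the order of the group modulo five, by the Thompson order formula.
-/

set_option autoImplicit false
set_option linter.style.haveILetI false
set_option linter.unusedSectionVars false
set_option linter.unusedSimpArgs false

namespace CfsgLib.SuzType

open Subgroup CfsgLib.Classical

variable {G : Type*} [Group G] [Finite G]

/-- Conjugates inside a centralizer. -/
theorem card_orbit (x y : G) (hxy : y * x = x * y) {P : G → Prop}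
    (hP : ∀ w, P w ↔ ∃ c, c * x = x * c ∧ c * y * c⁻¹ = w) :
    Nat.card {w : G // P w} * Nat.card ↥(centralizer ({x} : Set G) ⊓ centralizer ({y} : Set G)) =
      Nat.card (centralizer ({x} : Set G)) := by
  classical
  set H := centralizer ({x} : Set G) with hH
  have hy : y ∈ H := mem_centralizer_singleton_iff.2 hxy
  have h := CfsgLib.Invol.card_conjugates_mul (G := H) ⟨y, hy⟩
  have hc : Nat.card (centralizer ({(⟨y, hy⟩ : H)} : Set H)) = Nat.card ↥(H ⊓ centralizer ({y} : Set G)) :=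
    Nat.card_congr
      { toFun := fun w => ⟨((w : H) : G), mem_inf.2 ⟨(w : H).2, mem_centralizer_singleton_iff.2
          (congrArg Subtype.val (mem_centralizer_singleton_iff.1 w.2))⟩⟩
        invFun := fun w => ⟨⟨w, (mem_inf.1 w.2).1⟩, mem_centralizer_singleton_iff.2
          (Subtype.ext (mem_centralizer_singleton_iff.1 (mem_inf.1 w.2).2))⟩
        left_inv := fun _ => rfl
        right_inv := fun _ => rfl }
  have hw : Nat.card {w : G // P w} = Nat.card {w : H // IsConj (⟨y, hy⟩ : H) w} := by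
    refine (Nat.card_eq_of_bijective
      (fun w : {w : H // IsConj (⟨y, hy⟩ : H) w} => (⟨(w.1 : G), (hP _).2 ?_⟩ : {w : G // P w})) ⟨?_, ?_⟩).symm
    · obtain ⟨c, hc⟩ := isConj_iff.1 w.2
      exact ⟨c, mem_centralizer_singleton_iff.1 c.2, congrArg Subtype.val hc⟩
    · intro a b e
      have e' : ((a.1 : H) : G) = ((b.1 : H) : G) := Subtype.mk.inj e
      exact Subtype.ext (Subtype.ext e')
    · rintro ⟨w, hw⟩
      obtain ⟨c, hc, rfl⟩ := (hP _).1 hw
      exact ⟨⟨⟨c, mem_centralizer_singleton_iff.2 hc⟩ * ⟨y, hy⟩ * ⟨c, mem_centralizer_singleton_iff.2 hc⟩⁻¹,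
        isConj_iff.2 ⟨_, rfl⟩⟩, rfl⟩
  rw [hw, ← hc]
  exact h

namespace Frm

variable {z t : G} {Q R : Subgroup G} {π π' : G → V6} {ρ ρ' : G → qAut qm} {r s ω au bu av bv τ : G}
  {m n u v : V6} (F : Frm z t Q R π π' ρ ρ' r s ω au bu av bv m n u v) (O : Outer z t r s au av τ)

include F

/-- Conjugates of `r` in `C(z)` form one class there. -/
theorem r_class {w : G} (hw : IsConj r w) (hwz : w * z = z * w) : ∃ c, c * z = z * c ∧ c * r * c⁻¹ = w := by
  have P := F.P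
  have hwC : w ∈ centralizer ({z} : Set G) := mem_centralizer_singleton_iff.2 hwz
  have hw2 : w * w = 1 := by
    obtain ⟨g, rfl⟩ := isConj_iff.1 hw
    rw [show g * r * g⁻¹ * (g * r * g⁻¹) = g * (r * r) * g⁻¹ by group, F.r2]; group
  have hnz : ¬ IsConj z w := fun h => F.not_conj_r (h.trans hw.symm)
  have hwQ : w ∉ Q := fun h => hnz (P.q_conj F.C.zt h hw2 fun e => F.r_ne_one (by
    obtain ⟨g, hg⟩ := isConj_iff.1 hw
    rw [e, conj_eq_one_iff] at hg; exact hg))
  obtain ⟨c, hc, a, b, ha, hat, hb, hbz, hbQ, hcw⟩ := P.to_U hwC hwQ hw2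
  have hab : a * b * (a * b) = 1 := by
    rw [← hcw, show c * w * c⁻¹ * (c * w * c⁻¹) = c * (w * w) * c⁻¹ by group, hw2, mul_one, mul_inv_cancel]
  have hq : qm (π' b) = 1 := (two_cases _).resolve_left fun e => hnz
    ((P.conj_z_of_zero F.C.zt ha hat hb hbz hbQ hab e).trans (isConj_iff.2 ⟨c⁻¹, by rw [← hcw]; group⟩))
  obtain ⟨d, hd, hde⟩ := P.typeOne_conj F.typeOne_r (P.typeOne_of ha hat hb hbz hbQ hab hq)
  refine ⟨c⁻¹ * d, mem_centralizer_singleton_iff.1 (mul_mem (inv_mem hc) hd), ?_⟩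
  calc c⁻¹ * d * r * (c⁻¹ * d)⁻¹ = c⁻¹ * (d * r * d⁻¹) * c := by group
    _ = w := by rw [hde, ← hcw]; group

theorem z_class {w : G} (hw : IsConj z w) (hwr : w * r = r * w) : ∃ c, c * r = r * c ∧ c * z * c⁻¹ = w := by
  obtain ⟨g, rfl⟩ := isConj_iff.1 hw
  have h := comm_conj (g := g⁻¹) hwr
  rw [show g⁻¹ * (g * z * g⁻¹) * g⁻¹⁻¹ = z by group] at h
  obtain ⟨c, hc, e⟩ := F.r_class (isConj_iff.2 ⟨g⁻¹, rfl⟩) h.symm
  refine ⟨g * c, mul_inv_eq_iff_eq_mul.1 ?_, ?_⟩
  · rw [show g * c * r * (g * c)⁻¹ = g * (c * r * c⁻¹) * g⁻¹ by group, e]; group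
  · rw [show g * c * z * (g * c)⁻¹ = g * (c * z * c⁻¹) * g⁻¹ by group, hc, mul_inv_cancel_right]

include O

/-- The order. -/
theorem card_G : ∃ k : ℕ, Nat.card G = 1045094400 * k ∧ (k : ZMod 5) = 4 := by
  classical
  have S := F.P.S
  have hz2 : orderOf z = 2 := orderOf_eq_prime (by rw [pow_two, S.z2]) S.z1
  have hall : ∀ w : G, orderOf w = 2 → IsConj z w ∨ IsConj r w := fun w hw => by
    obtain ⟨h2, h1⟩ := orderOf_two'.1 hw
    exact F.classes_r h2 h1
  have hord := Cfsg.Agent.S0213.result z r hz2 F.r_order F.not_conj_r hall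
  have sqz : ∀ {w}, IsConj z w → w * w = 1 := fun {w} hw => by
    obtain ⟨g, rfl⟩ := isConj_iff.1 hw
    rw [show g * z * g⁻¹ * (g * z * g⁻¹) = g * (z * z) * g⁻¹ by group, S.z2]; group
  have sqr : ∀ {w}, IsConj r w → w * w = 1 := fun {w} hw => by
    obtain ⟨g, rfl⟩ := isConj_iff.1 hw
    rw [show g * r * g⁻¹ * (g * r * g⁻¹) = g * (r * r) * g⁻¹ by group, F.r2]; group
  have hrev : ∀ {x a b : G}, a * a = 1 → b * b = 1 → x ∈ zpowers (a * b) → x ∈ zpowers (b * a) :=
    fun {x a b} ha hb h => by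
    rw [show b * a = (a * b)⁻¹ by rw [mul_inv_rev, inv_eq_of_mul_eq_one_right ha, inv_eq_of_mul_eq_one_right hb],
      zpowers_inv]
    exact h
  have cz : ∀ {g a b : G}, IsConj a b → IsConj a (g * b * g⁻¹) := fun {g} _ _ h => h.trans (isConj_iff.2 ⟨g, rfl⟩)
  -- the pairs at `z`
  have hv : ∀ x : {w : G // IsConj r w ∧ w * z = z * w}, ∃ c, c * z = z * c ∧ c * r * c⁻¹ = x.1 :=
    fun x => F.r_class x.2.1 x.2.2
  choose cv hcvz hcvr using hv
  let fz : {w : G // IsConj r w ∧ w * z = z * w} × {w : G // IsConj z w ∧ z ∈ zpowers (w * r)} →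
      {p : G × G // IsConj z p.1 ∧ IsConj r p.2 ∧ z ∈ zpowers (p.1 * p.2)} := fun x =>
    ⟨(cv x.1 * x.2.1 * (cv x.1)⁻¹, x.1.1), cz x.2.2.1, x.1.2.1, by
      rw [zpowers_pair_conj (cv x.1) z _ _ (hcvz x.1), show (cv x.1)⁻¹ * x.1.1 * cv x.1 = r by rw [← hcvr x.1]; group,
        show (cv x.1)⁻¹ * (cv x.1 * x.2.1 * (cv x.1)⁻¹) * cv x.1 = x.2.1 by group]
      exact x.2.2.2⟩
  have hfz : Function.Bijective fz := by
    refine ⟨fun x y e => ?_, fun ⟨⟨a, b⟩, ha, hb, hab⟩ => ?_⟩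
    · have e' := congrArg Subtype.val e
      obtain ⟨e1, e2⟩ := Prod.ext_iff.1 e'
      have hx : x.1 = y.1 := Subtype.ext e2
      change cv x.1 * x.2.1 * (cv x.1)⁻¹ = cv y.1 * y.2.1 * (cv y.1)⁻¹ at e1
      rw [hx] at e1
      exact Prod.ext hx (Subtype.ext (mul_left_cancel (mul_right_cancel e1)))
    · have hbz := commute_of_mem_pair S.z2 (sqr hb) (sqz ha) (hrev (sqz ha) (sqr hb) hab)
      set c := cv ⟨b, hb, hbz⟩ with hc
      refine ⟨(⟨b, hb, hbz⟩, ⟨c⁻¹ * a * c, ?_, ?_⟩), Subtype.ext (Prod.ext ?_ rfl)⟩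
      · have := cz (g := c⁻¹) ha; rwa [inv_inv] at this
      · have h := (zpowers_pair_conj c z a b (hcvz _)).1 hab
        rwa [show c⁻¹ * b * c = r by
          have := hcvr ⟨b, hb, hbz⟩
          rw [show b = c * r * c⁻¹ from this.symm]; group] at h
      · show c * (c⁻¹ * a * c) * c⁻¹ = a
        group
  -- the pairs at `r`
  have hu : ∀ x : {w : G // IsConj z w ∧ w * r = r * w}, ∃ c, c * r = r * c ∧ c * z * c⁻¹ = x.1 :=
    fun x => F.z_class x.2.1 x.2.2
  choose cu hcur hcuz using hu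
  let fr : {w : G // IsConj z w ∧ w * r = r * w} × {w : G // IsConj r w ∧ r ∈ zpowers (z * w)} →
      {p : G × G // IsConj z p.1 ∧ IsConj r p.2 ∧ r ∈ zpowers (p.1 * p.2)} := fun x =>
    ⟨(x.1.1, cu x.1 * x.2.1 * (cu x.1)⁻¹), x.1.2.1, cz x.2.2.1, by
      rw [zpowers_pair_conj (cu x.1) r _ _ (hcur x.1), show (cu x.1)⁻¹ * x.1.1 * cu x.1 = z by rw [← hcuz x.1]; group,
        show (cu x.1)⁻¹ * (cu x.1 * x.2.1 * (cu x.1)⁻¹) * cu x.1 = x.2.1 by group]
      exact x.2.2.2⟩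
  have hfr : Function.Bijective fr := by
    refine ⟨fun x y e => ?_, fun ⟨⟨a, b⟩, ha, hb, hab⟩ => ?_⟩
    · have e' := congrArg Subtype.val e
      obtain ⟨e1, e2⟩ := Prod.ext_iff.1 e'
      have hx : x.1 = y.1 := Subtype.ext e1
      change cu x.1 * x.2.1 * (cu x.1)⁻¹ = cu y.1 * y.2.1 * (cu y.1)⁻¹ at e2
      rw [hx] at e2
      exact Prod.ext hx (Subtype.ext (mul_left_cancel (mul_right_cancel e2)))
    · have har := commute_of_mem_pair F.r2 (sqz ha) (sqr hb) hab
      set c := cu ⟨a, ha, har⟩ with hc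
      refine ⟨(⟨a, ha, har⟩, ⟨c⁻¹ * b * c, ?_, ?_⟩), Subtype.ext (Prod.ext rfl ?_)⟩
      · have := cz (g := c⁻¹) hb; rwa [inv_inv] at this
      · have h := (zpowers_pair_conj c r a b (hcur _)).1 hab
        rwa [show c⁻¹ * a * c = z by
          have := hcuz ⟨a, ha, har⟩
          rw [show a = c * z * c⁻¹ from this.symm]; group] at h
      · show c * (c⁻¹ * b * c) * c⁻¹ = b
        group
  rw [← Nat.card_eq_of_bijective fz hfz, ← Nat.card_eq_of_bijective fr hfr, Nat.card_prod, Nat.card_prod,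
    F.card_Cr O, S.card_C, F.count_N O] at hord
  have hV : Nat.card {w : G // IsConj r w ∧ w * z = z * w} = 6480 := by
    have h := card_orbit z r F.r_co.1 (P := fun w => IsConj r w ∧ w * z = z * w) fun w =>
      ⟨fun h => F.r_class h.1 h.2, fun ⟨c, hc, e⟩ => by
        subst e
        refine ⟨isConj_iff.2 ⟨c, rfl⟩, ?_⟩
        calc c * r * c⁻¹ * z = c * r * (c⁻¹ * z) := by group
          _ = c * (r * z) * c⁻¹ := by rw [(show Commute c z from hc).inv_left.eq]; group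
          _ = c * (z * r) * c⁻¹ := by rw [F.r_co.1]
          _ = z * (c * r * c⁻¹) := by rw [← mul_assoc c, hc]; group⟩
    rw [show centralizer ({z} : Set G) ⊓ centralizer ({r} : Set G) = TT z r from rfl, F.card_TT O, S.card_C] at h
    omega
  have hU : Nat.card {w : G // IsConj z w ∧ w * r = r * w} = 315 := by
    have h := card_orbit r z F.r_co.1.symm (P := fun w => IsConj z w ∧ w * r = r * w) fun w =>
      ⟨fun h => F.z_class h.1 h.2, fun ⟨c, hc, e⟩ => by
        subst e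
        refine ⟨isConj_iff.2 ⟨c, rfl⟩, ?_⟩
        calc c * z * c⁻¹ * r = c * z * (c⁻¹ * r) := by group
          _ = c * (z * r) * c⁻¹ := by rw [(show Commute c r from hc).inv_left.eq]; group
          _ = c * (r * z) * c⁻¹ := by rw [F.r_co.1]
          _ = r * (c * z * c⁻¹) := by rw [← mul_assoc c, hc]; group⟩
    rw [inf_comm, show centralizer ({z} : Set G) ⊓ centralizer ({r} : Set G) = TT z r from rfl, F.card_TT O,
      F.card_Cr O] at h
    omega
  rw [hV, hU] at hord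
  refine ⟨Nat.card {w : G // IsConj z w ∧ z ∈ zpowers (w * r)} + 193, by rw [hord]; ring, ?_⟩
  rw [Nat.cast_add, F.count_M]
  rfl

end Frm

end CfsgLib.SuzType
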