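import Mathlib
import Cfsg.Agent.Lib.Transfer.Fusion

/-!
Simple groups of order 360 with centralizers of involutions of order 8: inverted elements of order five.
-/

set_option autoImplicit false
set_option linter.style.haveILetI false

namespace CfsgLib.SuzType

open Subgroup

theorem perm_no_fifteen {α : Type*} [Fintype α] [DecidableEq α] (hα : Fintype.card α = 6) (σ : Equiv.Perm α) :
    orderOf σ ≠ 15 := by
  intro h
  have hsum : σ.cycleType.sum ≤ 6 := by
    rw [Equiv.Perm.sum_cycleType, ← hα]; exact Finset.card_le_univ _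
  have hdiv : ∀ p : ℕ, p.Prime → p ∣ 15 → ∃ n ∈ σ.cycleType, p ∣ n := by
    intro p hp hd
    rw [← h, ← Equiv.Perm.lcm_cycleType] at hd
    have : ∀ s : Multiset ℕ, p ∣ s.lcm → ∃ n ∈ s, p ∣ n := by
      intro s
      induction s using Multiset.induction_on with
      | empty => intro h'; rw [Multiset.lcm_zero] at h'; exact absurd (Nat.dvd_one.1 h') hp.ne_one
      | cons a s ih =>
        intro h'
        rw [Multiset.lcm_cons] at h'
        rcases hp.dvd_mul.1 (h'.trans (Nat.lcm_dvd_mul _ _)) with e | e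
        · exact ⟨a, Multiset.mem_cons_self a s, e⟩
        · obtain ⟨n, hn, hpn⟩ := ih e
          exact ⟨n, Multiset.mem_cons_of_mem hn, hpn⟩
    exact this _ hd
  obtain ⟨a, ha, ha3⟩ := hdiv 3 Nat.prime_three (by norm_num)
  obtain ⟨b, hb, hb5⟩ := hdiv 5 (by norm_num) (by norm_num)
  have hb2 := Equiv.Perm.two_le_of_mem_cycleType hb
  have ha2 := Equiv.Perm.two_le_of_mem_cycleType ha
  by_cases hab : a = b
  · subst hab
    have h15 : 15 ∣ a := Nat.Coprime.mul_dvd_of_dvd_of_dvd (by norm_num : Nat.Coprime 3 5) ha3 hb5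
    have := Multiset.le_sum_of_mem ha
    have := Nat.le_of_dvd (by omega) h15
    omega
  · obtain ⟨s, hs⟩ := Multiset.exists_cons_of_mem ha
    have hb' : b ∈ s := by
      rw [hs, Multiset.mem_cons] at hb
      exact hb.resolve_left (Ne.symm hab)
    have := Multiset.le_sum_of_mem hb'
    rw [hs, Multiset.sum_cons] at hsum
    have := Nat.le_of_dvd (by omega) ha3
    have := Nat.le_of_dvd (by omega) hb5
    omega

theorem sq_one_five : ∀ a : ZMod 5, a * a = 1 → a = 1 ∨ a + 1 = 0 := by decide

/-- An inverted element of order five with centralizer of order five. -/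
theorem five_in_360 {L : Type*} [Group L] [Finite L] [IsSimpleGroup L] (hL : Nat.card L = 360)
    (hodd : ∀ w : L, orderOf w = 2 → ∀ y : L, orderOf y = 5 → w * y ≠ y * w) :
    ∃ y w : L, orderOf y = 5 ∧ orderOf w = 2 ∧ w * y * w⁻¹ = y⁻¹ ∧
      centralizer ({y} : Set L) = zpowers y := by
  classical
  haveI : Fact (Nat.Prime 5) := ⟨by norm_num⟩
  haveI : Fact (Nat.Prime 3) := ⟨Nat.prime_three⟩
  haveI : Fact (Nat.Prime 2) := ⟨Nat.prime_two⟩
  haveI := Fintype.ofFinite L
  obtain ⟨y, hy⟩ := exists_prime_orderOf_dvd_card' (G := L) 5 (by rw [hL]; norm_num)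
  let P : Sylow 5 L := Sylow.ofCard (zpowers y) (by
    rw [Nat.card_zpowers, hy, hL]
    have e1 := (Nat.Prime.pow_dvd_iff_le_factorization (show Nat.Prime 5 by norm_num)
      (show 360 ≠ 0 by norm_num)).1 (show 5 ^ 1 ∣ 360 by norm_num)
    have e2 := mt (Nat.Prime.pow_dvd_iff_le_factorization (show Nat.Prime 5 by norm_num)
      (show 360 ≠ 0 by norm_num)).2 (show ¬ 5 ^ 2 ∣ 360 by norm_num)
    rw [show Nat.factorization 360 5 = 1 by omega, pow_one])
  set N := normalizer (zpowers y : Set L) with hN
  have hmod : Nat.card (Sylow 5 L) ≡ 1 [MOD 5] := card_sylow_modEq_one 5 L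
  have hk : Nat.card (Sylow 5 L) = N.index := P.card_eq_index_normalizer
  rw [hk] at hmod
  have hidx := card_mul_index N
  rw [hL] at hidx
  have h5N : 5 ∣ Nat.card N := by
    have := card_dvd_of_le (le_normalizer : zpowers y ≤ N)
    rwa [Nat.card_zpowers, hy] at this
  obtain ⟨mN, hmN⟩ := h5N
  have hk72 : N.index ∣ 72 := ⟨mN, by rw [hmN] at hidx; linarith⟩
  have hcz : centralizer (zpowers y : Set L) = centralizer ({y} : Set L) := by
    rw [zpowers_eq_closure, centralizer_closure]
  set C := centralizer ({y} : Set L) with hC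
  have hCN : C ≤ N := by
    intro x hx
    refine mem_normalizer_iff.2 fun w => ?_
    have hc : ∀ {w}, w ∈ zpowers y → x * w * x⁻¹ = w := fun {w} hw => by
      obtain ⟨i, rfl⟩ := mem_zpowers_iff.1 hw
      rw [((show Commute x y from mem_centralizer_singleton_iff.1 hx).zpow_right i).eq, mul_inv_cancel_right]
    refine ⟨fun hw => by rw [hc hw]; exact hw, fun hw => ?_⟩
    have := hc hw
    rwa [mul_left_cancel (mul_right_cancel this)] at hw
  have hCodd : ¬ 2 ∣ Nat.card C := fun h2 => by
    obtain ⟨w, hw⟩ := exists_prime_orderOf_dvd_card' (G := C) 2 h2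
    exact hodd w (by rw [Subgroup.orderOf_coe, hw]) y hy (mem_centralizer_singleton_iff.1 w.2)
  set φ := (zpowers y).normalizerMonoidHom with hφ
  have hker : Nat.card φ.ker = Nat.card C := by
    rw [hφ, normalizerMonoidHom_ker, Nat.card_congr (subgroupOfEquivOfLe (hcz ▸ hCN)).toEquiv, hcz]
  have hr : Nat.card φ.range ∣ 4 := (card_subgroup_dvd_card _).trans (dvd_of_eq (by
    haveI : IsCyclic (zpowers y) := inferInstance
    rw [IsCyclic.card_mulAut, Nat.card_zpowers, hy, Nat.totient_prime (by norm_num : Nat.Prime 5)]))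
  have hcN := card_mul_index φ.ker
  rw [index_ker, hker] at hcN
  have h5C : 5 ∣ Nat.card C := hy ▸ orderOf_dvd_natCard C (mem_centralizer_singleton_iff.2 rfl)
  rcases (show ∀ k ∈ Nat.divisors 72, k % 5 = 1 → k = 1 ∨ k = 6 ∨ k = 36 by decide) _
    (Nat.mem_divisors.2 ⟨hk72, by norm_num⟩) hmod with h | h | h
  · exfalso
    have hNtop : N = ⊤ := index_eq_one.1 h
    have hn : (zpowers y).Normal := normalizer_eq_top_iff.1 hNtop
    rcases hn.eq_bot_or_eq_top with e | e
    · rw [zpowers_eq_bot] at e
      rw [e, orderOf_one] at hy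
      norm_num at hy
    · have := congrArg (fun K : Subgroup L => Nat.card K) e
      simp only [card_top, Nat.card_zpowers, hy, hL] at this
      norm_num at this
  · exfalso
    have hN60 : Nat.card N = 60 := by rw [h] at hidx; omega
    have hC15 : 3 ∣ Nat.card C := by
      by_contra h3
      have h60 : Nat.card C * Nat.card φ.range = 60 := hcN.trans hN60
      have h3d : 3 ∣ Nat.card C * Nat.card φ.range := by rw [h60]; norm_num
      rcases Nat.prime_three.dvd_mul.1 h3d with e | e
      · exact h3 e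
      · have := e.trans hr; norm_num at this
    obtain ⟨x, hx⟩ := exists_prime_orderOf_dvd_card' (G := C) 3 hC15
    have hx3 : orderOf (x : L) = 3 := by rw [Subgroup.orderOf_coe, hx]
    have h15 : orderOf ((x : L) * y) = 15 := by
      rw [Commute.orderOf_mul_eq_mul_orderOf_of_coprime (mem_centralizer_singleton_iff.1 x.2 : Commute (x : L) y)
        (by rw [hx3, hy]; norm_num), hx3, hy]
    let act := MulAction.toPermHom L (Sylow 5 L)
    have hinj : Function.Injective act := by
      rcases (act.normal_ker).eq_bot_or_eq_top with e | e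
      · exact (MonoidHom.ker_eq_bot_iff act).1 e
      · exfalso
        have hsub : Subsingleton (Sylow 5 L) := ⟨fun A B => by
          obtain ⟨g, rfl⟩ := MulAction.exists_smul_eq L A B
          have hgk : g ∈ act.ker := e ▸ mem_top g
          have hg : act g = 1 := MonoidHom.mem_ker.1 hgk
          exact (Equiv.ext_iff.1 hg A).symm⟩
        have : Nat.card (Sylow 5 L) ≤ 1 := Finite.card_le_one_iff_subsingleton.2 hsub
        omega
    haveI : Fintype (Sylow 5 L) := Fintype.ofFinite _
    exact perm_no_fifteen (by rw [← Nat.card_eq_fintype_card, hk, h]) (act ((x : L) * y))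
      (by rw [orderOf_injective act hinj, h15])
  · have hN10 : Nat.card N = 10 := by rw [h] at hidx; omega
    have hC5 : Nat.card C = 5 := by
      have hd : Nat.card C ∣ 10 := ⟨_, (hcN.trans hN10).symm⟩
      have hle := Nat.le_of_dvd (by norm_num) hd
      obtain ⟨j, hj⟩ := h5C
      rw [hj] at hd hle hCodd ⊢
      have : j ≤ 2 := by omega
      interval_cases j
      · norm_num at hd
      · rfl
      · exact absurd (by norm_num) hCodd
    have hCy : C = zpowers y := (eq_of_le_of_card_ge (zpowers_le.2 (mem_centralizer_singleton_iff.2 rfl)) (by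
      rw [hC5, Nat.card_zpowers, hy])).symm
    obtain ⟨w, hw⟩ := exists_prime_orderOf_dvd_card' (G := N) 2 (by rw [hN10]; norm_num)
    have hw2 : orderOf (w : L) = 2 := by rw [Subgroup.orderOf_coe, hw]
    obtain ⟨i, hi⟩ := mem_powers_iff_mem_zpowers.2 ((mem_normalizer_iff.1 w.2 y).1 (mem_zpowers y))
    dsimp only at hi
    refine ⟨y, w, hy, hw2, ?_, hCy⟩
    have hww : (w : L) * w = 1 := by rw [← pow_two, ← hw2, pow_orderOf_eq_one]
    have hii : y ^ (i * i) = y ^ 1 := by
      calc y ^ (i * i) = (y ^ i) ^ i := pow_mul _ _ _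
        _ = (w : L) * y ^ i * (w : L)⁻¹ := by rw [← conj_pow, ← hi]
        _ = y ^ 1 := by
          rw [hi, pow_one, show (w : L) * ((w : L) * y * (w : L)⁻¹) * (w : L)⁻¹ = (w : L) * w * y * ((w : L) * w)⁻¹ by group,
            hww]
          group
    have hc := (ZMod.natCast_eq_natCast_iff (i * i) 1 5).2 (hy ▸ pow_eq_pow_iff_modEq.1 hii)
    push_cast at hc
    rcases sq_one_five _ hc with e | e
    · exfalso
      have h1 : y ^ i = y ^ 1 := pow_eq_pow_iff_modEq.2 (hy.symm ▸ (ZMod.natCast_eq_natCast_iff i 1 5).1 (by simpa using e))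
      rw [pow_one] at h1
      rw [h1] at hi
      exact hodd w hw2 y hy (mul_inv_eq_iff_eq_mul.1 hi.symm)
    · rw [← hi]
      refine eq_inv_of_mul_eq_one_left ?_
      rw [← pow_succ, ← orderOf_dvd_iff_pow_eq_one, hy, ← ZMod.natCast_eq_zero_iff]
      · exact_mod_cast e

end CfsgLib.SuzType
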