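import Mathlib
import Cfsg.Agent.Lib.SuzType.Local.CentF
import Cfsg.Agent.Lib.SuzType.Local.Order360
import Cfsg.Agent.Lib.InvolChar.D8

/-!
Suzuki type: the centralizer of an element of order five of `C(z)`.
-/

set_option autoImplicit false
set_option linter.style.haveILetI false
set_option linter.unusedSectionVars false
set_option linter.unusedSimpArgs false

namespace CfsgLib.SuzType

open Subgroup CfsgLib.Classical

variable {G : Type*} [Group G] [Finite G]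

theorem mem_fiveCent_pow {f g : G} {i : ℕ} (h5 : orderOf f = 5) (hi : ¬ 5 ∣ i) (h : g * f ^ i = f ^ i * g) :
    g * f = f * g := by
  obtain ⟨j, hj⟩ := exists_pow_eq_self_of_coprime (x := f) (n := i)
    (((Nat.Prime.coprime_iff_not_dvd (by norm_num)).2 hi).symm.coprime_dvd_right (by rw [h5]))
  rw [← hj]
  exact ((show Commute g (f ^ i) from h).pow_right j).eq

namespace Frm

variable {z t : G} {Q R : Subgroup G} {π π' : G → V6} {ρ ρ' : G → qAut qm} {r s ω au bu av bv τ : G}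
  {m n u v : V6} (F : Frm z t Q R π π' ρ ρ' r s ω au bu av bv m n u v)

include F

theorem exists_five_CV : ∃ h ∈ CV r s, orderOf h = 5 := by
  haveI : Fact (Nat.Prime 5) := ⟨by norm_num⟩
  obtain ⟨h, hh⟩ := exists_prime_orderOf_dvd_card' (G := CV r s) 5 (by rw [F.card_CV]; norm_num)
  exact ⟨h, h.2, by rw [Subgroup.orderOf_coe, hh]⟩

/-- The centralizer of an element of order five of `C(z)` has order 1800. -/
theorem five_struct {f : G} (hfz : f * z = z * f) (h5 : orderOf f = 5) :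
    Nat.card (centralizer ({f} : Set G)) = 1800 ∧ ∃ h' r₀ : G, h' * f = f * h' ∧ orderOf h' = 5 ∧
      h' ∉ zpowers f ∧ r₀ * r₀ = 1 ∧ r₀ ≠ 1 ∧ r₀ * f = f * r₀ ∧ r₀ * h' * r₀⁻¹ = h'⁻¹ ∧
      (∀ d, d * f = f * d → d * h' = h' * d → ∃ i j : ℕ, d = f ^ i * h' ^ j) ∧
      Nat.card ↥(centralizer ({f} : Set G) ⊓ centralizer ({h'} : Set G)) = 25 := by
  classical
  haveI : Fact (Nat.Prime 5) := ⟨by norm_num⟩
  haveI : Fact (Nat.Prime 2) := ⟨Nat.prime_two⟩
  have hfC : f ∈ centralizer ({z} : Set G) := mem_centralizer_singleton_iff.2 hfz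
  obtain ⟨⟨qa, qb, hqa, hqb, qa2, qb2, qab, hca, hcb⟩, hdec, h40⟩ := F.P.S.cent_five_data hfC h5
  set C := centralizer ({f} : Set G) with hC
  have hfC' : f ∈ C := mem_centralizer_singleton_iff.2 rfl
  set Z := (zpowers f).subgroupOf C with hZ
  haveI : Z.Normal := ⟨fun y hy g => by
    obtain ⟨k, hk⟩ := mem_zpowers_iff.1 (mem_subgroupOf.1 hy)
    have hc : Commute (g : G) (y : G) := hk ▸ (Commute.zpow_right (mem_centralizer_singleton_iff.1 g.2) k)
    rwa [show g * y * g⁻¹ = y from mul_inv_eq_iff_eq_mul.2 (Subtype.ext hc.eq)]⟩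
  have hZc : Nat.card Z = 5 := by
    rw [hZ, Nat.card_congr (subgroupOfEquivOfLe (zpowers_le.2 hfC')).toEquiv, Nat.card_zpowers, h5]
  set π₀ := QuotientGroup.mk' Z with hπ
  have hπs : Function.Surjective π₀ := QuotientGroup.mk'_surjective _
  have hπ1 : ∀ y : C, π₀ y = 1 ↔ (y : G) ∈ zpowers f := fun y => by
    rw [hπ, QuotientGroup.mk'_apply, QuotientGroup.eq_one_iff, hZ, mem_subgroupOf]
  have hZpow : ∀ {c : G}, c ∈ zpowers f → c ^ 5 = 1 := fun {c} hc => by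
    obtain ⟨k, rfl⟩ := mem_zpowers_iff.1 hc
    rw [← zpow_natCast, ← zpow_mul, mul_comm, zpow_mul, zpow_natCast, ← h5, pow_orderOf_eq_one, one_zpow]
  have hsplit : ∀ {c : G}, c ∈ zpowers f → c * c = 1 → c = 1 := fun {c} hc h2 => by
    have h := hZpow hc
    rw [show (5 : ℕ) = 2 * 2 + 1 from rfl, pow_succ, pow_mul, pow_two c, h2, one_pow, one_mul] at h
    exact h
  let zC : C := ⟨z, mem_centralizer_singleton_iff.2 hfz.symm⟩
  let aC : C := ⟨qa * qb, mem_centralizer_singleton_iff.2 ((Commute.mul_left (show Commute qa f from hca) hcb).eq)⟩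
  let bC : C := ⟨qa, mem_centralizer_singleton_iff.2 hca⟩
  have haz : qa * qb * z = z * (qa * qb) := F.P.S.z_comm (mul_mem hqa hqb)
  have hqz : qa * z = z * qa := F.P.S.z_comm hqa
  -- the centralizer of the image of `z`
  have hlift : ∀ d : C, π₀ d * π₀ zC = π₀ zC * π₀ d → (d : G) * z = z * d := by
    intro d hd
    have h1 := (hπ1 ((zC * d)⁻¹ * (d * zC))).1 (by
      rw [map_mul π₀ ((zC * d)⁻¹), map_inv, map_mul, map_mul, hd, inv_mul_cancel])
    have h1' : (z * (d : G))⁻¹ * ((d : G) * z) ∈ zpowers f := h1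
    set c := (z * (d : G))⁻¹ * ((d : G) * z) with hc
    have hcz : c⁻¹ * z = z * c⁻¹ := by
      obtain ⟨k, hk⟩ := mem_zpowers_iff.1 h1'
      rw [← hk]; exact ((show Commute f z from hfz).zpow_left k).inv_left.eq
    have h2 : (d : G)⁻¹ * z * d = z * c⁻¹ := by rw [hc]; group
    have h3 : c⁻¹ = 1 := by
      refine hsplit (inv_mem h1') ?_
      calc c⁻¹ * c⁻¹ = (z * z) * c⁻¹ * c⁻¹ := by rw [F.P.S.z2, one_mul]
        _ = z * (z * c⁻¹) * c⁻¹ := by group
        _ = z * (c⁻¹ * z) * c⁻¹ := by rw [hcz]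
        _ = z * c⁻¹ * (z * c⁻¹) := by group
        _ = (d : G)⁻¹ * (z * z) * d := by rw [← h2]; group
        _ = 1 := by rw [F.P.S.z2]; group
    rw [h3, mul_one] at h2
    calc (d : G) * z = (d : G) * ((d : G)⁻¹ * z * d) := by rw [h2]
      _ = z * d := by group
  have hC8 : Nat.card (centralizer ({π₀ zC} : Set (C ⧸ Z))) = 8 := by
    set K := (centralizer ({z} : Set G) ⊓ centralizer ({f} : Set G)).subgroupOf C with hK
    set ψ := π₀.comp K.subtype with hψ
    have hrng : ψ.range = centralizer ({π₀ zC} : Set (C ⧸ Z)) := by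
      ext x
      rw [mem_centralizer_singleton_iff]
      constructor
      · rintro ⟨d, rfl⟩
        show π₀ d * π₀ zC = π₀ zC * π₀ d
        rw [← map_mul, ← map_mul]
        exact congrArg π₀ (Subtype.ext (mem_centralizer_singleton_iff.1 (mem_inf.1 (mem_subgroupOf.1 d.2)).1))
      · intro h
        obtain ⟨d, rfl⟩ := hπs x
        exact ⟨⟨d, mem_subgroupOf.2 (mem_inf.2 ⟨mem_centralizer_singleton_iff.2 (hlift d h), d.2⟩)⟩, rfl⟩
    have hker : ψ.ker = Z.subgroupOf K := by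
      rw [hψ, ← MonoidHom.comap_ker, hπ, QuotientGroup.ker_mk']; rfl
    have hZK : Z ≤ K := fun y hy => by
      obtain ⟨k, hk⟩ := mem_zpowers_iff.1 (mem_subgroupOf.1 hy)
      refine mem_subgroupOf.2 (mem_inf.2 ⟨?_, y.2⟩)
      rw [← hk]; exact zpow_mem hfC k
    have h := card_mul_index ψ.ker
    rw [index_ker, hrng, hker, Nat.card_congr (subgroupOfEquivOfLe hZK).toEquiv, hZc, hK,
      Nat.card_congr (subgroupOfEquivOfLe (inf_le_right : centralizer ({z} : Set G) ⊓ centralizer ({f} : Set G) ≤ C)).toEquiv,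
      h40] at h
    omega
  have hz1 : π₀ zC ≠ 1 := fun h => F.P.S.z1 (hsplit ((hπ1 zC).1 h) F.P.S.z2)
  have hz2 : π₀ zC * π₀ zC = 1 := by rw [← map_mul, show zC * zC = 1 from Subtype.ext F.P.S.z2, map_one]
  have hzo : orderOf (π₀ zC) = 2 := orderOf_eq_prime (by rw [pow_two, hz2]) hz1
  have ha2 : π₀ aC * π₀ aC = π₀ zC := by rw [← map_mul]; exact congrArg π₀ (Subtype.ext qab)
  have hao : orderOf (π₀ aC) = 4 := orderOf_eq_prime_pow (p := 2) (n := 1) (by rw [pow_one, pow_two, ha2]; exact hz1)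
    (by rw [show 2 ^ (1 + 1) = 2 + 2 from rfl, pow_add, pow_two, ha2, hz2])
  have hbo : orderOf (π₀ bC) = 2 := by
    refine orderOf_eq_prime (by rw [pow_two, ← map_mul, show bC * bC = 1 from Subtype.ext qa2, map_one]) fun h => ?_
    have h1 := hsplit ((hπ1 bC).1 h) qa2
    have h2 : qa * qb * (qa * qb) = 1 := by
      have h1' : qa = 1 := h1
      rw [h1', one_mul, qb2]
    exact F.P.S.z1 (qab.symm.trans h2)
  have haC : π₀ aC ∈ centralizer ({π₀ zC} : Set (C ⧸ Z)) :=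
    mem_centralizer_singleton_iff.2 (by rw [← map_mul, ← map_mul]; exact congrArg π₀ (Subtype.ext haz))
  have hbC : π₀ bC ∈ centralizer ({π₀ zC} : Set (C ⧸ Z)) :=
    mem_centralizer_singleton_iff.2 (by rw [← map_mul, ← map_mul]; exact congrArg π₀ (Subtype.ext hqz))
  have hba : π₀ bC * π₀ aC * (π₀ bC)⁻¹ = (π₀ aC)⁻¹ := by
    rw [← map_inv, ← map_inv, ← map_mul, ← map_mul]
    refine congrArg π₀ (Subtype.ext ?_)
    show qa * (qa * qb) * qa⁻¹ = (qa * qb)⁻¹
    rw [← mul_assoc, qa2, one_mul, mul_inv_rev, inv_eq_of_mul_eq_one_right qb2]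
  -- all involutions are conjugate
  have hinv : ∀ x : C ⧸ Z, x * x = 1 → x ≠ 1 → ∃ c, c * x * c⁻¹ = π₀ zC := by
    intro x h2 h1
    obtain ⟨w, rfl⟩ := hπs x
    have hw5 : π₀ (w ^ 5) = π₀ w := by
      rw [map_pow, show (5 : ℕ) = 2 * 2 + 1 from rfl, pow_succ, pow_mul, pow_two (π₀ w), h2, one_pow, one_mul]
    have hm : ((w : G) * w) ∈ zpowers f := (hπ1 (w * w)).1 (by rw [map_mul, h2])
    have hww : (w : G) ^ 5 * (w : G) ^ 5 = 1 := by
      rw [← (Commute.refl (w : G)).mul_pow]; exact hZpow hm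
    have hw1 : (w : G) ^ 5 ≠ 1 := fun e => h1 (by
      rw [← hw5, show w ^ 5 = 1 from Subtype.ext e, map_one])
    have hwf : (w : G) ^ 5 * f = f * (w : G) ^ 5 := mem_centralizer_singleton_iff.1 (pow_mem w.2 5)
    have hwz := F.five_not_both h5 (IsConj.refl z) hfz.symm hww hw1 hwf
    obtain ⟨c, hcf, e⟩ := F.five_transitive hfz h5 hwz hwf
    refine ⟨π₀ ⟨c, mem_centralizer_singleton_iff.2 hcf⟩, ?_⟩
    rw [← hw5, ← map_inv, ← map_mul, ← map_mul]
    exact congrArg π₀ (Subtype.ext e)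
  -- no subgroup of index two
  have hG : ∀ H : Subgroup (C ⧸ Z), H.index ≠ 2 := by
    intro H hH
    haveI := normal_of_index_eq_two hH
    have hzH : π₀ zC ∈ H := by rw [← ha2, ← pow_two]; exact sq_mem_of_index_two hH _
    have hall : ∀ x : C ⧸ Z, x * x = 1 → x ≠ 1 → x ∈ H := fun x h2 h1 => by
      obtain ⟨c, hc⟩ := hinv x h2 h1
      rw [show x = c⁻¹ * π₀ zC * c⁻¹⁻¹ by rw [← hc]; group]
      exact Normal.conj_mem inferInstance _ hzH _
    obtain ⟨-, -, hcov, hib, -, -⟩ := CfsgLib.InvolChar.dihedral_facts rfl hC8 hzo haC hao hbC hbo hba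
    have hpow : ∀ i : ℤ, π₀ aC ^ i * π₀ bC ∈ H := fun i => by
      have h2 := (hib i).1
      exact hall _ (by rw [← pow_two, ← h2, pow_orderOf_eq_one]) fun e => by rw [e, orderOf_one] at h2; omega
    have haH : π₀ aC ∈ H := by
      have h0 := hpow 0
      rw [zpow_zero, one_mul] at h0
      have h1 := hpow 1
      rw [zpow_one] at h1
      have := mul_mem h1 (inv_mem h0)
      rwa [mul_inv_cancel_right] at this
    have hle : centralizer ({π₀ zC} : Set (C ⧸ Z)) ≤ H := fun x hx => by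
      rcases hcov x hx with h | ⟨i, rfl⟩
      · exact (zpowers_le.2 haH) h
      · exact hpow i
    obtain ⟨T, hT⟩ := (IsPGroup.of_card (p := 2) (G := centralizer ({π₀ zC} : Set (C ⧸ Z))) (n := 3)
      (by rw [hC8]; norm_num)).exists_le_sylow
    haveI : Nontrivial (T : Subgroup (C ⧸ Z)) :=
      ⟨⟨⟨π₀ zC, hT (mem_centralizer_singleton_iff.2 rfl)⟩, 1, fun h => hz1 (congrArg Subtype.val h)⟩⟩
    haveI := T.2.center_nontrivial
    obtain ⟨c, hc⟩ := exists_prime_orderOf_dvd_card' (G := center (T : Subgroup (C ⧸ Z))) 2 (by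
      obtain ⟨q, hq⟩ := IsPGroup.iff_card.1 (T.2.to_subgroup (center (T : Subgroup (C ⧸ Z))))
      rcases q with _ | q
      · rw [pow_zero] at hq
        exact absurd hq (Finite.one_lt_card (α := center (T : Subgroup (C ⧸ Z)))).ne'
      · rw [hq]; exact dvd_pow_self 2 (by omega))
    set c' := ((c : (T : Subgroup (C ⧸ Z))) : C ⧸ Z) with hc'
    have hco : orderOf c' = 2 := by rw [hc', Subgroup.orderOf_coe, Subgroup.orderOf_coe, hc]
    obtain ⟨g, hg⟩ := hinv c' (by rw [← pow_two, ← hco, pow_orderOf_eq_one])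
      (fun e => by rw [e, orderOf_one] at hco; omega)
    have hcent : (T : Subgroup (C ⧸ Z)) ≤ centralizer ({c'} : Set (C ⧸ Z)) := fun y hy =>
      mem_centralizer_singleton_iff.2 (congrArg Subtype.val (mem_center_iff.1 c.2 ⟨y, hy⟩))
    have hTC : centralizer ({π₀ zC} : Set (C ⧸ Z)) = T := eq_of_le_of_card_ge hT (by
      refine (card_le_of_le hcent).trans (le_of_eq ?_)
      rw [CfsgLib.Invol.card_centralizer_of_isConj (isConj_iff.2 ⟨g, hg⟩)])
    have hd := index_dvd_of_le (hTC ▸ hle)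
    rw [hH] at hd
    exact T.not_dvd_index hd
  obtain ⟨hsimple, hcard⟩ := CfsgLib.InvolChar.dihedral_eight hG hC8 hzo haC hao hbC hbo hba
  haveI := hsimple
  have hCL : Nat.card C = 5 * Nat.card (C ⧸ Z) := by
    rw [← card_mul_index Z, hZc, index_eq_card]
  -- exclusion of the small order
  have h360 : Nat.card (C ⧸ Z) = 360 := by
    rcases hcard with h | h
    swap
    · exact h
    exfalso
    obtain ⟨P, hP⟩ := (IsPGroup.of_card (p := 5) (G := zpowers f) (n := 1) (by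
      rw [Nat.card_zpowers, h5, pow_one])).exists_le_sylow
    have hPf : (P : Subgroup G) = zpowers f := by
      by_contra hne
      haveI : Group.IsNilpotent (P : Subgroup G) := P.2.isNilpotent
      have hlt : (zpowers f).subgroupOf P < ⊤ := lt_top_iff_ne_top.2 fun h' =>
        hne (le_antisymm (subgroupOf_eq_top.1 h') hP)
      obtain ⟨⟨g, hgP⟩, hgN, hgZ⟩ :=
        SetLike.exists_of_lt ((normalizerCondition_of_isNilpotent (G := (P : Subgroup G))) _ hlt)
      have hgf : g * f * g⁻¹ ∈ zpowers f :=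
        mem_subgroupOf.1 ((mem_normalizer_iff.1 hgN ⟨f, hP (mem_zpowers f)⟩).1 (mem_subgroupOf.2 (mem_zpowers f)))
      obtain ⟨i, hi⟩ := exists_act hgf
      obtain ⟨k, hk⟩ := P.2 ⟨g, hgP⟩
      have hk' : g ^ 5 ^ k = 1 := congrArg Subtype.val hk
      have hact := conj_pow_act hi (5 ^ k)
      rw [hk', one_mul, inv_one, mul_one] at hact
      have hcast := cast_of_pow h5 (hact.symm.trans (pow_one f).symm)
      push_cast at hcast
      rw [ZMod.pow_card_pow] at hcast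
      have h1 := pow_cast h5 (show (i : ZMod 5) = ((1 : ℕ) : ZMod 5) by rw [hcast, Nat.cast_one])
      rw [pow_one] at h1
      rw [h1] at hi
      have hgC : g ∈ C := mem_centralizer_singleton_iff.2 (mul_inv_eq_iff_eq_mul.1 hi)
      have hKp : IsPGroup 5 ↥((P : Subgroup G) ⊓ C) := P.2.to_le inf_le_left
      obtain ⟨j, hj⟩ := IsPGroup.iff_card.1 hKp
      have hd : 5 ^ j ∣ 840 := by
        rw [← hj, show 840 = Nat.card C by rw [hCL, h]]
        exact card_dvd_of_le inf_le_right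
      have hj1 : j ≤ 1 := by
        by_contra hj2
        have := (pow_dvd_pow 5 (show 2 ≤ j by omega)).trans hd
        norm_num at this
      have hKle : zpowers f = (P : Subgroup G) ⊓ C := eq_of_le_of_card_ge
        (le_inf hP (zpowers_le.2 hfC')) (by
          rw [hj, Nat.card_zpowers, h5]
          exact (Nat.pow_le_pow_right (by norm_num) hj1).trans (by norm_num))
      exact hgZ (mem_subgroupOf.2 (hKle.symm ▸ mem_inf.2 ⟨hgP, hgC⟩))
    obtain ⟨h₅, hh, ho⟩ := F.exists_five_CV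
    obtain ⟨g, hg⟩ := CfsgLib.Transfer.exists_conj_mem_sylow P (S := zpowers h₅)
      (IsPGroup.of_card (n := 1) (by rw [Nat.card_zpowers, ho, pow_one]))
    have hmem := hg _ (mem_zpowers h₅)
    rw [hPf] at hmem
    obtain ⟨i, hi⟩ := mem_powers_iff_mem_zpowers.2 hmem
    dsimp only at hi
    have hi5 : ¬ 5 ∣ i := fun ⟨j, hj⟩ => by
      rw [hj, pow_mul, ← h5, pow_orderOf_eq_one, one_pow, eq_comm, conj_eq_one_iff] at hi
      rw [hi, orderOf_one] at ho
      norm_num at ho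
    have hgr : g * r * g⁻¹ * f = f * (g * r * g⁻¹) := mem_fiveCent_pow h5 hi5 (by
      rw [hi]; exact comm_conj (mem_CV.1 hh).1.symm)
    refine F.not_conj_r ((F.five_not_both h5 (IsConj.refl z) hfz.symm ?_ (fun e => F.r_ne_one (conj_eq_one_iff.1 e))
      hgr).trans (isConj_iff.2 ⟨g⁻¹, by group⟩))
    rw [show g * r * g⁻¹ * (g * r * g⁻¹) = g * (r * r) * g⁻¹ by group, F.r2]; group
  refine ⟨by rw [hCL, h360], ?_⟩
  obtain ⟨y, w, hy, hw, hwy, hcy⟩ := five_in_360 h360 fun w hw y hy e => by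
    obtain ⟨c, hc⟩ := hinv w (by rw [← pow_two, ← hw, pow_orderOf_eq_one])
      (fun e' => by rw [e', orderOf_one] at hw; omega)
    have hm : c * y * c⁻¹ ∈ centralizer ({π₀ zC} : Set (C ⧸ Z)) :=
      mem_centralizer_singleton_iff.2 (by rw [← hc]; exact comm_conj e.symm)
    have := orderOf_dvd_natCard _ hm
    rw [hC8, conj_order_eq, hy] at this
    norm_num at this
  have hw2 : w * w = 1 := by rw [← pow_two, ← hw, pow_orderOf_eq_one]
  obtain ⟨w₁, rfl⟩ := hπs w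
  obtain ⟨y₁, rfl⟩ := hπs y
  set r₀ : C := w₁ ^ 5 with hr₀
  have hr₀π : π₀ r₀ = π₀ w₁ := by
    rw [hr₀, map_pow, show (5 : ℕ) = 2 * 2 + 1 from rfl, pow_succ, pow_mul, pow_two (π₀ w₁), hw2, one_pow, one_mul]
  have hr₀2 : r₀ * r₀ = 1 := Subtype.ext (by
    show (w₁ : G) ^ 5 * (w₁ : G) ^ 5 = 1
    rw [← (Commute.refl (w₁ : G)).mul_pow]
    exact hZpow ((hπ1 (w₁ * w₁)).1 (by rw [map_mul, hw2])))
  have hr₀i : r₀⁻¹ = r₀ := inv_eq_of_mul_eq_one_right hr₀2
  have hr₀1 : r₀ ≠ 1 := fun e => by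
    rw [← hr₀π, e, map_one, orderOf_one] at hw
    omega
  set h' : C := y₁ * (r₀ * y₁⁻¹ * r₀⁻¹) with hh'
  have hπh : π₀ h' = π₀ y₁ ^ 2 := by
    rw [hh', map_mul, map_mul, map_mul, map_inv, map_inv, hr₀π,
      show π₀ w₁ * (π₀ y₁)⁻¹ * (π₀ w₁)⁻¹ = (π₀ w₁ * π₀ y₁ * (π₀ w₁)⁻¹)⁻¹ by group, hwy, inv_inv, pow_two]
  have hy2o : orderOf (π₀ y₁ ^ 2) = 5 := by
    rw [Nat.Coprime.orderOf_pow (by rw [hy]; norm_num), hy]
  have hcy' : centralizer ({π₀ h'} : Set (C ⧸ Z)) = zpowers (π₀ h') := by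
    have hle : zpowers (π₀ y₁ ^ 2) = zpowers (π₀ y₁) := eq_of_le_of_card_ge
      (zpowers_le.2 (pow_mem (mem_zpowers _) 2)) (by rw [Nat.card_zpowers, Nat.card_zpowers, hy, hy2o])
    rw [hπh, hle, ← hcy]
    ext x
    rw [mem_centralizer_singleton_iff, mem_centralizer_singleton_iff]
    refine ⟨fun hx => ?_, fun hx => ((show Commute x (π₀ y₁) from hx).pow_right 2).eq⟩
    obtain ⟨j, hj⟩ := exists_pow_eq_self_of_coprime (x := π₀ y₁) (n := 2) (by rw [hy]; norm_num)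
    rw [← hj]
    exact ((show Commute x (π₀ y₁ ^ 2) from hx).pow_right j).eq
  -- the commutation inside
  have hyy : ∀ a b : C, π₀ a ∈ zpowers (π₀ h') → π₀ b ∈ zpowers (π₀ h') → Commute a b := by
    have hd : ∀ a : C, π₀ a ∈ zpowers (π₀ h') → ∃ k : ℕ, ∃ c : C, (c : G) ∈ zpowers f ∧ a = h' ^ k * c := by
      intro a ha
      obtain ⟨k, hk⟩ := mem_powers_iff_mem_zpowers.2 ha
      dsimp only at hk
      refine ⟨k, (h' ^ k)⁻¹ * a, (hπ1 ((h' ^ k)⁻¹ * a)).1 ?_, (mul_inv_cancel_left _ _).symm⟩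
      rw [map_mul, map_inv, map_pow, hk, inv_mul_cancel]
    have hcen : ∀ {c : C}, (c : G) ∈ zpowers f → ∀ d : C, Commute c d := fun {c} hc d => by
      obtain ⟨i, hi⟩ := mem_zpowers_iff.1 hc
      refine Subtype.ext ?_
      show (c : G) * d = d * c
      rw [← hi]
      exact ((show Commute f (d : G) from (mem_centralizer_singleton_iff.1 d.2).symm).zpow_left i).eq
    intro a b ha hb
    obtain ⟨k, c, hc, rfl⟩ := hd a ha
    obtain ⟨l, c', hc', rfl⟩ := hd b hb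
    exact (((Commute.refl h').pow_pow k l).mul_right ((hcen hc' _).symm)).mul_left (hcen hc _)
  have hinvh : r₀ * h' * r₀⁻¹ = h'⁻¹ := by
    have hy₁ : π₀ y₁ ∈ zpowers (π₀ h') := by
      rw [← hcy', mem_centralizer_singleton_iff, hπh]; exact ((Commute.refl (π₀ y₁)).pow_right 2).eq
    have hy₂ : π₀ (r₀ * y₁ * r₀⁻¹) ∈ zpowers (π₀ h') := by
      have e : π₀ (r₀ * y₁ * r₀⁻¹) = (π₀ y₁)⁻¹ := by rw [map_mul, map_mul, map_inv, hr₀π, hwy]
      rw [e]; exact inv_mem hy₁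
    rw [hh']
    calc r₀ * (y₁ * (r₀ * y₁⁻¹ * r₀⁻¹)) * r₀⁻¹ = r₀ * y₁ * r₀⁻¹ * (r₀ * r₀ * y₁⁻¹ * (r₀ * r₀)⁻¹) := by group
      _ = r₀ * y₁ * r₀⁻¹ * y₁⁻¹ := by rw [hr₀2]; group
      _ = (y₁ * (r₀ * y₁⁻¹ * r₀⁻¹))⁻¹ := by group
  have hh'5 : (h' : G) ^ 5 = 1 := by
    have hm : ((h' ^ 5 : C) : G) ∈ zpowers f :=
      (hπ1 (h' ^ 5)).1 (by rw [map_pow, hπh, ← hy2o, pow_orderOf_eq_one])
    have hm' : (h' : G) ^ 5 ∈ zpowers f := hm
    have he : (r₀ : G) * (h' : G) ^ 5 * (r₀ : G)⁻¹ = ((h' : G) ^ 5)⁻¹ := by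
      rw [← conj_pow, ← inv_pow]
      exact congrArg (· ^ 5) (congrArg Subtype.val hinvh)
    obtain ⟨i, hi⟩ := mem_zpowers_iff.1 hm'
    refine hsplit hm' ?_
    have hc : (r₀ : G) * (h' : G) ^ 5 = (h' : G) ^ 5 * r₀ := by
      rw [← hi]; exact ((show Commute (r₀ : G) f from mem_centralizer_singleton_iff.1 r₀.2).zpow_right i).eq
    rw [hc, mul_inv_cancel_right] at he
    nth_rewrite 1 [he]
    exact inv_mul_cancel _
  have hh'1 : (h' : G) ∉ zpowers f := fun hm => by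
    rw [← hπh, (hπ1 h').2 hm, orderOf_one] at hy2o
    norm_num at hy2o
  have hh'o : orderOf (h' : G) = 5 := orderOf_eq_prime hh'5 fun e => hh'1 (e ▸ one_mem _)
  have hdecP : ∀ d, d * f = f * d → d * (h' : G) = (h' : G) * d → ∃ i j : ℕ, d = f ^ i * (h' : G) ^ j := by
    intro d hdf hdh
    have hm : π₀ ⟨d, mem_centralizer_singleton_iff.2 hdf⟩ ∈ zpowers (π₀ h') := by
      rw [← hcy', mem_centralizer_singleton_iff, ← map_mul, ← map_mul]
      exact congrArg π₀ (Subtype.ext hdh)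
    obtain ⟨j, hj⟩ := mem_powers_iff_mem_zpowers.2 hm
    dsimp only at hj
    have hc : d * ((h' : G) ^ j)⁻¹ ∈ zpowers f := (hπ1 (⟨d, mem_centralizer_singleton_iff.2 hdf⟩ * (h' ^ j)⁻¹)).1 (by
      rw [map_mul, map_inv, map_pow, hj, mul_inv_cancel])
    obtain ⟨i, hi⟩ := mem_powers_iff_mem_zpowers.2 hc
    dsimp only at hi
    exact ⟨i, j, by rw [hi, inv_mul_cancel_right]⟩
  refine ⟨h', r₀, mem_centralizer_singleton_iff.1 h'.2, hh'o, hh'1, congrArg Subtype.val hr₀2,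
    fun e => hr₀1 (Subtype.ext e), mem_centralizer_singleton_iff.1 r₀.2, congrArg Subtype.val hinvh, hdecP, ?_⟩
  have hh'C := mem_centralizer_singleton_iff.1 h'.2
  let ψ : Fin 5 × Fin 5 → ↥(centralizer ({f} : Set G) ⊓ centralizer ({(h' : G)} : Set G)) := fun p =>
    ⟨f ^ p.1.1 * (h' : G) ^ p.2.1, mem_inf.2
      ⟨mul_mem (pow_mem hfC' _) (pow_mem (mem_centralizer_singleton_iff.2 hh'C) _),
        mul_mem (pow_mem (mem_centralizer_singleton_iff.2 hh'C.symm) _)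
          (pow_mem (mem_centralizer_singleton_iff.2 rfl) _)⟩⟩
  have hf5 : f ^ 5 = 1 := h5 ▸ pow_orderOf_eq_one f
  rw [← Nat.card_congr (Equiv.ofBijective ψ ⟨fun p q e => ?_, fun d => ?_⟩)]
  · simp
  · have e' : f ^ p.1.1 * (h' : G) ^ p.2.1 = f ^ q.1.1 * (h' : G) ^ q.2.1 := congrArg Subtype.val e
    have hπe := congrArg π₀ (show (⟨f, hfC'⟩ : C) ^ p.1.1 * h' ^ p.2.1 = ⟨f, hfC'⟩ ^ q.1.1 * h' ^ q.2.1 from
      Subtype.ext e')
    rw [map_mul, map_mul, map_pow, map_pow, map_pow, map_pow, (hπ1 ⟨f, hfC'⟩).2 (mem_zpowers f), one_pow,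
      one_pow, one_mul, one_mul] at hπe
    have h2 : p.2 = q.2 := Fin.ext (pow_injOn_Iio_orderOf (Set.mem_Iio.2 (by rw [hπh, hy2o]; exact p.2.2))
      (Set.mem_Iio.2 (by rw [hπh, hy2o]; exact q.2.2)) hπe)
    rw [h2] at e'
    exact Prod.ext (Fin.ext (pow_injOn_Iio_orderOf (Set.mem_Iio.2 (by rw [h5]; exact p.1.2))
      (Set.mem_Iio.2 (by rw [h5]; exact q.1.2)) (mul_right_cancel e'))) h2
  · obtain ⟨h1, h2⟩ := mem_inf.1 d.2
    obtain ⟨i, j, e⟩ := hdecP d (mem_centralizer_singleton_iff.1 h1) (mem_centralizer_singleton_iff.1 h2)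
    refine ⟨(⟨i % 5, Nat.mod_lt _ (by norm_num)⟩, ⟨j % 5, Nat.mod_lt _ (by norm_num)⟩), Subtype.ext ?_⟩
    show f ^ (i % 5) * (h' : G) ^ (j % 5) = d
    rw [← pow_eq_pow_mod i hf5, ← pow_eq_pow_mod j hh'5, ← e]

end Frm

end CfsgLib.SuzType
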