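import Mathlib

/-!
A group of order 24 with a central cyclic kernel onto the symmetric group of degree three; maps of the
projective line over five elements.
-/

set_option autoImplicit false
set_option linter.style.haveILetI false

namespace CfsgLib.SuzType

open Subgroup

theorem affine_orbit : ∀ j : ZMod 5, ∀ T : Finset (ZMod 5), (∀ t ∈ T, 3 * (t + j) ∈ T) →
    T.card ≠ 3 := by decide

theorem cube_one_five : ∀ a : ZMod 5, a ^ 3 = 1 → a = 1 := by decide

/-- Splitting. -/
theorem iso_four_six {Q : Type*} [Group Q] [Finite Q] {Λ : Type*} [Fintype Λ] [DecidableEq Λ]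
    (hΛ : Fintype.card Λ = 3) (φ : Q →* Equiv.Perm Λ) (hφ : Function.Surjective φ) [IsCyclic φ.ker]
    (hK : Nat.card φ.ker = 4) (hcent : φ.ker ≤ center Q) {d r : Q} (hd : d ^ 3 = 1) (hdK : φ d ≠ 1)
    (hr : r * r = 1) (hrK : φ r ≠ 1) :
    Nonempty (Q ≃* Multiplicative (ZMod 4) × Equiv.Perm (Fin 3)) := by
  classical
  have hc6 : Nat.card (Equiv.Perm Λ) = 6 := by
    rw [Nat.card_eq_fintype_card, Fintype.card_perm, hΛ]; rfl
  have hod : orderOf (φ d) = 3 := by
    haveI : Fact (Nat.Prime 3) := ⟨Nat.prime_three⟩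
    exact orderOf_eq_prime (by rw [← map_pow, hd, map_one]) hdK
  have hor : orderOf (φ r) = 2 := orderOf_eq_prime (by rw [pow_two, ← map_mul, hr, map_one]) hrK
  -- the relation
  have hnorm : (zpowers (φ d)).Normal := normal_of_index_eq_two (by
    have := index_mul_card (zpowers (φ d))
    rw [Nat.card_zpowers, hod, hc6] at this
    omega)
  obtain ⟨i, hi⟩ := mem_powers_iff_mem_zpowers.2 (hnorm.conj_mem _ (mem_zpowers (φ d)) (φ r))
  dsimp only at hi
  have hk : r * d * r⁻¹ * (d ^ i)⁻¹ ∈ φ.ker := by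
    rw [MonoidHom.mem_ker, map_mul, map_mul, map_mul, map_inv, map_inv, map_pow, hi, mul_inv_cancel]
  have hrel : r * d * r⁻¹ = d ^ i := by
    set k := r * d * r⁻¹ * (d ^ i)⁻¹ with hkdef
    have e : r * d * r⁻¹ = k * d ^ i := by rw [hkdef]; group
    have h3 : k ^ 3 = 1 := by
      have hc : Commute k (d ^ i) := ((mem_center_iff.1 (hcent hk)) (d ^ i)).symm
      have h : (r * d * r⁻¹) ^ 3 = 1 := by rw [conj_pow, hd, mul_one, mul_inv_cancel]
      rwa [e, hc.mul_pow, ← pow_mul, mul_comm i, pow_mul, hd, one_pow, mul_one] at h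
    have h4 : k ^ 4 = 1 := by
      have := pow_card_eq_one' (G := φ.ker) (x := ⟨k, hk⟩)
      rw [hK] at this
      exact congrArg Subtype.val this
    rw [pow_succ, h3, one_mul] at h4
    rw [e, h4, one_mul]
  have hrd : ∀ a : ℕ, r * d ^ a = d ^ (i * a) * r := fun a => by
    rw [pow_mul, ← hrel, conj_pow, inv_mul_cancel_right]
  set S := closure ({d, r} : Set Q) with hS
  have hform : ∀ x ∈ S, ∃ a b : ℕ, x = d ^ a * r ^ b := by
    intro x hx
    have hrb : ∀ b a : ℕ, ∃ a', r ^ b * d ^ a = d ^ a' * r ^ b := by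
      intro b
      induction b with
      | zero => exact fun a => ⟨a, by simp⟩
      | succ b ih =>
        intro a
        obtain ⟨a', ha'⟩ := ih a
        exact ⟨i * a', by rw [pow_succ', mul_assoc, ha', ← mul_assoc, hrd, mul_assoc, ← pow_succ']⟩
    induction hx using closure_induction with
    | mem y hy =>
      rcases hy with rfl | rfl
      · exact ⟨1, 0, by simp⟩
      · exact ⟨0, 1, by simp⟩
    | one => exact ⟨0, 0, by simp⟩
    | mul y w _ _ ihy ihw =>
      obtain ⟨a, b, rfl⟩ := ihy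
      obtain ⟨a', b', rfl⟩ := ihw
      obtain ⟨a'', ha''⟩ := hrb b a'
      exact ⟨a + a'', b + b', by
        rw [pow_add, pow_add, mul_assoc (d ^ a), ← mul_assoc (r ^ b), ha'']; group⟩
    | inv y _ ihy =>
      obtain ⟨a, b, rfl⟩ := ihy
      obtain ⟨a', ha'⟩ := hrb b (2 * a)
      refine ⟨a', b, ?_⟩
      rw [← ha', mul_inv_rev]
      congr 1
      · exact inv_eq_of_mul_eq_one_right (by rw [← pow_add, ← two_mul, pow_mul, pow_two, hr, one_pow])
      · exact inv_eq_of_mul_eq_one_right (by rw [← pow_add, show a + 2 * a = 3 * a by ring, pow_mul, hd, one_pow])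
  have hdis : ∀ x ∈ S, φ x = 1 → x = 1 := by
    intro x hx h1
    obtain ⟨a, b, rfl⟩ := hform x hx
    rw [map_mul, map_pow, map_pow] at h1
    have hb : 2 ∣ b := by
      by_contra hb
      obtain ⟨l, rfl⟩ := Nat.not_even_iff_odd.1 (fun h => hb (even_iff_two_dvd.1 h))
      rw [pow_succ, pow_mul, pow_two (φ r), ← map_mul, hr, map_one, one_pow, one_mul] at h1
      have h2 := orderOf_dvd_natCard (zpowers (φ d))
        (show φ r ∈ zpowers (φ d) from eq_inv_of_mul_eq_one_right h1 ▸ inv_mem (pow_mem (mem_zpowers _) a))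
      rw [hor, Nat.card_zpowers, hod] at h2
      norm_num at h2
    obtain ⟨l, rfl⟩ := hb
    rw [pow_mul (φ r), pow_two (φ r), ← map_mul, hr, map_one, one_pow, mul_one, ← orderOf_dvd_iff_pow_eq_one,
      hod] at h1
    obtain ⟨a', rfl⟩ := h1
    rw [pow_mul, hd, one_pow, one_mul, pow_mul, pow_two, hr, one_pow]
  let θ : S →* Equiv.Perm Λ := φ.comp S.subtype
  have hθi : Function.Injective θ := (MonoidHom.ker_eq_bot_iff θ).1
    (eq_bot_iff.2 fun x hx => Subtype.ext (hdis x.1 x.2 hx))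
  have hθs : Function.Surjective θ := by
    rw [← MonoidHom.range_eq_top]
    refine eq_top_of_le_card _ ?_
    rw [hc6]
    have h2 := orderOf_dvd_natCard θ.range (⟨⟨r, subset_closure (by simp)⟩, rfl⟩ : φ r ∈ θ.range)
    have h3 := orderOf_dvd_natCard θ.range (⟨⟨d, subset_closure (by simp)⟩, rfl⟩ : φ d ∈ θ.range)
    rw [hor] at h2
    rw [hod] at h3
    exact Nat.le_of_dvd Nat.card_pos (Nat.Coprime.mul_dvd_of_dvd_of_dvd (by norm_num : Nat.Coprime 2 3) h2 h3)
  let Θ : φ.ker × S →* Q :=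
    MonoidHom.noncommCoprod φ.ker.subtype S.subtype fun k s => ((mem_center_iff.1 (hcent k.2)) s).symm
  have hΘ : Function.Bijective Θ := by
    refine ⟨(MonoidHom.ker_eq_bot_iff Θ).1 (eq_bot_iff.2 fun x hx => ?_), fun x => ?_⟩
    · have e : (x.1 : Q) * (x.2 : Q) = 1 := hx
      have h2 : (x.2 : Q) = 1 := hdis _ x.2.2 (by
        have := congrArg φ e
        rwa [map_mul, MonoidHom.mem_ker.1 x.1.2, one_mul, map_one] at this)
      rw [h2, mul_one] at e
      exact Prod.ext (Subtype.ext e) (Subtype.ext h2)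
    · obtain ⟨s, hs⟩ := hθs (φ x)
      refine ⟨(⟨x * (s : Q)⁻¹, ?_⟩, s), inv_mul_cancel_right x (s : Q)⟩
      rw [MonoidHom.mem_ker, map_mul, map_inv, show φ (s : Q) = φ x from hs, mul_inv_cancel]
  exact ⟨(MulEquiv.ofBijective Θ hΘ).symm.trans
    ((mulEquivOfCyclicCardEq (by rw [hK]; simp)).prodCongr
      ((MulEquiv.ofBijective θ ⟨hθi, hθs⟩).trans (Fintype.equivFinOfCardEq hΛ).permCongrHom))⟩

end CfsgLib.SuzType
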