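import Mathlib
import Cfsg.Agent.Lib.SuzType.Local.CentFiveSeven

/-!
Elementary abelian groups of order 25: lines and the action of the normalizer on them.
-/

set_option autoImplicit false
set_option linter.style.haveILetI false
set_option linter.unusedSectionVars false

namespace CfsgLib.SuzType

open Subgroup

variable {G : Type*} [Group G] [Finite G]

/-- `P` is generated by the independent commuting elements `a`, `b` of order five. -/
structure Plane (a b : G) (P : Subgroup G) : Prop where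
  a5 : orderOf a = 5
  b5 : orderOf b = 5
  ab : a * b = b * a
  amem : a ∈ P
  bmem : b ∈ P
  indep : b ∉ zpowers a
  dec : ∀ x ∈ P, ∃ i j : ℕ, x = a ^ i * b ^ j
  card : Nat.card P = 25

/-- Homomorphisms given by a functional relation. -/
theorem exists_hom_rel {H : Type*} [Group H] {p : ℕ} (rel : H → ZMod p → Prop)
    (hex : ∀ x, ∃ i, rel x i) (hun : ∀ x i j, rel x i → rel x j → i = j) (h1 : rel 1 1)
    (hmul : ∀ x y i j, rel x i → rel y j → rel (x * y) (i * j)) :
    ∃ χ : H →* (ZMod p)ˣ, ∀ x i, rel x i ↔ (χ x : ZMod p) = i := by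
  choose f hf using hex
  let χ₀ : H →* ZMod p :=
    { toFun := f
      map_one' := hun 1 _ _ (hf 1) h1
      map_mul' := fun x y => hun _ _ _ (hf (x * y)) (hmul x y _ _ (hf x) (hf y)) }
  refine ⟨χ₀.toHomUnits, fun x i => ?_⟩
  rw [MonoidHom.coe_toHomUnits]
  exact ⟨fun h => hun x _ _ (hf x) h, fun h => h ▸ hf x⟩

theorem mem_zpowers_five {a x : G} (ha : orderOf a = 5) (hx : x ∈ zpowers a) : ∃ i : ZMod 5, x = a ^ i.val := by
  obtain ⟨k, hk⟩ := mem_powers_iff_mem_zpowers.2 hx
  exact ⟨(k : ZMod 5), by rw [← hk]; exact pow_cast ha (by rw [ZMod.natCast_zmod_val])⟩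

theorem zpowers_eq_five {a x : G} (ha : orderOf a = 5) (hx : x ∈ zpowers a) (h1 : x ≠ 1) : zpowers x = zpowers a := by
  refine eq_of_le_of_card_ge (zpowers_le.2 hx) ?_
  have hd := orderOf_dvd_natCard _ hx
  rw [Nat.card_zpowers, ha] at hd
  rw [Nat.card_zpowers, Nat.card_zpowers, ha,
    ((Nat.dvd_prime (by norm_num)).1 hd).resolve_left fun h => h1 (orderOf_eq_one_iff.1 h)]

namespace Plane

variable {a b : G} {P : Subgroup G} (D : Plane a b P)

include D

theorem comm {x y : G} (hx : x ∈ P) (hy : y ∈ P) : x * y = y * x := by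
  obtain ⟨i, j, rfl⟩ := D.dec x hx
  obtain ⟨k, l, rfl⟩ := D.dec y hy
  have hab : Commute a b := D.ab
  exact ((((Commute.refl a).pow_pow i k).mul_right (hab.pow_pow i l)).mul_left
    ((hab.symm.pow_pow j k).mul_right ((Commute.refl b).pow_pow j l))).eq

theorem pow5 {x : G} (hx : x ∈ P) : x ^ 5 = 1 := by
  obtain ⟨i, j, rfl⟩ := D.dec x hx
  rw [((show Commute a b from D.ab).pow_pow i j).mul_pow, ← pow_mul, mul_comm i, pow_mul, ← D.a5,
    pow_orderOf_eq_one, one_pow, ← pow_mul, mul_comm j, pow_mul, one_mul]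
  rw [show b ^ orderOf a = 1 by rw [D.a5, ← D.b5, pow_orderOf_eq_one], one_pow]

theorem order5 {x : G} (hx : x ∈ P) (h1 : x ≠ 1) : orderOf x = 5 := by
  haveI : Fact (Nat.Prime 5) := ⟨by norm_num⟩
  exact orderOf_eq_prime (D.pow5 hx) h1

theorem uniq {i j i' j' : ℕ} (e : a ^ i * b ^ j = a ^ i' * b ^ j') :
    (i : ZMod 5) = i' ∧ (j : ZMod 5) = j' := by
  have hm : b ^ j' * (b ^ j)⁻¹ ∈ zpowers a := by
    rw [show b ^ j' * (b ^ j)⁻¹ = (a ^ i')⁻¹ * (a ^ i' * b ^ j') * (b ^ j)⁻¹ by group, ← e,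
      show (a ^ i')⁻¹ * (a ^ i * b ^ j) * (b ^ j)⁻¹ = (a ^ i')⁻¹ * a ^ i by group]
    exact mul_mem (inv_mem (pow_mem (mem_zpowers a) _)) (pow_mem (mem_zpowers a) _)
  have h0 : b ^ j' * (b ^ j)⁻¹ = 1 := by
    by_contra hne
    have hmem : b ^ j' * (b ^ j)⁻¹ ∈ zpowers b :=
      mul_mem (pow_mem (mem_zpowers b) _) (inv_mem (pow_mem (mem_zpowers b) _))
    refine D.indep ?_
    rw [← zpowers_eq_five D.a5 hm hne, zpowers_eq_five D.b5 hmem hne]
    exact mem_zpowers b
  rw [mul_inv_eq_one] at h0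
  rw [h0] at e
  exact ⟨cast_of_pow D.a5 (mul_right_cancel e), cast_of_pow D.b5 h0.symm⟩

/-- Two elements on different lines give a plane. -/
theorem of_pair {x y : G} (hx : x ∈ P) (hy : y ∈ P) (hx1 : x ≠ 1) (hxy : y ∉ zpowers x) : Plane x y P := by
  classical
  have hy1 : y ≠ 1 := fun h => hxy (h ▸ one_mem _)
  have ox := D.order5 hx hx1
  have oy := D.order5 hy hy1
  let ψ : ZMod 5 × ZMod 5 → P := fun k => ⟨x ^ k.1.val * y ^ k.2.val, mul_mem (pow_mem hx _) (pow_mem hy _)⟩
  have hinj : Function.Injective ψ := by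
    rintro ⟨i, j⟩ ⟨i', j'⟩ e
    have e' : x ^ i.val * y ^ j.val = x ^ i'.val * y ^ j'.val := congrArg Subtype.val e
    have hm : y ^ j'.val * (y ^ j.val)⁻¹ ∈ zpowers x := by
      rw [show y ^ j'.val * (y ^ j.val)⁻¹ = (x ^ i'.val)⁻¹ * (x ^ i'.val * y ^ j'.val) * (y ^ j.val)⁻¹ by group,
        ← e', show (x ^ i'.val)⁻¹ * (x ^ i.val * y ^ j.val) * (y ^ j.val)⁻¹ = (x ^ i'.val)⁻¹ * x ^ i.val by group]
      exact mul_mem (inv_mem (pow_mem (mem_zpowers x) _)) (pow_mem (mem_zpowers x) _)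
    have h0 : y ^ j'.val * (y ^ j.val)⁻¹ = 1 := by
      by_contra hne
      have hmem : y ^ j'.val * (y ^ j.val)⁻¹ ∈ zpowers y :=
        mul_mem (pow_mem (mem_zpowers y) _) (inv_mem (pow_mem (mem_zpowers y) _))
      refine hxy ?_
      rw [← zpowers_eq_five ox hm hne, zpowers_eq_five oy hmem hne]
      exact mem_zpowers y
    rw [mul_inv_eq_one] at h0
    rw [h0] at e'
    have h1 := cast_of_pow ox (mul_right_cancel e')
    have h2 := cast_of_pow oy h0.symm
    rw [ZMod.natCast_zmod_val, ZMod.natCast_zmod_val] at h1 h2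
    rw [h1, h2]
  have hb := hinj.bijective_of_nat_card_le (by rw [D.card]; simp)
  refine ⟨ox, oy, D.comm hx hy, hx, hy, hxy, fun w hw => ?_, D.card⟩
  obtain ⟨k, hk⟩ := hb.2 ⟨w, hw⟩
  exact ⟨k.1.val, k.2.val, (congrArg Subtype.val hk).symm⟩

end Plane

/-- The subgroups of order five of `P`. -/
abbrev Line (P : Subgroup G) := {L : Subgroup G // L ≤ P ∧ Nat.card L = 5}

/-- The line of an element. -/
theorem line_of {P : Subgroup G} {x : G} (hx : x ∈ P) (ho : orderOf x = 5) :
    zpowers x ≤ P ∧ Nat.card (zpowers x) = 5 :=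
  ⟨zpowers_le.2 hx, by rw [Nat.card_zpowers, ho]⟩

/-- Generators. -/
theorem Line.gen {P : Subgroup G} (L : Line P) : ∃ x ∈ P, orderOf x = 5 ∧ L.1 = zpowers x := by
  haveI : Fact (Nat.Prime 5) := ⟨by norm_num⟩
  obtain ⟨x, hx⟩ := exists_prime_orderOf_dvd_card' (G := L.1) 5 (by rw [L.2.2])
  refine ⟨x, L.2.1 x.2, by rw [Subgroup.orderOf_coe, hx], (eq_of_le_of_card_ge (zpowers_le.2 x.2) ?_).symm⟩
  rw [L.2.2, Nat.card_zpowers, Subgroup.orderOf_coe, hx]

theorem conj_zpowers (g x : G) : (zpowers x).map (MulAut.conj g).toMonoidHom = zpowers (g * x * g⁻¹) := by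
  rw [MonoidHom.map_zpowers]; rfl

theorem line_conj {P : Subgroup G} {g : G} (hg : g ∈ normalizer (P : Set G)) (L : Line P) :
    L.1.map (MulAut.conj g).toMonoidHom ≤ P ∧ Nat.card (L.1.map (MulAut.conj g).toMonoidHom : Subgroup G) = 5 := by
  refine ⟨?_, by rw [card_map_of_injective (MulAut.conj g).injective, L.2.2]⟩
  rintro _ ⟨x, hx, rfl⟩
  exact (mem_normalizer_iff.1 hg x).1 (L.2.1 hx)

/-- The action on lines. -/
theorem exists_line_hom (P : Subgroup G) :
    ∃ act : normalizer (P : Set G) →* Equiv.Perm (Line P),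
      ∀ g L, (act g L).1 = L.1.map (MulAut.conj (g : G)).toMonoidHom := by
  let T : normalizer (P : Set G) → Line P → Line P := fun g L => ⟨_, line_conj g.2 L⟩
  have hT : ∀ g h L, T (g * h) L = T g (T h L) := fun g h L => Subtype.ext (by
    show L.1.map (MulAut.conj ((g : G) * h)).toMonoidHom =
      (L.1.map (MulAut.conj (h : G)).toMonoidHom).map (MulAut.conj (g : G)).toMonoidHom
    rw [Subgroup.map_map, map_mul]
    rfl)
  have hT1 : ∀ L, T 1 L = L := fun L => Subtype.ext (by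
    show L.1.map (MulAut.conj ((1 : normalizer (P : Set G)) : G)).toMonoidHom = L.1
    rw [OneMemClass.coe_one, map_one]
    exact Subgroup.map_id L.1)
  letI : MulAction (normalizer (P : Set G)) (Line P) :=
    { smul := T
      one_smul := hT1
      mul_smul := hT }
  exact ⟨MulAction.toPermHom _ _, fun g L => rfl⟩

/-- The six lines. -/
theorem Plane.card_line {a b : G} {P : Subgroup G} (D : Plane a b P) :
    ∃ e : Option (ZMod 5) ≃ Line P, (e none).1 = zpowers a ∧ ∀ t : ZMod 5, (e (some t)).1 = zpowers (a ^ t.val * b) := by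
  classical
  have hm : ∀ t : ZMod 5, a ^ t.val * b ∈ P := fun t => mul_mem (pow_mem D.amem _) D.bmem
  have hne : ∀ t : ZMod 5, a ^ t.val * b ≠ 1 := fun t h => D.indep (by
    rw [eq_inv_of_mul_eq_one_right h]; exact inv_mem (pow_mem (mem_zpowers a) _))
  let f : Option (ZMod 5) → Line P := fun o => match o with
    | none => ⟨_, line_of D.amem D.a5⟩
    | some t => ⟨_, line_of (hm t) (D.order5 (hm t) (hne t))⟩
  refine ⟨Equiv.ofBijective f ⟨?_, fun L => ?_⟩, rfl, fun t => rfl⟩
  · have hns : ∀ t : ZMod 5, zpowers a ≠ zpowers (a ^ t.val * b) := fun (t : ZMod 5) e => D.indep (by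
      have := mul_mem (inv_mem (pow_mem (mem_zpowers a) t.val)) (e ▸ mem_zpowers (a ^ t.val * b))
      rwa [inv_mul_cancel_left] at this)
    rintro (_ | t) (_ | t') e
    · rfl
    · exact absurd (congrArg Subtype.val e) (hns t')
    · exact absurd (congrArg Subtype.val e).symm (hns t)
    · have e' : zpowers (a ^ t.val * b) = zpowers (a ^ t'.val * b) := congrArg Subtype.val e
      obtain ⟨k, hk⟩ := mem_zpowers_five (D.order5 (hm t') (hne t'))
        (e' ▸ mem_zpowers _ : a ^ t.val * b ∈ zpowers (a ^ t'.val * b))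
      rw [((show Commute a b from D.ab).pow_left _).mul_pow, ← pow_mul] at hk
      have hk' : a ^ t.val * b ^ 1 = a ^ (t'.val * k.val) * b ^ k.val := by rw [pow_one]; exact hk
      obtain ⟨h1, h2⟩ := D.uniq hk'
      push_cast at h1 h2
      rw [ZMod.natCast_zmod_val, ZMod.natCast_zmod_val] at h1
      rw [ZMod.natCast_zmod_val] at h2
      rw [ZMod.natCast_zmod_val, ← h2, mul_one] at h1
      rw [h1]
  · obtain ⟨x, hx, ho, hL⟩ := L.gen
    obtain ⟨i, j, rfl⟩ := D.dec x hx
    by_cases hj : (j : ZMod 5) = 0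
    · refine ⟨none, Subtype.ext ?_⟩
      show zpowers a = L.1
      rw [hL]
      have e : b ^ j = 1 := by
        have := pow_cast D.b5 (show (j : ZMod 5) = ((0 : ℕ) : ZMod 5) by rw [hj, Nat.cast_zero])
        rwa [pow_zero] at this
      rw [e, mul_one] at ho ⊢
      exact (zpowers_eq_five D.a5 (pow_mem (mem_zpowers a) _) (fun h => by rw [h, orderOf_one] at ho; omega)).symm
    · haveI : Fact (Nat.Prime 5) := ⟨by norm_num⟩
      refine ⟨some ((i : ZMod 5) * (j : ZMod 5)⁻¹), Subtype.ext ?_⟩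
      show zpowers _ = L.1
      rw [hL]
      refine (zpowers_eq_five (D.order5 (hm _) (hne _)) ?_ fun h => by rw [h, orderOf_one] at ho; omega).symm
      have hpow : (a ^ ((i : ZMod 5) * (j : ZMod 5)⁻¹).val * b) ^ j = a ^ i * b ^ j := by
        rw [((show Commute a b from D.ab).pow_left _).mul_pow, ← pow_mul]
        refine congrArg (· * b ^ j) (pow_cast D.a5 ?_)
        push_cast
        rw [ZMod.natCast_zmod_val, mul_assoc, inv_mul_cancel₀ hj, mul_one]
      exact hpow ▸ pow_mem (mem_zpowers _) j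

end CfsgLib.SuzType
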