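import Mathlib
import Cfsg.Agent.Lib.SuzType.Local.CentFStruct

/-!
Suzuki type: the Sylow 5-subgroup, and no element of order five centralizes one of order seven.
-/

set_option autoImplicit false
set_option linter.style.haveILetI false
set_option linter.unusedSectionVars false
set_option linter.unusedSimpArgs false

namespace CfsgLib.SuzType

open Subgroup CfsgLib.Classical

variable {G : Type*} [Group G] [Finite G]

theorem act_of_pgroup {p : ℕ} [Fact p.Prime] {g f : G} (h5 : orderOf f = p) {k : ℕ} (hk : g ^ p ^ k = 1)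
    (h : g * f * g⁻¹ ∈ zpowers f) : g * f = f * g := by
  obtain ⟨i, hi⟩ := exists_act h
  have hact := conj_pow_act hi (p ^ k)
  rw [hk, one_mul, inv_one, mul_one] at hact
  have hcast := cast_of_pow h5 (hact.symm.trans (pow_one f).symm)
  push_cast at hcast
  rw [ZMod.pow_card_pow] at hcast
  have h1 := pow_cast h5 (show (i : ZMod p) = ((1 : ℕ) : ZMod p) by rw [hcast, Nat.cast_one])
  rw [pow_one] at h1
  rw [h1] at hi
  exact mul_inv_eq_iff_eq_mul.1 hi

/-- A cyclic subgroup of prime order whose centralizer has no larger power is a Sylow subgroup. -/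
theorem pgroup_eq_zpowers {p : ℕ} [Fact p.Prime] {x : G} (hx : orderOf x = p)
    (hC : ¬ p ^ 2 ∣ Nat.card (centralizer ({x} : Set G))) {K : Subgroup G} (hK : IsPGroup p K) (hxK : x ∈ K) :
    K = zpowers x := by
  haveI : Group.IsNilpotent K := hK.isNilpotent
  by_contra hne
  have hle : zpowers x ≤ K := zpowers_le.2 hxK
  have hlt : (zpowers x).subgroupOf K < ⊤ := lt_top_iff_ne_top.2 fun h' =>
    hne (le_antisymm (subgroupOf_eq_top.1 h') hle)
  obtain ⟨⟨g, hgK⟩, hgN, hgZ⟩ := SetLike.exists_of_lt ((Group.normalizerCondition_of_isNilpotent (G := K)) _ hlt)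
  obtain ⟨k, hk⟩ := hK ⟨g, hgK⟩
  have hgx := act_of_pgroup hx (congrArg Subtype.val hk)
    (mem_subgroupOf.1 ((mem_normalizer_iff.1 hgN ⟨x, hxK⟩).1 (mem_subgroupOf.2 (mem_zpowers x))))
  obtain ⟨j, hj⟩ := IsPGroup.iff_card.1 (hK.to_le (inf_le_left : K ⊓ centralizer ({x} : Set G) ≤ K))
  have hj1 : j ≤ 1 := by
    by_contra h2
    exact hC (((pow_dvd_pow p (show 2 ≤ j by omega)).trans hj.symm.dvd).trans (card_dvd_of_le inf_le_right))
  have heq : zpowers x = K ⊓ centralizer ({x} : Set G) := eq_of_le_of_card_ge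
    (le_inf hle (zpowers_le.2 (mem_centralizer_singleton_iff.2 rfl))) (by
      rw [hj, Nat.card_zpowers, hx]
      exact (Nat.pow_le_pow_right (Fact.out : p.Prime).pos hj1).trans (by rw [pow_one]))
  exact hgZ (mem_subgroupOf.2 (heq.symm ▸ mem_inf.2 ⟨hgK, mem_centralizer_singleton_iff.2 hgx⟩))

/-- Commuting with some involution. -/
def EvenC (x : G) : Prop := ∃ w : G, w * w = 1 ∧ w ≠ 1 ∧ w * x = x * w

theorem evenC_conj {x : G} (h : EvenC x) (g : G) : EvenC (g * x * g⁻¹) := by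
  obtain ⟨w, h2, h1, hw⟩ := h
  refine ⟨g * w * g⁻¹, ?_, fun e => h1 (conj_eq_one_iff.1 e), comm_conj hw⟩
  rw [show g * w * g⁻¹ * (g * w * g⁻¹) = g * (w * w) * g⁻¹ by group, h2]; group

theorem evenC_pow {x : G} (h : EvenC x) (k : ℕ) : EvenC (x ^ k) := by
  obtain ⟨w, h2, h1, hw⟩ := h
  exact ⟨w, h2, h1, ((show Commute w x from hw).pow_right k).eq⟩

theorem key_five : ∀ i j l : ZMod 5, j ≠ 0 → i = i * l → 4 * j = j * l → i = 0 := by decide

theorem sq_cases_five : ∀ x : ZMod 5, x ≠ 0 → x ^ 2 = 1 ∨ x ^ 2 = 4 := by decide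

theorem four_sq_five : ((4 ^ 2 : ℕ) : ZMod 5) = ((1 : ℕ) : ZMod 5) := by decide

theorem seven_five : ∀ a : ZMod 7, a ^ 5 = 1 → a = 1 := by decide

namespace Frm

variable {z t : G} {Q R : Subgroup G} {π π' : G → V6} {ρ ρ' : G → qAut qm} {r s ω au bu av bv τ : G}
  {m n u v : V6} (F : Frm z t Q R π π' ρ ρ' r s ω au bu av bv m n u v) (O : Outer z t r s au av τ)

include F O

theorem five_even_bound {x : G} (h5 : orderOf x = 5) (hev : EvenC x) :
    ¬ 7 ∣ Nat.card (centralizer ({x} : Set G)) ∧ ¬ 125 ∣ Nat.card (centralizer ({x} : Set G)) := by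
  obtain ⟨w, hw2, hw1, hwx⟩ := hev
  rcases F.classes_r hw2 hw1 with h | h <;> obtain ⟨g, hg⟩ := isConj_iff.1 h.symm
  · have hc := comm_conj (g := g) hwx
    rw [hg] at hc
    have := (F.five_struct hc.symm (by rw [conj_order_eq, h5])).1
    rw [CfsgLib.Invol.card_centralizer_of_isConj (isConj_iff.2 ⟨g, rfl⟩)] at this
    rw [this]; norm_num
  · have hc := comm_conj (g := g) hwx
    rw [hg] at hc
    have ho : orderOf (g * x * g⁻¹) = 5 := by rw [conj_order_eq, h5]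
    have hK : g * x * g⁻¹ ∈ CV r s := by
      have h' := F.sq_mem_CV O ((show Commute (g * x * g⁻¹) r from hc.symm).pow_left 3).eq
      rwa [← pow_add, show 3 + 3 = 5 + 1 from rfl, pow_succ, ← ho, pow_orderOf_eq_one, one_mul] at h'
    have hcard : Nat.card (centralizer ({g * x * g⁻¹} : Set G)) = Nat.card (centralizer ({x} : Set G)) :=
      CfsgLib.Invol.card_centralizer_of_isConj (isConj_iff.2 ⟨g, rfl⟩)
    rw [← hcard]
    rcases F.cent_x O hK (.inl ho) with e | ⟨e, -⟩ <;> rw [e, ho] <;> norm_num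

/-- The Sylow 5-subgroup. -/
theorem five_sylow {f h' r₀ : G} (hfz : f * z = z * f) (h5 : orderOf f = 5) (hh'f : h' * f = f * h')
    (hh'5 : orderOf h' = 5) (hh'1 : h' ∉ zpowers f) (hr2 : r₀ * r₀ = 1) (hrf : r₀ * f = f * r₀)
    (hrh : r₀ * h' * r₀⁻¹ = h'⁻¹) (hdec : ∀ d, d * f = f * d → d * h' = h' * d → ∃ i j : ℕ, d = f ^ i * h' ^ j)
    (h25 : Nat.card ↥(centralizer ({f} : Set G) ⊓ centralizer ({h'} : Set G)) = 25) {K : Subgroup G}
    (hK : IsPGroup 5 K) (hle : centralizer ({f} : Set G) ⊓ centralizer ({h'} : Set G) ≤ K) :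
    K = centralizer ({f} : Set G) ⊓ centralizer ({h'} : Set G) := by
  classical
  haveI : Fact (Nat.Prime 5) := ⟨by norm_num⟩
  set P := centralizer ({f} : Set G) ⊓ centralizer ({h'} : Set G) with hP
  have memP : ∀ {d}, d ∈ P ↔ d * f = f * d ∧ d * h' = h' * d := by
    intro d; rw [hP, mem_inf, mem_centralizer_singleton_iff, mem_centralizer_singleton_iff]
  have hfP : f ∈ P := memP.2 ⟨rfl, hh'f.symm⟩
  have hhP : h' ∈ P := memP.2 ⟨hh'f, rfl⟩
  have hf5 : f ^ 5 = 1 := h5 ▸ pow_orderOf_eq_one f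
  have hh5 : h' ^ 5 = 1 := hh'5 ▸ pow_orderOf_eq_one h'
  have hPc : ∀ {a b}, a ∈ P → b ∈ P → Commute a b := fun {a b} ha hb => by
    obtain ⟨i, j, rfl⟩ := hdec b (memP.1 hb).1 (memP.1 hb).2
    exact ((show Commute a f from (memP.1 ha).1).pow_right i).mul_right
      ((show Commute a h' from (memP.1 ha).2).pow_right j)
  have hP5 : ∀ {a}, a ∈ P → a ^ 5 = 1 := fun {a} ha => by
    obtain ⟨i, j, rfl⟩ := hdec a (memP.1 ha).1 (memP.1 ha).2
    rw [((show Commute f h' from hh'f.symm).pow_pow i j).mul_pow, ← pow_mul, mul_comm i, pow_mul, hf5, one_pow,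
      ← pow_mul, mul_comm j, pow_mul, hh5, one_pow, one_mul]
  by_contra hne
  haveI : Group.IsNilpotent K := hK.isNilpotent
  have hlt : P.subgroupOf K < ⊤ := lt_top_iff_ne_top.2 fun h => hne (le_antisymm (subgroupOf_eq_top.1 h) hle)
  obtain ⟨⟨g, hgK⟩, hgN, hgP⟩ := SetLike.exists_of_lt ((Group.normalizerCondition_of_isNilpotent (G := K)) _ hlt)
  have hgP' : g ∉ P := fun h => hgP (mem_subgroupOf.2 h)
  have hgconj : ∀ x ∈ P, g * x * g⁻¹ ∈ P := fun x hx =>
    mem_subgroupOf.1 ((mem_normalizer_iff.1 hgN ⟨x, hle hx⟩).1 (mem_subgroupOf.2 hx))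
  obtain ⟨k, hk⟩ := hK ⟨g, hgK⟩
  have hk' : g ^ 5 ^ k = 1 := congrArg Subtype.val hk
  have bad : ∀ {c}, c ∈ P → c ≠ 1 → g * c = c * g → ¬ EvenC c := by
    intro c hcP hc1 hgc hev
    have hb := (F.five_even_bound O (orderOf_eq_prime (hP5 hcP) hc1) hev).2
    obtain ⟨j, hj⟩ := IsPGroup.iff_card.1 (hK.to_le (inf_le_left : K ⊓ centralizer ({c} : Set G) ≤ K))
    have hj2 : j ≤ 2 := by
      by_contra h3
      exact hb (((show (125 : ℕ) = 5 ^ 3 by norm_num) ▸ pow_dvd_pow 5 (show 3 ≤ j by omega)).trans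
        (hj.symm.dvd.trans (card_dvd_of_le inf_le_right)))
    have heq : P = K ⊓ centralizer ({c} : Set G) := eq_of_le_of_card_ge
      (le_inf hle fun x hx => mem_centralizer_singleton_iff.2 (hPc hx hcP).eq) (by
        rw [hj, h25]; exact (Nat.pow_le_pow_right (by norm_num) hj2).trans (by norm_num))
    exact hgP' (heq.symm ▸ mem_inf.2 ⟨hgK, mem_centralizer_singleton_iff.2 hgc⟩)
  have hfev : EvenC f := ⟨z, F.P.S.z2, F.P.S.z1, hfz.symm⟩
  have hf1 : f ≠ 1 := fun e => by rw [e, orderOf_one] at h5; omega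
  -- a fixed element
  set S := P ⊔ zpowers g with hS
  have hSK : S ≤ K := sup_le hle (zpowers_le.2 hgK)
  have hSp : IsPGroup 5 S := hK.to_le hSK
  haveI : Nontrivial S := ⟨⟨⟨f, le_sup_left (a := P) hfP⟩, 1, fun h => hf1 (congrArg Subtype.val h)⟩⟩
  haveI := hSp.center_nontrivial
  obtain ⟨c₀, hc₀⟩ := exists_ne (1 : center S)
  set c : G := ((c₀ : S) : G) with hc
  have hc1 : c ≠ 1 := fun h => hc₀ (Subtype.ext (Subtype.ext h))
  have hcom : ∀ x ∈ S, x * c = c * x := fun x hx => congrArg Subtype.val (mem_center_iff.1 c₀.2 ⟨x, hx⟩)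
  have hcP : c ∈ P := memP.2 ⟨(hcom f (le_sup_left (a := P) hfP)).symm, (hcom h' (le_sup_left (a := P) hhP)).symm⟩
  have hgc : g * c = c * g := hcom g (le_sup_right (a := P) (mem_zpowers g))
  have hc5 : orderOf c = 5 := orderOf_eq_prime (hP5 hcP) hc1
  have hcf : c ∉ zpowers f := fun h => by
    obtain ⟨i, hi⟩ := mem_powers_iff_mem_zpowers.2 h
    dsimp only at hi
    exact bad hcP hc1 hgc (hi ▸ evenC_pow hfev i)
  -- exponents are unique
  have huniq : ∀ {i j i' j' : ℕ}, f ^ i * h' ^ j = f ^ i' * h' ^ j' →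
      (i : ZMod 5) = i' ∧ (j : ZMod 5) = j' := by
    intro i j i' j' e
    have hm : (h' ^ j') * (h' ^ j)⁻¹ ∈ zpowers f := by
      rw [show h' ^ j' * (h' ^ j)⁻¹ = (f ^ i')⁻¹ * (f ^ i' * h' ^ j') * (h' ^ j)⁻¹ by group, ← e]
      rw [show (f ^ i')⁻¹ * (f ^ i * h' ^ j) * (h' ^ j)⁻¹ = (f ^ i')⁻¹ * f ^ i by group]
      exact mul_mem (inv_mem (pow_mem (mem_zpowers f) _)) (pow_mem (mem_zpowers f) _)
    have h0 : h' ^ j' * (h' ^ j)⁻¹ = 1 := by
      by_contra hne'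
      refine hh'1 ?_
      have hmem : h' ^ j' * (h' ^ j)⁻¹ ∈ zpowers h' :=
        mul_mem (pow_mem (mem_zpowers h') _) (inv_mem (pow_mem (mem_zpowers h') _))
      have hz : zpowers (h' ^ j' * (h' ^ j)⁻¹) = zpowers h' := eq_of_le_of_card_ge (zpowers_le.2 hmem) (by
        have hd := orderOf_dvd_natCard _ hmem
        rw [Nat.card_zpowers, hh'5] at hd
        rw [Nat.card_zpowers, Nat.card_zpowers, hh'5,
          ((Nat.dvd_prime (by norm_num)).1 hd).resolve_left fun h => hne' (orderOf_eq_one_iff.1 h)])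
      exact zpowers_le.2 hm (hz.symm ▸ mem_zpowers h')
    rw [mul_inv_eq_one] at h0
    rw [h0] at e
    exact ⟨cast_of_pow h5 (mul_right_cancel e), cast_of_pow hh'5 h0.symm⟩
  obtain ⟨i₀, j₀, hij⟩ := hdec c (memP.1 hcP).1 (memP.1 hcP).2
  have hj0 : (j₀ : ZMod 5) ≠ 0 := fun h0 => by
    have := pow_cast hh'5 (show (j₀ : ZMod 5) = ((0 : ℕ) : ZMod 5) by rw [h0, Nat.cast_zero])
    rw [this, pow_zero, mul_one] at hij
    exact hcf (hij ▸ pow_mem (mem_zpowers f) i₀)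
  have hspan : ∀ x ∈ P, ∃ a b : ℕ, x = f ^ a * c ^ b := by
    intro x hx
    obtain ⟨i, j, rfl⟩ := hdec x (memP.1 hx).1 (memP.1 hx).2
    obtain ⟨b, hb⟩ : ∃ b : ℕ, (j : ZMod 5) = (j₀ : ZMod 5) * b :=
      ⟨((j₀ : ZMod 5)⁻¹ * j).val, by rw [ZMod.natCast_zmod_val, ← mul_assoc, mul_inv_cancel₀ hj0, one_mul]⟩
    obtain ⟨a, ha⟩ : ∃ a : ℕ, (i : ZMod 5) = a + (i₀ : ZMod 5) * b :=
      ⟨((i : ZMod 5) - i₀ * b).val, by rw [ZMod.natCast_zmod_val, sub_add_cancel]⟩
    refine ⟨a, b, ?_⟩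
    rw [hij, ((show Commute f h' from hh'f.symm).pow_pow i₀ j₀).mul_pow, ← pow_mul, ← pow_mul, ← mul_assoc, ← pow_add,
      pow_cast h5 (show (i : ZMod 5) = ((a + i₀ * b : ℕ) : ZMod 5) by push_cast; exact ha),
      pow_cast hh'5 (show (j : ZMod 5) = ((j₀ * b : ℕ) : ZMod 5) by push_cast; exact hb)]
  have hcpow : ∀ {e : ℕ}, c ^ e ∈ zpowers f → c ^ e = 1 := by
    intro e he
    by_contra hne'
    refine hcf ?_
    have hmem : c ^ e ∈ zpowers c := pow_mem (mem_zpowers c) e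
    have hz : zpowers (c ^ e) = zpowers c := eq_of_le_of_card_ge (zpowers_le.2 hmem) (by
      have hd := orderOf_dvd_natCard _ hmem
      rw [Nat.card_zpowers, hc5] at hd
      rw [Nat.card_zpowers, Nat.card_zpowers, hc5,
        ((Nat.dvd_prime (by norm_num)).1 hd).resolve_left fun h => hne' (orderOf_eq_one_iff.1 h)])
    exact zpowers_le.2 he (hz.symm ▸ mem_zpowers c)
  obtain ⟨a, b, hab⟩ := hspan _ (hgconj f hfP)
  have hfc : Commute f c := hPc hfP hcP
  have hgcc : g * c * g⁻¹ = c := mul_inv_eq_iff_eq_mul.2 hgc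
  have hiter : ∀ l : ℕ, ∃ e : ℕ, g ^ l * f * (g ^ l)⁻¹ = f ^ a ^ l * c ^ e := by
    intro l
    induction l with
    | zero => exact ⟨0, by simp⟩
    | succ l ih =>
      obtain ⟨e, he⟩ := ih
      refine ⟨b * a ^ l + e, ?_⟩
      calc g ^ (l + 1) * f * (g ^ (l + 1))⁻¹ = g * (g ^ l * f * (g ^ l)⁻¹) * g⁻¹ := by rw [pow_succ']; group
        _ = (g * f * g⁻¹) ^ a ^ l * (g * c * g⁻¹) ^ e := by rw [he, conj_pow, conj_pow]; group
        _ = f ^ a ^ (l + 1) * c ^ (b * a ^ l + e) := by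
          rw [hab, hgcc, (hfc.pow_pow a b).mul_pow, ← pow_mul, ← pow_mul, ← pow_succ', mul_assoc, ← pow_add]
  have ha1 : (a : ZMod 5) = 1 := by
    obtain ⟨e, he⟩ := hiter (5 ^ k)
    rw [hk', one_mul, inv_one, mul_one] at he
    have hm : c ^ e ∈ zpowers f := by
      rw [show c ^ e = (f ^ a ^ 5 ^ k)⁻¹ * f from eq_inv_mul_iff_mul_eq.2 he.symm]
      exact mul_mem (inv_mem (pow_mem (mem_zpowers f) _)) (mem_zpowers f)
    rw [hcpow hm, mul_one] at he
    have hcast := cast_of_pow h5 (he.symm.trans (pow_one f).symm)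
    push_cast at hcast
    rwa [ZMod.pow_card_pow] at hcast
  have hfa : f ^ a = f := by
    rw [pow_cast h5 (show (a : ZMod 5) = ((1 : ℕ) : ZMod 5) by rw [ha1, Nat.cast_one]), pow_one]
  rw [hfa] at hab
  have hb0 : (b : ZMod 5) ≠ 0 := fun h0 => by
    have := pow_cast hc5 (show (b : ZMod 5) = ((0 : ℕ) : ZMod 5) by rw [h0, Nat.cast_zero])
    rw [this, pow_zero, mul_one] at hab
    exact bad hfP hf1 (mul_inv_eq_iff_eq_mul.1 hab) hfev
  have hiter' : ∀ l : ℕ, g ^ l * f * (g ^ l)⁻¹ = f * c ^ (b * l) := by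
    intro l
    induction l with
    | zero => simp
    | succ l ih =>
      calc g ^ (l + 1) * f * (g ^ (l + 1))⁻¹ = g * (g ^ l * f * (g ^ l)⁻¹) * g⁻¹ := by rw [pow_succ']; group
        _ = (g * f * g⁻¹) * (g * c * g⁻¹) ^ (b * l) := by rw [ih, conj_pow]; group
        _ = f * c ^ (b * (l + 1)) := by
          rw [hab, hgcc, mul_assoc, ← pow_add, show b + b * l = b * (l + 1) by ring]
  have good : ∀ x ∈ P, x ∉ zpowers c → EvenC x := by
    intro x hx hxc
    obtain ⟨u, w, rfl⟩ := hspan x hx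
    have hu0 : (u : ZMod 5) ≠ 0 := fun h0 => by
      have := pow_cast h5 (show (u : ZMod 5) = ((0 : ℕ) : ZMod 5) by rw [h0, Nat.cast_zero])
      rw [this, pow_zero, one_mul] at hxc
      exact hxc (pow_mem (mem_zpowers c) w)
    obtain ⟨l, hl⟩ : ∃ l : ℕ, (w : ZMod 5) = (b : ZMod 5) * l * u :=
      ⟨((b : ZMod 5)⁻¹ * w * (u : ZMod 5)⁻¹).val, by rw [ZMod.natCast_zmod_val]; field_simp⟩
    have := evenC_pow (evenC_conj hfev (g ^ l)) u
    rwa [hiter', (hfc.pow_right (b * l)).mul_pow, ← pow_mul,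
      ← pow_cast hc5 (show (w : ZMod 5) = ((b * l * u : ℕ) : ZMod 5) by push_cast; exact hl)] at this
  have hrr : r₀⁻¹ = r₀ := inv_eq_of_mul_eq_one_right hr2
  have hrc : r₀ * c * r₀⁻¹ = f ^ i₀ * h'⁻¹ ^ j₀ := by
    rw [hij, ← hrh, conj_pow]
    calc r₀ * (f ^ i₀ * h' ^ j₀) * r₀⁻¹ = (r₀ * f ^ i₀) * h' ^ j₀ * r₀⁻¹ := by group
      _ = f ^ i₀ * (r₀ * h' ^ j₀ * r₀⁻¹) := by rw [((show Commute r₀ f from hrf).pow_right i₀).eq]; group
  have hrcP : r₀ * c * r₀⁻¹ ∈ P := hrc ▸ mul_mem (pow_mem hfP _) (pow_mem (inv_mem hhP) _)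
  -- the line of `c` is the line of `h'`
  have hch : c ∈ zpowers h' := by
    by_cases hl : r₀ * c * r₀⁻¹ ∈ zpowers c
    · obtain ⟨l, hl'⟩ := exists_act hl
      rw [hrc, hij, ((show Commute f h' from hh'f.symm).pow_pow i₀ j₀).mul_pow, ← pow_mul, ← pow_mul,
        show h'⁻¹ = h' ^ 4 from inv_eq_of_mul_eq_one_right (by rw [← pow_succ', hh5]), ← pow_mul] at hl'
      obtain ⟨e1, e2⟩ := huniq hl'
      push_cast at e1 e2
      have hi0 := key_five _ _ _ hj0 e1 e2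
      rw [pow_cast h5 (show (i₀ : ZMod 5) = ((0 : ℕ) : ZMod 5) by rw [hi0, Nat.cast_zero]), pow_zero, one_mul] at hij
      exact hij ▸ pow_mem (mem_zpowers h') j₀
    · exfalso
      have := evenC_conj (good _ hrcP hl) r₀
      rw [hrr, show r₀ * (r₀ * c * r₀) * r₀ = r₀ * r₀ * c * (r₀ * r₀) by group, hr2, one_mul, mul_one] at this
      exact bad hcP hc1 hgc this
  have hhc : zpowers c = zpowers h' := eq_of_le_of_card_ge (zpowers_le.2 hch) (by
    rw [Nat.card_zpowers, Nat.card_zpowers, hc5, hh'5])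
  have hbadh : ¬ EvenC h' := fun hev => by
    obtain ⟨l, hl⟩ := mem_powers_iff_mem_zpowers.2 hch
    dsimp only at hl
    exact bad hcP hc1 hgc (hl ▸ evenC_pow hev l)
  -- an involution centralizing `h'`
  obtain ⟨e, heC, hef⟩ := F.P.S.five_act (mem_centralizer_singleton_iff.2 hfz) h5
  set C := centralizer ({f} : Set G) with hCdef
  have hC18 : Nat.card C = 1800 := (F.five_struct hfz h5).1
  have hecf : ∀ {x}, x * f = f * x → e * x * e⁻¹ * f = f * (e * x * e⁻¹) := fun {x} hx => by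
    have h2 := comm_conj (g := e) hx
    rw [hef] at h2
    exact mem_fiveCent_pow h5 (by norm_num) h2
  have hPC : P ≤ C := inf_le_left
  have hP25 : Nat.card (P.subgroupOf C) = 25 := by rw [Nat.card_congr (subgroupOfEquivOfLe hPC).toEquiv, h25]
  let PC : Sylow 5 C := Sylow.ofCard (P.subgroupOf C) (by
    rw [hP25, hC18]
    have e1 := (Nat.Prime.pow_dvd_iff_le_factorization (show Nat.Prime 5 by norm_num)
      (show 1800 ≠ 0 by norm_num)).1 (show 5 ^ 2 ∣ 1800 by norm_num)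
    have e2 := mt (Nat.Prime.pow_dvd_iff_le_factorization (show Nat.Prime 5 by norm_num)
      (show 1800 ≠ 0 by norm_num)).2 (show ¬ 5 ^ 3 ∣ 1800 by norm_num)
    rw [show Nat.factorization 1800 5 = 2 by omega]; norm_num)
  set P' := P.map (MulAut.conj e).toMonoidHom with hP'
  have hP'C : P' ≤ C := by
    rintro _ ⟨x, hx, rfl⟩
    exact mem_centralizer_singleton_iff.2 (hecf (memP.1 hx).1)
  obtain ⟨⟨c', hc'C⟩, hc'⟩ := CfsgLib.Transfer.exists_conj_mem_sylow PC (S := P'.subgroupOf C)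
    (IsPGroup.of_card (n := 2) (by
      rw [Nat.card_congr (subgroupOfEquivOfLe hP'C).toEquiv, hP', card_map_of_injective (MulAut.conj e).injective, h25]
      norm_num))
  set e' := c' * e with he'
  have he'h : e' * h' * e'⁻¹ ∈ P := by
    have := mem_subgroupOf.1 (hc' ⟨e * h' * e⁻¹, hP'C ⟨h', hhP, rfl⟩⟩ (mem_subgroupOf.2 ⟨h', hhP, rfl⟩))
    have h2 : c' * (e * h' * e⁻¹) * c'⁻¹ ∈ P := this
    rwa [he', show c' * e * h' * (c' * e)⁻¹ = c' * (e * h' * e⁻¹) * c'⁻¹ by group]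
  have he'f : e' * f * e'⁻¹ = f ^ 2 := by
    rw [he', show c' * e * f * (c' * e)⁻¹ = c' * (e * f * e⁻¹) * c'⁻¹ by group, hef,
      ((show Commute c' f from mem_centralizer_singleton_iff.1 hc'C).pow_right 2).eq, mul_inv_cancel_right]
  by_cases hl : e' * h' * e'⁻¹ ∈ zpowers h'
  swap
  · refine hbadh ?_
    have := evenC_conj (good _ he'h (hhc ▸ hl)) e'⁻¹
    rwa [show e'⁻¹ * (e' * h' * e'⁻¹) * e'⁻¹⁻¹ = h' by group] at this
  obtain ⟨l, hl'⟩ := exists_act hl
  have h2h := conj_pow_act hl' 2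
  have h2f := conj_pow_act he'f 2
  have hl0 : (l : ZMod 5) ≠ 0 := fun h0 => by
    rw [pow_cast hh'5 (show (l : ZMod 5) = ((0 : ℕ) : ZMod 5) by rw [h0, Nat.cast_zero]), pow_zero,
      conj_eq_one_iff] at hl'
    exact hh'1 (hl' ▸ one_mem _)
  obtain ⟨d, hdh, hdf⟩ : ∃ d, d * h' = h' * d ∧ d * f * d⁻¹ = f ^ 4 := by
    rcases sq_cases_five _ hl0 with hsq | hsq
    · refine ⟨e' ^ 2, mul_inv_eq_iff_eq_mul.1 ?_, by rw [h2f]; norm_num⟩
      rw [h2h, pow_cast hh'5 (show ((l ^ 2 : ℕ) : ZMod 5) = ((1 : ℕ) : ZMod 5) by push_cast; exact hsq), pow_one]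
    · refine ⟨r₀ * e' ^ 2, mul_inv_eq_iff_eq_mul.1 ?_, ?_⟩
      · calc r₀ * e' ^ 2 * h' * (r₀ * e' ^ 2)⁻¹ = r₀ * (e' ^ 2 * h' * (e' ^ 2)⁻¹) * r₀⁻¹ := by group
          _ = (r₀ * h' * r₀⁻¹) ^ 4 := by
            rw [h2h, pow_cast hh'5 (show ((l ^ 2 : ℕ) : ZMod 5) = ((4 : ℕ) : ZMod 5) by push_cast; exact hsq), conj_pow]
          _ = h' := by rw [hrh, inv_pow]; exact inv_eq_of_mul_eq_one_right (by rw [← pow_succ, hh5])
      · calc r₀ * e' ^ 2 * f * (r₀ * e' ^ 2)⁻¹ = r₀ * (e' ^ 2 * f * (e' ^ 2)⁻¹) * r₀⁻¹ := by group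
          _ = f ^ 4 := by rw [h2f, ((show Commute r₀ f from hrf).pow_right _).eq, mul_inv_cancel_right]; norm_num
  refine hbadh ?_
  have heven : Even (orderOf d) := by
    by_contra hodd
    obtain ⟨o, ho⟩ := Nat.not_even_iff_odd.1 hodd
    have h2 : (d ^ 2) * f = f * d ^ 2 := by
      refine mul_inv_eq_iff_eq_mul.1 ?_
      rw [conj_pow_act hdf, pow_cast h5 four_sq_five, pow_one]
    have hd : d = (d ^ 2) ^ (o + 1) := by
      rw [← pow_mul, show 2 * (o + 1) = orderOf d + 1 by omega, pow_succ, pow_orderOf_eq_one, one_mul]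
    have : d * f = f * d := by rw [hd]; exact ((show Commute (d ^ 2) f from h2).pow_left _).eq
    rw [this, mul_inv_cancel_right] at hdf
    have := cast_of_pow h5 ((pow_one f).trans hdf)
    exact absurd this (by decide)
  have hpos := orderOf_pos d
  obtain ⟨o, ho⟩ := heven
  refine ⟨d ^ o, by rw [← pow_add, ← ho, pow_orderOf_eq_one], fun e => ?_,
    ((show Commute d h' from hdh).pow_left o).eq⟩
  have := Nat.le_of_dvd (by omega) (orderOf_dvd_of_pow_eq_one e)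
  omega

/-- **No element of order five centralizes an element of order seven.** -/
theorem no_five_seven {x : G} (h5 : orderOf x = 5) : ¬ 7 ∣ Nat.card (centralizer ({x} : Set G)) := by
  classical
  haveI : Fact (Nat.Prime 5) := ⟨by norm_num⟩
  haveI : Fact (Nat.Prime 7) := ⟨by norm_num⟩
  intro h7
  -- the Sylow 7-subgroup has order seven
  obtain ⟨b, hb⟩ := exists_prime_orderOf_dvd_card' (G := CV r s) 7 (by rw [F.card_CV]; norm_num)
  have hb7 : orderOf (b : G) = 7 := by rw [Subgroup.orderOf_coe, hb]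
  have hbC : ¬ 7 ^ 2 ∣ Nat.card (centralizer ({(b : G)} : Set G)) := by
    rcases F.cent_x O b.2 (.inr hb7) with e | ⟨e, -⟩ <;> rw [e, hb7] <;> norm_num
  obtain ⟨B, hB⟩ := (IsPGroup.of_card (p := 7) (G := zpowers (b : G)) (n := 1) (by
    rw [Nat.card_zpowers, hb7, pow_one])).exists_le_sylow
  have hB7 : Nat.card (B : Subgroup G) = 7 := by
    rw [pgroup_eq_zpowers hb7 hbC B.2 (hB (mem_zpowers _)), Nat.card_zpowers, hb7]
  -- into the Sylow 5-subgroup
  obtain ⟨f₀, hf₀⟩ := exists_prime_orderOf_dvd_card' (G := centralizer ({z} : Set G)) 5 (by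
    rw [F.P.S.card_C]; norm_num)
  set f : G := (f₀ : G) with hfdef
  have hfz : f * z = z * f := mem_centralizer_singleton_iff.1 f₀.2
  have hf5 : orderOf f = 5 := by rw [hfdef, Subgroup.orderOf_coe, hf₀]
  obtain ⟨-, h', r₀, hh'f, hh'5, hh'1, hr2, -, hrf, hrh, hdec, h25⟩ := F.five_struct hfz hf5
  set P := centralizer ({f} : Set G) ⊓ centralizer ({h'} : Set G) with hP
  let PS : Sylow 5 G :=
    { toSubgroup := P
      isPGroup' := IsPGroup.of_card (n := 2) (by rw [h25]; norm_num)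
      is_maximal' := fun {K} hK hle => F.five_sylow O hfz hf5 hh'f hh'5 hh'1 hr2 hrf hrh hdec h25 hK hle }
  obtain ⟨g, hg⟩ := CfsgLib.Transfer.exists_conj_mem_sylow PS (S := zpowers x)
    (IsPGroup.of_card (n := 1) (by rw [Nat.card_zpowers, h5, pow_one]))
  set y := g * x * g⁻¹ with hy
  have hyP : y ∈ P := hg x (mem_zpowers x)
  clear_value y
  have hy5 : orderOf y = 5 := by rw [hy, conj_order_eq, h5]
  have hy7 : 7 ∣ Nat.card (centralizer ({y} : Set G)) := by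
    rwa [hy, CfsgLib.Invol.card_centralizer_of_isConj (isConj_iff.2 ⟨g, rfl⟩)]
  have hyodd : ¬ EvenC y := fun h => (F.five_even_bound O hy5 h).1 hy7
  have memP : ∀ {d}, d ∈ P ↔ d * f = f * d ∧ d * h' = h' * d := by
    intro d; rw [hP, mem_inf, mem_centralizer_singleton_iff, mem_centralizer_singleton_iff]
  have hfP : f ∈ P := memP.2 ⟨rfl, hh'f.symm⟩
  have hPc : ∀ {a b}, a ∈ P → b ∈ P → Commute a b := fun {a b} ha hb => by
    obtain ⟨i, j, rfl⟩ := hdec b (memP.1 hb).1 (memP.1 hb).2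
    exact ((show Commute a f from (memP.1 ha).1).pow_right i).mul_right
      ((show Commute a h' from (memP.1 ha).2).pow_right j)
  have hf5' : f ^ 5 = 1 := hf5 ▸ pow_orderOf_eq_one f
  have hh5 : h' ^ 5 = 1 := hh'5 ▸ pow_orderOf_eq_one h'
  have hP5 : ∀ {a}, a ∈ P → a ^ 5 = 1 := fun {a} ha => by
    obtain ⟨i, j, rfl⟩ := hdec a (memP.1 ha).1 (memP.1 ha).2
    rw [((show Commute f h' from hh'f.symm).pow_pow i j).mul_pow, ← pow_mul, mul_comm i, pow_mul, hf5', one_pow,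
      ← pow_mul, mul_comm j, pow_mul, hh5, one_pow, one_mul]
  obtain ⟨i₁, j₁, hij⟩ := hdec y (memP.1 hyP).1 (memP.1 hyP).2
  have hj₁ : (j₁ : ZMod 5) ≠ 0 := fun h0 => by
    rw [pow_cast hh'5 (show (j₁ : ZMod 5) = ((0 : ℕ) : ZMod 5) by rw [h0, Nat.cast_zero]), pow_zero, mul_one] at hij
    exact hyodd (hij ▸ evenC_pow ⟨z, F.P.S.z2, F.P.S.z1, hfz.symm⟩ i₁)
  have hspan : ∀ w ∈ P, ∃ a b : ℕ, w = f ^ a * y ^ b := by
    intro w hw
    obtain ⟨i, j, rfl⟩ := hdec w (memP.1 hw).1 (memP.1 hw).2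
    obtain ⟨b, hb⟩ : ∃ b : ℕ, (j : ZMod 5) = (j₁ : ZMod 5) * b :=
      ⟨((j₁ : ZMod 5)⁻¹ * j).val, by rw [ZMod.natCast_zmod_val, ← mul_assoc, mul_inv_cancel₀ hj₁, one_mul]⟩
    obtain ⟨a, ha⟩ : ∃ a : ℕ, (i : ZMod 5) = a + (i₁ : ZMod 5) * b :=
      ⟨((i : ZMod 5) - i₁ * b).val, by rw [ZMod.natCast_zmod_val, sub_add_cancel]⟩
    refine ⟨a, b, ?_⟩
    rw [hij, ((show Commute f h' from hh'f.symm).pow_pow i₁ j₁).mul_pow, ← pow_mul, ← pow_mul, ← mul_assoc, ← pow_add,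
      pow_cast hf5 (show (i : ZMod 5) = ((a + i₁ * b : ℕ) : ZMod 5) by push_cast; exact ha),
      pow_cast hh'5 (show (j : ZMod 5) = ((j₁ * b : ℕ) : ZMod 5) by push_cast; exact hb)]
  have hboth : ∀ d, d * f = f * d → d * y = y * d → d ∈ P := by
    intro d hdf hdy
    obtain ⟨a, b, hab⟩ := hspan h' (memP.2 ⟨hh'f, rfl⟩)
    refine memP.2 ⟨hdf, ?_⟩
    rw [hab]
    exact (((show Commute d f from hdf).pow_right a).mul_right ((show Commute d y from hdy).pow_right b)).eq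
  set Γ := centralizer ({y} : Set G) with hΓ
  have hPΓ : P ≤ Γ := fun w hw => mem_centralizer_singleton_iff.2 (hPc hw hyP).eq
  let PΓ : Sylow 5 Γ := PS.subtype hPΓ
  have hnorm : normalizer ((PΓ : Subgroup Γ) : Set Γ) ≤ centralizer ((PΓ : Subgroup Γ) : Set Γ) := by
    intro n₁ hn
    suffices hmem : (n₁ : G) ∈ P by
      rw [mem_centralizer_iff]
      intro w hw
      exact Subtype.ext ((hPc (mem_subgroupOf.1 hw) hmem).eq)
    have hconj : ∀ w ∈ P, (n₁ : G) * w * (n₁ : G)⁻¹ ∈ P := fun w hw =>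
      mem_subgroupOf.1 ((mem_normalizer_iff.1 hn ⟨w, hPΓ hw⟩).1 (mem_subgroupOf.2 hw))
    have hny := mem_centralizer_singleton_iff.1 n₁.2
    have hnyc : (n₁ : G) * y * (n₁ : G)⁻¹ = y := mul_inv_eq_iff_eq_mul.2 hny
    obtain ⟨a, b, hab⟩ := hspan _ (hconj f hfP)
    have hfy : Commute f y := hPc hfP hyP
    have hiter : ∀ l : ℕ, ∃ e : ℕ, (n₁ : G) ^ l * f * ((n₁ : G) ^ l)⁻¹ = f ^ a ^ l * y ^ e := by
      intro l
      induction l with
      | zero => exact ⟨0, by simp⟩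
      | succ l ih =>
        obtain ⟨e, he⟩ := ih
        refine ⟨b * a ^ l + e, ?_⟩
        calc (n₁ : G) ^ (l + 1) * f * ((n₁ : G) ^ (l + 1))⁻¹
            = (n₁ : G) * ((n₁ : G) ^ l * f * ((n₁ : G) ^ l)⁻¹) * (n₁ : G)⁻¹ := by rw [pow_succ']; group
          _ = ((n₁ : G) * f * (n₁ : G)⁻¹) ^ a ^ l * ((n₁ : G) * y * (n₁ : G)⁻¹) ^ e := by
            rw [he, conj_pow, conj_pow]; group
          _ = f ^ a ^ (l + 1) * y ^ (b * a ^ l + e) := by
            rw [hab, hnyc, (hfy.pow_pow a b).mul_pow, ← pow_mul, ← pow_mul, ← pow_succ', mul_assoc, ← pow_add]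
    have ha0 : (a : ZMod 5) ≠ 0 := fun h0 => by
      rw [pow_cast hf5 (show (a : ZMod 5) = ((0 : ℕ) : ZMod 5) by rw [h0, Nat.cast_zero]), pow_zero, one_mul] at hab
      have hf' : f = y ^ b := by
        rw [← mul_right_inj (n₁ : G), ← mul_left_inj (n₁ : G)⁻¹, hab,
          ((show Commute (n₁ : G) y from hny).pow_right b).eq, mul_inv_cancel_right]
      obtain ⟨l, hl⟩ : ∃ l, (y ^ b) ^ l = y := exists_pow_eq_self_of_coprime (by
        rw [hy5]
        refine ((Nat.Prime.coprime_iff_not_dvd (by norm_num)).2 fun hd => ?_).symm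
        obtain ⟨j, rfl⟩ := hd
        rw [pow_mul, hP5 hyP, one_pow] at hf'
        rw [hf', orderOf_one] at hf5
        omega)
      rw [← hf'] at hl
      exact hyodd (hl ▸ evenC_pow ⟨z, F.P.S.z2, F.P.S.z1, hfz.symm⟩ l)
    obtain ⟨e, he⟩ := hiter 4
    rw [pow_cast hf5 (show ((a ^ 4 : ℕ) : ZMod 5) = ((1 : ℕ) : ZMod 5) by
      push_cast; exact ZMod.pow_card_sub_one_eq_one ha0), pow_one] at he
    have h20 : (n₁ : G) ^ (4 * 5) * f = f * (n₁ : G) ^ (4 * 5) := by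
      have hit : ∀ l : ℕ, (n₁ : G) ^ (4 * l) * f * ((n₁ : G) ^ (4 * l))⁻¹ = f * y ^ (e * l) := by
        intro l
        induction l with
        | zero => simp
        | succ l ih =>
          calc (n₁ : G) ^ (4 * (l + 1)) * f * ((n₁ : G) ^ (4 * (l + 1)))⁻¹
              = (n₁ : G) ^ 4 * ((n₁ : G) ^ (4 * l) * f * ((n₁ : G) ^ (4 * l))⁻¹) * ((n₁ : G) ^ 4)⁻¹ := by
                rw [show 4 * (l + 1) = 4 + 4 * l by ring, pow_add]; group
            _ = (n₁ : G) ^ 4 * f * ((n₁ : G) ^ 4)⁻¹ * ((n₁ : G) ^ 4 * y ^ (e * l) * ((n₁ : G) ^ 4)⁻¹) := by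
                rw [ih]; group
            _ = f * y ^ (e * (l + 1)) := by
                rw [he, ((show Commute (n₁ : G) y from hny).pow_pow 4 (e * l)).eq, mul_inv_cancel_right, mul_assoc,
                  ← pow_add, show e + e * l = e * (l + 1) by ring]
      have := hit 5
      rw [mul_comm e, pow_mul y, hP5 hyP, one_pow, mul_one] at this
      exact mul_inv_eq_iff_eq_mul.1 this
    have h20P : (n₁ : G) ^ (4 * 5) ∈ P := hboth _ h20 ((show Commute (n₁ : G) y from hny).pow_left _).eq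
    -- odd order
    have hodd : ¬ 2 ∣ orderOf (n₁ : G) := fun ⟨o, ho⟩ => by
      have hpos := orderOf_pos (n₁ : G)
      refine hyodd ⟨(n₁ : G) ^ o, by rw [← pow_add, ← two_mul, ← ho, pow_orderOf_eq_one], fun e => ?_,
        ((show Commute (n₁ : G) y from hny).pow_left o).eq⟩
      have := Nat.le_of_dvd (by omega) (orderOf_dvd_of_pow_eq_one e)
      omega
    obtain ⟨l, hl⟩ := exists_pow_eq_self_of_coprime (x := (n₁ : G)) (n := 4)
      (show Nat.Coprime (2 ^ 2) _ from Nat.Coprime.pow_left 2 ((Nat.Prime.coprime_iff_not_dvd Nat.prime_two).2 hodd))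
    have h5P : (n₁ : G) ^ 5 ∈ P := by
      rw [show (n₁ : G) ^ 5 = ((n₁ : G) ^ (4 * 5)) ^ l by
        rw [← pow_mul, show 4 * 5 * l = 4 * l * 5 by ring, pow_mul _ (4 * l), pow_mul, hl]]
      exact pow_mem h20P l
    have h25' : (n₁ : G) ^ 5 ^ 2 = 1 := by rw [show 5 ^ 2 = 5 * 5 from rfl, pow_mul, hP5 h5P]
    have hzp : IsPGroup 5 (zpowers (n₁ : G)) := by
      obtain ⟨j, -, hj⟩ := (Nat.dvd_prime_pow (by norm_num : Nat.Prime 5)).1 (orderOf_dvd_of_pow_eq_one h25')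
      exact IsPGroup.of_card (n := j) (by rw [Nat.card_zpowers, hj])
    have hnn : zpowers (n₁ : G) ≤ normalizer (P : Set G) := zpowers_le.2 (mem_normalizer_iff.2 fun w => by
      refine ⟨hconj w, fun h => ?_⟩
      have hmap : P.map (MulAut.conj (n₁ : G)).toMonoidHom = P := eq_of_le_of_card_ge
        (by rintro _ ⟨w', hw', rfl⟩; exact hconj w' hw')
        (by rw [card_map_of_injective (MulAut.conj (n₁ : G)).injective])
      rw [← hmap] at h
      obtain ⟨w', hw', e'⟩ := h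
      have e'' : (n₁ : G) * w' * (n₁ : G)⁻¹ = (n₁ : G) * w * (n₁ : G)⁻¹ := e'
      rwa [← mul_left_cancel (mul_right_cancel e'')])
    have := F.five_sylow O hfz hf5 hh'f hh'5 hh'1 hr2 hrf hrh hdec h25
      (hzp.to_sup_of_normal_right' (PS.2 : IsPGroup 5 P) hnn) le_sup_right
    have h := le_sup_left (a := zpowers (n₁ : G)) (b := P) (mem_zpowers (n₁ : G))
    rw [this] at h
    exact h
  set Oc := (MonoidHom.transferSylow PΓ hnorm).ker with hOc
  have hcomp := MonoidHom.ker_transferSylow_isComplement' PΓ hnorm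
  have hO5 : ¬ 5 ∣ Nat.card Oc := MonoidHom.not_dvd_card_ker_transferSylow PΓ hnorm
  have h7O : 7 ∣ Nat.card Oc := by
    have hc : Nat.card Oc * Nat.card (PΓ : Subgroup Γ) = Nat.card Γ := hcomp.card_mul_card
    have hcard : Nat.card (PΓ : Subgroup Γ) = 25 := by
      rw [show ((PΓ : Subgroup Γ)) = P.subgroupOf Γ from rfl,
        Nat.card_congr (subgroupOfEquivOfLe hPΓ).toEquiv, h25]
    rw [hcard] at hc
    exact (Nat.Coprime.dvd_of_dvd_mul_right (by norm_num : Nat.Coprime 7 25) (hc ▸ hy7))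
  have hfixO : ∀ o : Γ, o ∈ Oc → (o : G) * f = f * o → o = 1 := fun o ho hc => by
    have hmem : o ∈ (PΓ : Subgroup Γ) :=
      mem_subgroupOf.2 (hboth _ hc (mem_centralizer_singleton_iff.1 o.2))
    exact disjoint_def.1 hcomp.disjoint ho hmem
  haveI : Oc.Normal := MonoidHom.normal_ker _
  let fΓ : Γ := ⟨f, hPΓ hfP⟩
  let α : MulAut Oc := MulAut.conjNormal fΓ
  let σ : Equiv.Perm (Sylow 7 Oc) := MulAction.toPerm α
  have hσ : σ ^ 5 ^ 1 = 1 := by
    rw [pow_one]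
    show (MulAction.toPerm α) ^ 5 = 1
    rw [show (MulAction.toPerm α : Equiv.Perm (Sylow 7 Oc)) = MulAction.toPermHom (MulAut Oc) (Sylow 7 Oc) α from rfl,
      ← map_pow, show α ^ 5 = 1 by rw [← map_pow, show fΓ ^ 5 = 1 from Subtype.ext hf5', map_one], map_one]
  haveI : Fintype (Sylow 7 Oc) := Fintype.ofFinite _
  have hmod := Equiv.Perm.card_compl_support_modEq hσ
  have hn5 : ¬ 5 ∣ Fintype.card (Sylow 7 Oc) := by
    rw [← Nat.card_eq_fintype_card]
    obtain ⟨W⟩ : Nonempty (Sylow 7 Oc) := inferInstance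
    rw [W.card_eq_index_normalizer]
    exact fun h => hO5 (h.trans (index_dvd_card _))
  obtain ⟨W, hW⟩ : ∃ W : Sylow 7 Oc, σ W = W := by
    by_contra hne
    push Not at hne
    refine hn5 ?_
    have h0 : (σ.supportᶜ).card = 0 := Finset.card_eq_zero.2 (Finset.eq_empty_of_forall_notMem fun W hW =>
      hne W (Equiv.Perm.notMem_support.1 (Finset.mem_compl.1 hW)))
    rw [h0] at hmod
    exact (Nat.modEq_zero_iff_dvd).1 hmod.symm
  set W' := ((W : Subgroup Oc).map Oc.subtype).map Γ.subtype with hW'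
  have hWinj : Nat.card W' = Nat.card (W : Subgroup Oc) := by
    rw [hW', card_map_of_injective Γ.subtype_injective, card_map_of_injective Oc.subtype_injective]
  have hW7 : Nat.card (W : Subgroup Oc) = 7 := by
    obtain ⟨g', hg'⟩ := CfsgLib.Transfer.exists_conj_mem_sylow B (S := W')
      (((W.2).map _).map _)
    have hle : W'.map (MulAut.conj g').toMonoidHom ≤ (B : Subgroup G) := by
      rintro _ ⟨w, hw, rfl⟩; exact hg' w hw
    have hd := card_dvd_of_le hle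
    rw [card_map_of_injective (MulAut.conj g').injective, hB7, hWinj] at hd
    exact ((Nat.dvd_prime (by norm_num)).1 hd).resolve_left fun h1 => by
      have h7W := W.dvd_card_of_dvd_card h7O
      rw [h1] at h7W
      norm_num at h7W
  obtain ⟨w₀, hw₀⟩ := exists_prime_orderOf_dvd_card' (G := (W : Subgroup Oc)) 7 (by rw [hW7])
  set w : G := (((w₀ : Oc) : Γ) : G) with hwdef
  have hw7 : orderOf w = 7 := by rw [hwdef, Subgroup.orderOf_coe, Subgroup.orderOf_coe, Subgroup.orderOf_coe, hw₀]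
  have hWw : W' = zpowers w := (eq_of_le_of_card_ge (zpowers_le.2 (show w ∈ W' from
    ⟨((w₀ : Oc) : Γ), ⟨(w₀ : Oc), w₀.2, rfl⟩, rfl⟩)) (by rw [hWinj, hW7, Nat.card_zpowers, hw7])).symm
  have hfw : f * w * f⁻¹ ∈ zpowers w := by
    rw [← hWw]
    have hm : α (w₀ : Oc) ∈ (W : Subgroup Oc) := by
      have h0 : α (w₀ : Oc) ∈ ((σ W : Sylow 7 Oc) : Subgroup Oc) := ⟨(w₀ : Oc), w₀.2, rfl⟩
      rw [hW] at h0
      exact h0
    exact ⟨((α (w₀ : Oc) : Oc) : Γ), ⟨α (w₀ : Oc), hm, rfl⟩, rfl⟩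
  obtain ⟨i, hi⟩ := exists_act hfw
  have h6 : (i : ZMod 7) ^ 5 = 1 := by
    have h := conj_pow_act hi 5
    rw [hf5', one_mul, inv_one, mul_one] at h
    have := cast_of_pow hw7 (h.symm.trans (pow_one w).symm)
    rwa [Nat.cast_pow, Nat.cast_one] at this
  have hi1 : (i : ZMod 7) = 1 := seven_five _ h6
  rw [pow_cast hw7 (show (i : ZMod 7) = ((1 : ℕ) : ZMod 7) by rw [hi1, Nat.cast_one]), pow_one] at hi
  have h1 := hfixO ((w₀ : Oc) : Γ) (w₀ : Oc).2 (mul_inv_eq_iff_eq_mul.1 hi).symm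
  rw [show w = 1 from congrArg Subtype.val h1, orderOf_one] at hw7
  norm_num at hw7

end Frm

end CfsgLib.SuzType
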