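import Mathlib
import Cfsg.Agent.Lib.SuzType.Local.FivePlane
import Cfsg.Agent.Lib.SuzType.Local.FiveGroup
import Cfsg.Agent.Lib.SuzType.Local.FiveSylow
import Cfsg.Agent.Lib.SuzType.Local.GroupOrder

/-!
Suzuki type: the normalizer of a Sylow 5-subgroup and the subgroups of order five.
-/

set_option autoImplicit false
set_option linter.style.haveILetI false
set_option linter.unusedSectionVars false
set_option linter.unusedSimpArgs false

namespace CfsgLib.SuzType

open Subgroup CfsgLib.Classical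

variable {G : Type*} [Group G] [Finite G]

theorem zpowers_val {x : G} (hx : orderOf x = 5) (n : ℕ) : x ^ ((n : ZMod 5)).val = x ^ n :=
  pow_cast hx (by rw [ZMod.natCast_zmod_val])

/-- Elements of `P` conjugate in `G` are conjugate in the normalizer. -/
theorem burnside_fusion (p : ℕ) [Fact p.Prime] (S : Sylow p G)
    (hab : ∀ x ∈ (S : Subgroup G), ∀ y ∈ (S : Subgroup G), x * y = y * x) {x g : G} (hx : x ∈ (S : Subgroup G))
    (hgx : g * x * g⁻¹ ∈ (S : Subgroup G)) :
    ∃ n ∈ normalizer ((S : Subgroup G) : Set G), n * x * n⁻¹ = g * x * g⁻¹ := by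
  set y := g * x * g⁻¹ with hy
  have hSC : (S : Subgroup G) ≤ centralizer ({y} : Set G) := fun w hw =>
    mem_centralizer_singleton_iff.2 (hab w hw y hgx)
  have hgC : (S : Subgroup G).map (MulAut.conj g).toMonoidHom ≤ centralizer ({y} : Set G) := by
    rintro _ ⟨w, hw, rfl⟩
    exact mem_centralizer_singleton_iff.2 (comm_conj (hab w hw x hx))
  obtain ⟨c, hc, hcS⟩ := CfsgLib.Transfer.exists_conj_mem_sylow_of_le S hSC hgC (S.2.map _)
  refine ⟨c * g, mem_normalizer_iff.2 fun w => ?_, ?_⟩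
  · have hle : (S : Subgroup G).map (MulAut.conj (c * g)).toMonoidHom = (S : Subgroup G) :=
      eq_of_le_of_card_ge (by
        rintro _ ⟨v, hv, rfl⟩
        have := hcS _ ⟨v, hv, rfl⟩
        have e : c * g * v * (c * g)⁻¹ = c * (g * v * g⁻¹) * c⁻¹ := by group
        show c * g * v * (c * g)⁻¹ ∈ (S : Subgroup G)
        rw [e]; exact this)
        (by rw [card_map_of_injective (MulAut.conj (c * g)).injective])
    conv_rhs => rw [← hle]
    constructor
    · exact fun h => ⟨w, h, rfl⟩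
    · rintro ⟨v, hv, e⟩
      have e' : c * g * v * (c * g)⁻¹ = c * g * w * (c * g)⁻¹ := e
      rwa [← mul_left_cancel (mul_right_cancel e')]
  · rw [show c * g * x * (c * g)⁻¹ = c * (g * x * g⁻¹) * c⁻¹ by group, ← hy,
      mem_centralizer_singleton_iff.1 hc, mul_inv_cancel_right]

/-- An element normalizing one and centralizing the other generator modulo it. -/
theorem Plane.unipotent {a b : G} {P : Subgroup G} (D : Plane a b P) {n : G} (hna : n * a * n⁻¹ = a) {j : ℕ}
    (hnb : n * b * n⁻¹ = a ^ j * b) : n ^ 5 * b = b * n ^ 5 ∧ n ^ 5 * a = a * n ^ 5 := by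
  have h : ∀ k : ℕ, n ^ k * b * (n ^ k)⁻¹ = a ^ (k * j) * b := by
    intro k
    induction k with
    | zero => simp
    | succ k ih =>
      calc n ^ (k + 1) * b * (n ^ (k + 1))⁻¹ = n * (n ^ k * b * (n ^ k)⁻¹) * n⁻¹ := by rw [pow_succ']; group
        _ = (n * a * n⁻¹) ^ (k * j) * (n * b * n⁻¹) := by rw [ih, conj_pow]; group
        _ = a ^ ((k + 1) * j) * b := by rw [hna, hnb, ← mul_assoc, ← pow_add, show k * j + j = (k + 1) * j by ring]
  have h5 := h 5
  rw [pow_mul, show a ^ 5 = 1 from D.a5 ▸ pow_orderOf_eq_one a, one_pow, one_mul] at h5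
  exact ⟨mul_inv_eq_iff_eq_mul.1 h5, ((show Commute n a from mul_inv_eq_iff_eq_mul.1 hna).pow_left 5).eq⟩

theorem ord_two_five : orderOf (2 : ZMod 5) = 4 := by
  rw [orderOf_eq_iff (by norm_num)]; decide

theorem ord_four_five : orderOf (4 : ZMod 5) = 2 := by
  rw [orderOf_eq_iff (by norm_num)]; decide

theorem cast_factor : (41803776 : ZMod 5) * 4 = 4 := by decide

theorem k_two : ∀ K : ℕ, K ≤ 5 → ((K * (4 * 2) : ℕ) : ZMod 5) = 4 → K = 3 := by decide

theorem k_four : ∀ K : ℕ, K ≤ 5 → ((K * (4 * 4) : ℕ) : ZMod 5) = 4 → K = 4 := by decide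

theorem step_eq : ∀ t J : ZMod 5, t + J = 3 * (t + J) * 2 := by decide

theorem three_mod : ¬ 1 ≡ 6 [MOD 3] := by decide

theorem two_sq_five : (2 : ZMod 5) ^ 2 ≠ 1 := by decide

theorem pow_val_mul {w : G} (hw : w ^ 5 = 1) (i j : ZMod 5) : w ^ (i.val * j.val) = w ^ (i * j).val := by
  rw [ZMod.val_mul]; exact pow_eq_pow_mod _ hw

/-- The automizer of a plane permuting three lines transitively. -/
theorem plane_quotient {a b : G} {P : Subgroup G} (D : Plane a b P)
    (hext : ∀ d : G, d * a = a * d → d * b = b * d → d ∈ P) (hN : Nat.card (normalizer (P : Set G)) = 600)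
    (act : normalizer (P : Set G) →* Equiv.Perm (Line P))
    (hact : ∀ g L, (act g L).1 = L.1.map (MulAut.conj (g : G)).toMonoidHom) (Λ : Finset (Line P))
    (hcard : Λ.card = 3) (hinv : ∀ g M, M ∈ Λ → act g M ∈ Λ) (La : Line P) (hLa : La.1 = zpowers a) (haΛ : La ∈ Λ)
    {r₀ : G} (hrN : r₀ ∈ normalizer (P : Set G)) (hr2 : r₀ * r₀ = 1) (hra : r₀ * a = a * r₀)
    (hrb : r₀ * b * r₀⁻¹ = b⁻¹) (d₃ : normalizer (P : Set G)) (hd3 : d₃ ^ 3 = 1) (hnofix : ∀ M, act d₃ M ≠ M) :
    Nonempty (↥(normalizer (P : Set G)) ⧸ P.subgroupOf (normalizer (P : Set G)) ≃*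
      Multiplicative (ZMod 4) × Equiv.Perm (Fin 3)) := by
  classical
  haveI : Fact (Nat.Prime 5) := ⟨by norm_num⟩
  haveI : Fact (Nat.Prime 2) := ⟨Nat.prime_two⟩
  have hiff : ∀ (g : (normalizer (P : Set G))) (M : Line P), act g M ∈ Λ ↔ M ∈ Λ := fun g M => ⟨fun h => by
    have := hinv g⁻¹ _ h
    rwa [← Equiv.Perm.mul_apply, ← map_mul, inv_mul_cancel, map_one] at this, hinv g M⟩
  let φ : (normalizer (P : Set G)) →* Equiv.Perm {M : Line P // M ∈ Λ} :=
    MonoidHom.mk' (fun g => (act g).subtypePerm (hiff g)) fun g h => Equiv.ext fun M => Subtype.ext (by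
      show act (g * h) M.1 = act g (act h M.1)
      rw [map_mul]; rfl)
  have hPN : P ≤ (normalizer (P : Set G)) := le_normalizer
  set K := φ.ker with hKdef
  have hfix : ∀ g ∈ K, ∀ M ∈ Λ, act g M = M := fun g hg M hM => by
    have h := congrArg Subtype.val (DFunLike.congr_fun (MonoidHom.mem_ker.1 hg) (⟨M, hM⟩ : {M : Line P // M ∈ Λ}))
    exact h
  -- the kernel acts by scalars
  have hscal : ∀ g : K, ∃ i : ZMod 5, ∀ x ∈ P, ((g : (normalizer (P : Set G))) : G) * x * ((g : (normalizer (P : Set G))) : G)⁻¹ = x ^ i.val := by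
    intro g
    obtain ⟨M₂, hM₂, hne₂⟩ := Finset.exists_mem_ne (by omega : 1 < Λ.card) La
    obtain ⟨b₂, hb₂P, hb₂5, hMb⟩ := M₂.gen
    obtain ⟨M₃, hM₃, hne₃⟩ : ∃ M₃ ∈ Λ, M₃ ≠ La ∧ M₃ ≠ M₂ := by
      by_contra! hcon
      have := (Finset.card_le_card (s := Λ) (t := {La, M₂}) fun M hM => by
        rw [Finset.mem_insert, Finset.mem_singleton]
        exact or_iff_not_imp_left.2 (hcon M hM))
      rw [Finset.card_pair hne₂.symm] at this
      omega
    obtain ⟨c, hcP, hc5, hMc⟩ := M₃.gen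
    have D₂ : Plane a b₂ P := D.of_pair D.amem hb₂P (fun h => by
      have := D.a5; rw [h, orderOf_one] at this; omega) fun h => hne₂ (Subtype.ext (by
        rw [hMb, hLa, zpowers_eq_five D.a5 h (fun e => by rw [e, orderOf_one] at hb₂5; omega)]))
    obtain ⟨u, v, huv⟩ := D₂.dec c hcP
    have hc1 : c ≠ 1 := fun e => by rw [e, orderOf_one] at hc5; omega
    have hu : (u : ZMod 5) ≠ 0 := fun h => hne₃.2 (Subtype.ext (by
      have e : a ^ u = 1 := by
        have := pow_cast D.a5 (show (u : ZMod 5) = ((0 : ℕ) : ZMod 5) by rw [h, Nat.cast_zero])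
        rwa [pow_zero] at this
      rw [hMb, hMc]
      exact zpowers_eq_five hb₂5 (by rw [huv, e, one_mul]; exact pow_mem (mem_zpowers _) _) hc1))
    have hv : (v : ZMod 5) ≠ 0 := fun h => hne₃.1 (Subtype.ext (by
      have e : b₂ ^ v = 1 := by
        have := pow_cast hb₂5 (show (v : ZMod 5) = ((0 : ℕ) : ZMod 5) by rw [h, Nat.cast_zero])
        rwa [pow_zero] at this
      rw [hLa, hMc]
      exact zpowers_eq_five D.a5 (by rw [huv, e, mul_one]; exact pow_mem (mem_zpowers _) _) hc1))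
    have hpow : ∀ {M : Line P} {x : G}, M ∈ Λ → orderOf x = 5 → M.1 = zpowers x →
        ∃ i : ZMod 5, ((g : (normalizer (P : Set G))) : G) * x * ((g : (normalizer (P : Set G))) : G)⁻¹ = x ^ i.val := by
      intro M x hM hx hMx
      have h := congrArg Subtype.val (hfix _ g.2 M hM)
      rw [hact, hMx, conj_zpowers] at h
      exact mem_zpowers_five hx (h ▸ mem_zpowers _)
    obtain ⟨i, hi⟩ := hpow haΛ D.a5 hLa
    obtain ⟨j, hj⟩ := hpow hM₂ hb₂5 hMb
    obtain ⟨k, hk⟩ := hpow hM₃ hc5 hMc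
    rw [huv, ((show Commute a b₂ from D₂.ab).pow_pow u v).mul_pow, ← pow_mul, ← pow_mul,
      show ((g : (normalizer (P : Set G))) : G) * (a ^ u * b₂ ^ v) * ((g : (normalizer (P : Set G))) : G)⁻¹ = (((g : (normalizer (P : Set G))) : G) * a * ((g : (normalizer (P : Set G))) : G)⁻¹) ^ u *
        (((g : (normalizer (P : Set G))) : G) * b₂ * ((g : (normalizer (P : Set G))) : G)⁻¹) ^ v by rw [conj_pow, conj_pow]; group,
      hi, hj, ← pow_mul, ← pow_mul] at hk
    obtain ⟨e1, e2⟩ := D₂.uniq hk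
    push_cast at e1 e2
    rw [ZMod.natCast_zmod_val, ZMod.natCast_zmod_val] at e1 e2
    have hik : i = k := mul_right_cancel₀ hu (e1.trans (mul_comm _ _))
    have hjk : j = k := mul_right_cancel₀ hv (e2.trans (mul_comm _ _))
    refine ⟨i, fun x hx => ?_⟩
    obtain ⟨p, q, rfl⟩ := D₂.dec x hx
    rw [show ((g : (normalizer (P : Set G))) : G) * (a ^ p * b₂ ^ q) * ((g : (normalizer (P : Set G))) : G)⁻¹ = (((g : (normalizer (P : Set G))) : G) * a * ((g : (normalizer (P : Set G))) : G)⁻¹) ^ p *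
        (((g : (normalizer (P : Set G))) : G) * b₂ * ((g : (normalizer (P : Set G))) : G)⁻¹) ^ q by rw [conj_pow, conj_pow]; group,
      hi, hj, hjk, ← hik, ← pow_mul, ← pow_mul, ((show Commute a b₂ from D₂.ab).pow_pow p q).mul_pow, ← pow_mul,
      ← pow_mul, mul_comm i.val p, mul_comm i.val q]
  obtain ⟨ν, hν⟩ := exists_hom_rel (H := K) (p := 5)
    (fun g i => ∀ x ∈ P, ((g : (normalizer (P : Set G))) : G) * x * ((g : (normalizer (P : Set G))) : G)⁻¹ = x ^ i.val) hscal
    (fun g i j hi hj => by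
      have h := cast_of_pow D.a5 ((hi a D.amem).symm.trans (hj a D.amem))
      rwa [ZMod.natCast_zmod_val, ZMod.natCast_zmod_val] at h)
    (fun x _ => by simp [ZMod.val_one])
    (fun x y i j hi hj w hw => by
      calc (((x * y : K) : (normalizer (P : Set G))) : G) * w * (((x * y : K) : (normalizer (P : Set G))) : G)⁻¹
          = ((x : (normalizer (P : Set G))) : G) * (((y : (normalizer (P : Set G))) : G) * w * ((y : (normalizer (P : Set G))) : G)⁻¹) * ((x : (normalizer (P : Set G))) : G)⁻¹ := by push_cast; group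
        _ = w ^ (i * j).val := by
            rw [hj w hw, ← conj_pow, hi w hw, ← pow_mul]
            exact pow_val_mul (D.pow5 hw) i j)
  have hνker : ∀ g : K, ν g = 1 → ((g : (normalizer (P : Set G))) : G) ∈ P := fun g hg => by
    have h := (hν g 1).2 (by rw [hg]; rfl)
    have hc : ∀ x ∈ P, ((g : (normalizer (P : Set G))) : G) * x = x * ((g : (normalizer (P : Set G))) : G) := fun x hx => by
      have := h x hx
      rwa [ZMod.val_one, pow_one, mul_inv_eq_iff_eq_mul] at this
    exact hext _ (hc a D.amem) (hc b D.bmem)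
  have hPK : P.subgroupOf (normalizer (P : Set G)) ≤ K := fun x hx => Equiv.ext fun M => Subtype.ext (Subtype.ext (by
    show (act x M.1).1 = M.1.1
    obtain ⟨y, hy, -, hMy⟩ := M.1.gen
    rw [hact, hMy, conj_zpowers, D.comm (mem_subgroupOf.1 hx) hy, mul_inv_cancel_right]))
  have hPNcard : Nat.card (P.subgroupOf (normalizer (P : Set G))) = 25 := by
    rw [Nat.card_congr (subgroupOfEquivOfLe hPN).toEquiv, D.card]
  have hu4 : Nat.card (ZMod 5)ˣ = 4 := by
    rw [Nat.card_eq_fintype_card, ZMod.card_units_eq_totient]; rfl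
  have hνk : Nat.card ν.ker ≤ 25 := by
    rw [← hPNcard]
    exact Nat.card_le_card_of_injective (fun g => ⟨g.1.1, mem_subgroupOf.2 (hνker g.1 g.2)⟩)
      fun g h e => Subtype.ext (Subtype.ext (congrArg (fun t : P.subgroupOf (normalizer (P : Set G)) => t.1) e))
  have hΛc : Fintype.card {M : Line P // M ∈ Λ} = 3 := by rw [Fintype.card_coe, hcard]
  have hperm : Nat.card (Equiv.Perm {M : Line P // M ∈ Λ}) = 6 := by
    rw [Nat.card_eq_fintype_card, Fintype.card_perm, hΛc]; rfl
  have hφr : Nat.card φ.range ≤ 6 := hperm ▸ card_le_card_group _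
  have hνr : Nat.card ν.range ≤ 4 := hu4 ▸ card_le_card_group _
  have hKprod : Nat.card K * Nat.card φ.range = 600 := by rw [← index_ker, ← hN]; exact card_mul_index _
  have hKν : Nat.card ν.ker * Nat.card ν.range = Nat.card K := by rw [← index_ker]; exact card_mul_index _
  have hK100 : Nat.card K ≤ 100 := hKν ▸ (Nat.mul_le_mul hνk hνr)
  have hr6 : Nat.card φ.range = 6 := by
    have h1 : 600 ≤ 100 * Nat.card φ.range := hKprod ▸ Nat.mul_le_mul_right _ hK100
    omega
  have hK : Nat.card K = 100 := by rw [hr6] at hKprod; omega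
  have hr4 : Nat.card ν.range = 4 := by
    have h1 : 100 ≤ 25 * Nat.card ν.range := hK ▸ hKν ▸ Nat.mul_le_mul_right _ hνk
    omega
  have hφs : Function.Surjective φ := MonoidHom.range_eq_top.1 (eq_top_of_le_card _ (by rw [hr6, hperm]))
  have hνs : Function.Surjective ν := MonoidHom.range_eq_top.1 (eq_top_of_le_card _ (by rw [hr4, hu4]))
  -- the quotient
  let φ' := QuotientGroup.lift (P.subgroupOf (normalizer (P : Set G))) φ hPK
  have hφ's : Function.Surjective φ' := fun σ => by
    obtain ⟨g, hg⟩ := hφs σ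
    exact ⟨QuotientGroup.mk g, hg⟩
  have hQ : Nat.card ((normalizer (P : Set G)) ⧸ P.subgroupOf (normalizer (P : Set G))) = 24 := by
    have h := card_mul_index (P.subgroupOf (normalizer (P : Set G)))
    rw [hPNcard, hN] at h
    rw [← index_eq_card]; omega
  have hK' : Nat.card φ'.ker = 4 := by
    have h := card_mul_index φ'.ker
    rw [index_ker, MonoidHom.range_eq_top.2 hφ's, card_top, hperm, hQ] at h
    omega
  have hmem : ∀ q ∈ φ'.ker, ∃ g : K, QuotientGroup.mk (g : (normalizer (P : Set G))) = q := fun q hq => by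
    obtain ⟨g, rfl⟩ := QuotientGroup.mk_surjective q
    exact ⟨⟨g, hq⟩, rfl⟩
  obtain ⟨σ, hσ⟩ := hνs (ZMod.unitOfCoprime 2 (by norm_num))
  have hσ' : (QuotientGroup.mk (σ : (normalizer (P : Set G))) : (normalizer (P : Set G)) ⧸ P.subgroupOf (normalizer (P : Set G))) ∈ φ'.ker := σ.2
  haveI : IsCyclic φ'.ker := by
    refine isCyclic_of_orderOf_eq_card (⟨_, hσ'⟩ : φ'.ker) ?_
    rw [hK', show (4 : ℕ) = 2 ^ (1 + 1) from rfl]
    refine orderOf_eq_prime_pow (fun h => ?_) (by
      have := pow_card_eq_one' (G := φ'.ker) (x := (⟨_, hσ'⟩ : φ'.ker))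
      rwa [hK'] at this)
    have hsq : ((σ ^ 2 : K) : (normalizer (P : Set G))) ∈ P.subgroupOf (normalizer (P : Set G)) := by
      rw [← QuotientGroup.eq_one_iff]
      exact congrArg Subtype.val h
    have e : ν (σ ^ 2) = 1 := Units.ext ((hν _ 1).1 fun x hx => by
      rw [ZMod.val_one, pow_one, D.comm (mem_subgroupOf.1 hsq) hx, mul_inv_cancel_right])
    rw [map_pow, hσ, Units.ext_iff, Units.val_pow_eq_pow_val, Units.val_one, ZMod.coe_unitOfCoprime] at e
    exact two_sq_five (by exact_mod_cast e)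
  have hcent : φ'.ker ≤ center ((normalizer (P : Set G)) ⧸ P.subgroupOf (normalizer (P : Set G))) := fun q hq => mem_center_iff.2 fun w => by
    obtain ⟨g, rfl⟩ := hmem q hq
    obtain ⟨h, rfl⟩ := QuotientGroup.mk_surjective w
    obtain ⟨i, hi⟩ := hscal g
    have hconjP : ∀ (n : (normalizer (P : Set G))), ∀ x ∈ P, (n : G) * x * (n : G)⁻¹ ∈ P := fun n x hx =>
      (mem_normalizer_iff.1 n.2 x).1 hx
    have hcomm : ∀ x ∈ P, ((h * g * h⁻¹ * g⁻¹ : (normalizer (P : Set G))) : G) * x = x * ((h * g * h⁻¹ * g⁻¹ : (normalizer (P : Set G))) : G) := fun x hx => by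
      rw [← mul_inv_eq_iff_eq_mul]
      have hy := hconjP (g : (normalizer (P : Set G)))⁻¹ x hx
      set y := (((g : (normalizer (P : Set G)))⁻¹ : (normalizer (P : Set G))) : G) * x * (((g : (normalizer (P : Set G)))⁻¹ : (normalizer (P : Set G))) : G)⁻¹ with hydef
      have hz := hconjP h⁻¹ y hy
      calc ((h * g * h⁻¹ * g⁻¹ : (normalizer (P : Set G))) : G) * x * ((h * g * h⁻¹ * g⁻¹ : (normalizer (P : Set G))) : G)⁻¹
          = (h : G) * (((g : (normalizer (P : Set G))) : G) * (((h⁻¹ : (normalizer (P : Set G))) : G) * y * ((h⁻¹ : (normalizer (P : Set G))) : G)⁻¹) * ((g : (normalizer (P : Set G))) : G)⁻¹) * (h : G)⁻¹ := by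
            rw [hydef]; push_cast; group
        _ = y ^ i.val := by rw [hi _ hz, ← conj_pow]; push_cast; group
        _ = x := by rw [← hi y hy, hydef]; push_cast; group
    rw [← QuotientGroup.mk_mul, ← QuotientGroup.mk_mul, QuotientGroup.eq, mem_subgroupOf]
    have hin : ((h * g * h⁻¹ * g⁻¹ : (normalizer (P : Set G))) : G) ∈ P := hext _ (hcomm a D.amem) (hcomm b D.bmem)
    have := hconjP ((g : (normalizer (P : Set G))) * h)⁻¹ _ (inv_mem hin)
    convert this using 1
    push_cast; group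
  set r : (normalizer (P : Set G)) := ⟨r₀, hrN⟩ with hrdef
  have hrK : φ' (QuotientGroup.mk r) ≠ 1 := fun h => by
    obtain ⟨i, hi⟩ := hscal ⟨r, h⟩
    have e1 := hi a D.amem
    change r₀ * a * r₀⁻¹ = a ^ i.val at e1
    rw [mul_inv_eq_iff_eq_mul.2 hra] at e1
    have hi1 := cast_of_pow D.a5 ((pow_one a).trans e1)
    rw [Nat.cast_one, ZMod.natCast_zmod_val] at hi1
    have e2 := hi b D.bmem
    change r₀ * b * r₀⁻¹ = b ^ i.val at e2
    rw [hrb, ← hi1, ZMod.val_one, pow_one, inv_eq_iff_mul_eq_one, ← pow_two] at e2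
    have := orderOf_dvd_of_pow_eq_one e2
    rw [D.b5] at this
    norm_num at this
  have hdK : φ' (QuotientGroup.mk d₃) ≠ 1 := fun h => hnofix La (hfix d₃ h La haΛ)
  exact iso_four_six hΛc φ' hφ's hK' hcent (d := QuotientGroup.mk d₃) (r := QuotientGroup.mk r)
    (by rw [← QuotientGroup.mk_pow, hd3, QuotientGroup.mk_one]) hdK
    (by rw [← QuotientGroup.mk_mul, show r * r = 1 from Subtype.ext hr2, QuotientGroup.mk_one]) hrK

namespace Frm

variable {z t : G} {Q R : Subgroup G} {π π' : G → V6} {ρ ρ' : G → qAut qm} {r s ω au bu av bv τ : G}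
  {m n u v : V6} (F : Frm z t Q R π π' ρ ρ' r s ω au bu av bv m n u v) (O : Outer z t r s au av τ)

include F O

set_option maxHeartbeats 1000000 in
/-- The main facts at one Sylow subgroup. -/
theorem five_main : ∃ (S : Sylow 5 G), Nat.card (S : Subgroup G) = 25 ∧
    Nat.card (normalizer ((S : Subgroup G) : Set G)) = 600 ∧
    Nonempty (↥(normalizer ((S : Subgroup G) : Set G)) ⧸ (S : Subgroup G).subgroupOf (normalizer ((S : Subgroup G) : Set G))
      ≃* Multiplicative (ZMod 4) × Equiv.Perm (Fin 3)) ∧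
    ∃ A B : Subgroup G, Nat.card A = 5 ∧ Nat.card B = 5 ∧ (∀ g : G, A.map (MulAut.conj g).toMonoidHom ≠ B) ∧
      ∀ C : Subgroup G, Nat.card C = 5 → ∃ g : G, C.map (MulAut.conj g).toMonoidHom = A ∨
        C.map (MulAut.conj g).toMonoidHom = B := by
  classical
  haveI : Fact (Nat.Prime 5) := ⟨by norm_num⟩
  haveI : Fact (Nat.Prime 3) := ⟨Nat.prime_three⟩
  obtain ⟨f₀, hf₀⟩ := exists_prime_orderOf_dvd_card' (G := centralizer ({z} : Set G)) 5 (by
    rw [F.P.S.card_C]; norm_num)
  set f : G := (f₀ : G) with hfdef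
  have hfz : f * z = z * f := mem_centralizer_singleton_iff.1 f₀.2
  have hf5 : orderOf f = 5 := by rw [hfdef, Subgroup.orderOf_coe, hf₀]
  obtain ⟨hC18, h', r₀, hh'f, hh'5, hh'1, hr2, -, hrf, hrh, hdec, h25⟩ := F.five_struct hfz hf5
  set P := centralizer ({f} : Set G) ⊓ centralizer ({h'} : Set G) with hP
  let S : Sylow 5 G :=
    { toSubgroup := P
      isPGroup' := IsPGroup.of_card (n := 2) (by rw [h25]; norm_num)
      is_maximal' := fun {K} hK hle => F.five_sylow O hfz hf5 hh'f hh'5 hh'1 hr2 hrf hrh hdec h25 hK hle }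
  have memP : ∀ {d}, d ∈ P ↔ d * f = f * d ∧ d * h' = h' * d := by
    intro d; rw [hP, mem_inf, mem_centralizer_singleton_iff, mem_centralizer_singleton_iff]
  have D : Plane f h' P := ⟨hf5, hh'5, hh'f.symm, memP.2 ⟨rfl, hh'f.symm⟩, memP.2 ⟨hh'f, rfl⟩, hh'1,
    fun x hx => hdec x (memP.1 hx).1 (memP.1 hx).2, h25⟩
  set N := normalizer (P : Set G) with hN
  have hPN : P ≤ N := le_normalizer
  have hmax : ∀ {d : G}, d ∈ N → d ^ 25 = 1 → d ∈ P := by
    intro d hd h
    obtain ⟨j, -, hj⟩ := (Nat.dvd_prime_pow (show Nat.Prime 5 by norm_num)).1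
      (orderOf_dvd_of_pow_eq_one (show d ^ 5 ^ 2 = 1 from h))
    have hzp : IsPGroup 5 (zpowers d) := IsPGroup.of_card (n := j) (by rw [Nat.card_zpowers, hj])
    have he := S.3 (hzp.to_sup_of_normal_right' S.2 (zpowers_le.2 hd)) le_sup_right
    have := le_sup_left (a := zpowers d) (b := P) (mem_zpowers d)
    rw [show zpowers d ⊔ P = P from he] at this
    exact this
  have hext : ∀ {a b : G}, Plane a b P → ∀ {d : G}, d * a = a * d → d * b = b * d → d ∈ P := by
    intro a b D' d ha hb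
    have hall : ∀ x ∈ P, d * x = x * d := fun x hx => by
      obtain ⟨i, j, rfl⟩ := D'.dec x hx
      exact (((show Commute d a from ha).pow_right i).mul_right ((show Commute d b from hb).pow_right j)).eq
    exact memP.2 ⟨hall f D.amem, hall h' D.bmem⟩
  -- the kernel of the first exponent
  set A := N ⊓ centralizer ({f} : Set G) with hA
  obtain ⟨χ, hχ⟩ := exists_hom_rel (H := A) (p := 5)
    (fun d i => ∃ j : ℕ, (d : G) * h' * (d : G)⁻¹ = f ^ j * h' ^ i.val)
    (fun d => by
      obtain ⟨i, j, e⟩ := D.dec _ ((mem_normalizer_iff.1 (mem_inf.1 d.2).1 h').1 D.bmem)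
      exact ⟨(j : ZMod 5), i, by rw [e, zpowers_val hh'5]⟩)
    (fun d i i' ⟨j, e⟩ ⟨j', e'⟩ => by
      have h := (D.uniq (e.symm.trans e')).2
      rwa [ZMod.natCast_zmod_val, ZMod.natCast_zmod_val] at h)
    ⟨0, by simp [ZMod.val_one]⟩
    (fun x y i i' ⟨j, e⟩ ⟨j', e'⟩ => by
      refine ⟨j' + j * i'.val, ?_⟩
      have hxf : (x : G) * f * (x : G)⁻¹ = f := mul_inv_eq_iff_eq_mul.2
        (mem_centralizer_singleton_iff.1 (mem_inf.1 x.2).2)
      calc ((x * y : A) : G) * h' * ((x * y : A) : G)⁻¹ = (x : G) * ((y : G) * h' * (y : G)⁻¹) * (x : G)⁻¹ := by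
            push_cast; group
        _ = ((x : G) * f * (x : G)⁻¹) ^ j' * ((x : G) * h' * (x : G)⁻¹) ^ i'.val := by
            rw [e', conj_pow, conj_pow]; group
        _ = f ^ (j' + j * i'.val) * h' ^ (i * i').val := by
            rw [hxf, e, ((show Commute f h' from hh'f.symm).pow_pow j i.val).mul_pow, ← pow_mul, ← pow_mul,
              ← mul_assoc, ← pow_add, pow_cast hh'5 (show ((i.val * i'.val : ℕ) : ZMod 5) = ((i * i').val : ℕ) by
                push_cast; rw [ZMod.natCast_zmod_val, ZMod.natCast_zmod_val, ZMod.natCast_zmod_val])])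
  have hPA : P ≤ A := fun x hx => mem_inf.2 ⟨hPN hx, mem_centralizer_singleton_iff.2 (memP.1 hx).1⟩
  have hker : χ.ker = P.subgroupOf A := by
    ext d
    rw [MonoidHom.mem_ker, mem_subgroupOf]
    constructor
    · intro h
      obtain ⟨j, e⟩ := (hχ d 1).2 (by rw [h]; rfl)
      rw [ZMod.val_one, pow_one] at e
      have hdf := mem_centralizer_singleton_iff.1 (mem_inf.1 d.2).2
      obtain ⟨h1, h2⟩ := D.unipotent (mul_inv_eq_iff_eq_mul.2 hdf) e
      refine hmax (mem_inf.1 d.2).1 ?_
      rw [show 25 = 5 * 5 from rfl, pow_mul, D.pow5 (hext D h2 h1)]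
    · intro hd
      refine Units.ext ?_
      exact (hχ d 1).1 ⟨0, by rw [pow_zero, one_mul, ZMod.val_one, pow_one, D.comm hd D.bmem, mul_inv_cancel_right]⟩
  have hcA : Nat.card A = 25 * Nat.card χ.range := by
    rw [← card_mul_index χ.ker, index_ker, hker, Nat.card_congr (subgroupOfEquivOfLe hPA).toEquiv, h25]
  have hr₀N : r₀ ∈ A := by
    refine mem_inf.2 ⟨?_, mem_centralizer_singleton_iff.2 hrf⟩
    have hri : r₀⁻¹ = r₀ := inv_eq_of_mul_eq_one_right hr2
    have key : ∀ w ∈ P, r₀ * w * r₀⁻¹ ∈ P := fun w hw => by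
      obtain ⟨i, j, rfl⟩ := D.dec w hw
      rw [show r₀ * (f ^ i * h' ^ j) * r₀⁻¹ = (r₀ * f ^ i * r₀⁻¹) * (r₀ * h' ^ j * r₀⁻¹) by group, ← conj_pow,
        ← conj_pow, mul_inv_eq_iff_eq_mul.2 hrf, hrh]
      exact mul_mem (pow_mem D.amem _) (pow_mem (inv_mem D.bmem) _)
    refine mem_normalizer_iff.2 fun w => ⟨key w, fun h => ?_⟩
    have := key _ h
    rwa [show r₀ * (r₀ * w * r₀⁻¹) * r₀⁻¹ = w by
      rw [hri, show r₀ * (r₀ * w * r₀) * r₀ = r₀ * r₀ * w * (r₀ * r₀) by group, hr2, one_mul, mul_one]] at this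
  have hχr : (χ ⟨r₀, hr₀N⟩ : ZMod 5) = 4 := (hχ _ 4).1 ⟨0, by
    rw [pow_zero, one_mul, hrh]
    refine inv_eq_of_mul_eq_one_right ?_
    rw [← pow_succ', show (4 : ZMod 5).val + 1 = orderOf h' by rw [hh'5]; rfl, pow_orderOf_eq_one]⟩
  -- the automizer of the first line
  set Nf := N ⊓ normalizer (zpowers f : Set G) with hNf
  obtain ⟨ψ, hψ⟩ := exists_hom_rel (H := Nf) (p := 5) (fun d i => (d : G) * f * (d : G)⁻¹ = f ^ i.val)
    (fun d => mem_zpowers_five hf5 ((mem_normalizer_iff.1 (mem_inf.1 d.2).2 f).1 (mem_zpowers f)))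
    (fun d i i' e e' => by
      have h := cast_of_pow hf5 (e.symm.trans e')
      rwa [ZMod.natCast_zmod_val, ZMod.natCast_zmod_val] at h)
    (by simp [ZMod.val_one])
    (fun x y i i' e e' => by
      calc ((x * y : Nf) : G) * f * ((x * y : Nf) : G)⁻¹ = (x : G) * ((y : G) * f * (y : G)⁻¹) * (x : G)⁻¹ := by
            push_cast; group
        _ = f ^ (i * i').val := by
            rw [e', ← conj_pow, e, ← pow_mul]
            exact pow_cast hf5 (by push_cast; rw [ZMod.natCast_zmod_val, ZMod.natCast_zmod_val, ZMod.natCast_zmod_val]))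
  have hAle : A ≤ Nf := by
    intro x hx
    obtain ⟨h1, h2⟩ := mem_inf.1 hx
    refine mem_inf.2 ⟨h1, ?_⟩
    have hc : ∀ w ∈ zpowers f, x * w * x⁻¹ = w := fun w hw => by
      obtain ⟨i, rfl⟩ := mem_zpowers_iff.1 hw
      rw [((show Commute x f from mem_centralizer_singleton_iff.1 h2).zpow_right i).eq, mul_inv_cancel_right]
    refine mem_normalizer_iff.2 fun w => ⟨fun hw => by rw [hc w hw]; exact hw, fun hw => ?_⟩
    have := hc _ hw
    rwa [mul_left_cancel (mul_right_cancel this)] at hw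
  have hψker : ψ.ker = A.subgroupOf Nf := by
    ext d
    rw [MonoidHom.mem_ker, mem_subgroupOf]
    constructor
    · intro h
      have e := (hψ d 1).2 (by rw [h]; rfl)
      rw [ZMod.val_one, pow_one] at e
      exact mem_inf.2 ⟨(mem_inf.1 d.2).1, mem_centralizer_singleton_iff.2 (mul_inv_eq_iff_eq_mul.1 e)⟩
    · intro hd
      exact Units.ext ((hψ d 1).1 (by
        rw [ZMod.val_one, pow_one, mem_centralizer_singleton_iff.1 (mem_inf.1 hd).2, mul_inv_cancel_right]))
  have hcard4 : Nat.card (ZMod 5)ˣ = 4 := by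
    rw [Nat.card_eq_fintype_card, ZMod.card_units_eq_totient]; rfl
  have hcNf : Nat.card Nf = 4 * Nat.card A := by
    obtain ⟨e, he, hef⟩ := F.P.S.five_act f₀.2 hf5
    set C := centralizer ({f} : Set G) with hC
    have hecf : ∀ {w : G}, w * f = f * w → e * w * e⁻¹ * f = f * (e * w * e⁻¹) := fun {w} hw => by
      have h := comm_conj (g := e) hw
      rw [hef] at h
      exact mem_fiveCent_pow hf5 (by norm_num) h
    have hPC : P ≤ C := inf_le_left
    have hP'C : P.map (MulAut.conj e).toMonoidHom ≤ C := by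
      rintro _ ⟨x, hx, rfl⟩
      exact mem_centralizer_singleton_iff.2 (hecf (memP.1 hx).1)
    obtain ⟨c, hc, hcS⟩ := CfsgLib.Transfer.exists_conj_mem_sylow_of_le S hPC hP'C (S.2.map _)
    have hce : c * e ∈ N := by
      have hle : P.map (MulAut.conj (c * e)).toMonoidHom = P :=
        eq_of_le_of_card_ge (by
          rintro _ ⟨v, hv, rfl⟩
          have := hcS _ ⟨v, hv, rfl⟩
          show c * e * v * (c * e)⁻¹ ∈ P
          rw [show c * e * v * (c * e)⁻¹ = c * (e * v * e⁻¹) * c⁻¹ by group]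
          exact this)
          (by rw [card_map_of_injective (MulAut.conj (c * e)).injective])
      refine mem_normalizer_iff.2 fun w => ?_
      conv_rhs => rw [← hle]
      constructor
      · exact fun h => ⟨w, h, rfl⟩
      · rintro ⟨v, hv, e'⟩
        have e'' : c * e * v * (c * e)⁻¹ = c * e * w * (c * e)⁻¹ := e'
        rwa [← mul_left_cancel (mul_right_cancel e'')]
    have hcef : c * e * f * (c * e)⁻¹ = f ^ 2 := by
      rw [show c * e * f * (c * e)⁻¹ = c * (e * f * e⁻¹) * c⁻¹ by group, hef,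
        ((show Commute c f from mem_centralizer_singleton_iff.1 hc).pow_right 2).eq, mul_inv_cancel_right]
    have hceN : c * e ∈ normalizer (zpowers f : Set G) := by
      have hmap : (zpowers f).map (MulAut.conj (c * e)).toMonoidHom = zpowers f := by
        rw [conj_zpowers, hcef]
        exact zpowers_eq_five hf5 (pow_mem (mem_zpowers f) 2) (fun h => by
          have := orderOf_dvd_of_pow_eq_one h
          rw [hf5] at this; norm_num at this)
      refine mem_normalizer_iff.2 fun w => ?_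
      conv_rhs => rw [← hmap]
      constructor
      · exact fun h => ⟨w, h, rfl⟩
      · rintro ⟨v, hv, e'⟩
        have e'' : c * e * v * (c * e)⁻¹ = c * e * w * (c * e)⁻¹ := e'
        rwa [← mul_left_cancel (mul_right_cancel e'')]
    have h2 : (ψ ⟨c * e, mem_inf.2 ⟨hce, hceN⟩⟩ : ZMod 5) = 2 := (hψ _ 2).1 hcef
    have hd := orderOf_dvd_natCard ψ.range (⟨_, rfl⟩ : ψ ⟨c * e, mem_inf.2 ⟨hce, hceN⟩⟩ ∈ ψ.range)
    rw [← orderOf_units, h2, ord_two_five] at hd
    have hrange : Nat.card ψ.range = 4 :=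
      Nat.dvd_antisymm ((card_subgroup_dvd_card _).trans (dvd_of_eq hcard4)) hd
    rw [← card_mul_index ψ.ker, index_ker, hψker, Nat.card_congr (subgroupOfEquivOfLe hAle).toEquiv, hrange, mul_comm]
  -- the orbit of the first line
  obtain ⟨act, hact⟩ := exists_line_hom P
  obtain ⟨L, hLn, hLs⟩ := D.card_line
  letI : MulAction N (Line P) := MulAction.compHom _ act
  set Lf := L none with hLf
  have hstab : Nat.card (MulAction.stabilizer N Lf) = Nat.card Nf := by
    have hiff : ∀ d : N, d ∈ MulAction.stabilizer N Lf ↔ (d : G) ∈ Nf := fun d => by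
      rw [MulAction.mem_stabilizer_iff, show d • Lf = act d Lf from rfl, Subtype.ext_iff, hact, hLn, conj_zpowers]
      constructor
      · intro h
        refine mem_inf.2 ⟨d.2, mem_normalizer_iff.2 fun w => ?_⟩
        conv_rhs => rw [← h, ← conj_zpowers]
        constructor
        · exact fun hw => ⟨w, hw, rfl⟩
        · rintro ⟨v, hv, e'⟩
          have e'' : (d : G) * v * (d : G)⁻¹ = (d : G) * w * (d : G)⁻¹ := e'
          rwa [← mul_left_cancel (mul_right_cancel e'')]
      · intro h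
        have hm := (mem_normalizer_iff.1 (mem_inf.1 h).2 f).1 (mem_zpowers f)
        exact zpowers_eq_five hf5 hm fun e => by
          rw [conj_eq_one_iff] at e; rw [e, orderOf_one] at hf5; norm_num at hf5
    exact Nat.card_congr
      { toFun := fun d => ⟨((d : N) : G), (hiff d).1 d.2⟩
        invFun := fun d => ⟨⟨d, (mem_inf.1 d.2).1⟩, (hiff _).2 d.2⟩
        left_inv := fun _ => rfl
        right_inv := fun _ => rfl }
  haveI : Fintype (Line P) := Fintype.ofEquiv _ L
  set Λ : Finset (Line P) := Finset.univ.filter fun M => M ∈ MulAction.orbit N Lf with hΛ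
  have hNcard : Nat.card N = Λ.card * Nat.card Nf := by
    rw [← hstab, hΛ, ← Fintype.card_subtype]
    haveI := Fintype.ofFinite N
    have := MulAction.card_orbit_mul_card_stabilizer_eq_card_group N Lf
    simp only [← Nat.card_eq_fintype_card] at this ⊢
    exact this.symm
  have hΛiff : ∀ M : Line P, M ∈ Λ ↔ ∃ g : G, M.1 = zpowers (g * f * g⁻¹) := fun M => by
    rw [hΛ, Finset.mem_filter, MulAction.mem_orbit_iff]
    constructor
    · rintro ⟨-, d, rfl⟩
      exact ⟨d, by rw [show d • Lf = act d Lf from rfl, hact, hLn, conj_zpowers]⟩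
    · rintro ⟨g, hg⟩
      have hmem : g * f * g⁻¹ ∈ P := M.2.1 (hg ▸ mem_zpowers _)
      obtain ⟨d, hd, e⟩ := burnside_fusion 5 S (fun x hx y hy => D.comm hx hy) D.amem hmem
      exact ⟨Finset.mem_univ _, ⟨d, hd⟩, Subtype.ext (by
        rw [show (⟨d, hd⟩ : N) • Lf = act ⟨d, hd⟩ Lf from rfl, hact, hLn, conj_zpowers, hg]
        exact congrArg zpowers e)⟩
  have hΛinv : ∀ (d : N) (M : Line P), M ∈ Λ → act d M ∈ Λ := fun d M hM => by
    rw [hΛ, Finset.mem_filter] at hM ⊢
    exact ⟨Finset.mem_univ _, (MulAction.orbit_eq_iff.2 hM.2) ▸ MulAction.mem_orbit M d⟩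
  -- an element of `C(V)`
  obtain ⟨h₅, hh₅, ho₅⟩ := F.exists_five_CV
  obtain ⟨g₅, hg₅⟩ := CfsgLib.Transfer.exists_conj_mem_sylow S (S := zpowers h₅)
    (IsPGroup.of_card (n := 1) (by rw [Nat.card_zpowers, ho₅, pow_one]))
  set h₁ := g₅ * h₅ * g₅⁻¹ with hh₁
  have hh₁P : h₁ ∈ P := hg₅ _ (mem_zpowers h₅)
  have hh₁o : orderOf h₁ = 5 := by rw [hh₁, conj_order_eq, ho₅]
  let Lh : Line P := ⟨zpowers h₁, line_of hh₁P hh₁o⟩
  have hnot : ∀ g : G, zpowers h₁ ≠ zpowers (g * f * g⁻¹) := fun g e => by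
    have hc : Nat.card (centralizer ({h₁} : Set G)) = Nat.card (centralizer ({g * f * g⁻¹} : Set G)) := by
      have hx := congrArg (fun K : Subgroup G => Nat.card (centralizer (K : Set G))) e
      simpa only [zpowers_eq_closure, centralizer_closure] using hx
    rw [CfsgLib.Invol.card_centralizer_of_isConj (isConj_iff.2 ⟨g₅, hh₁.symm⟩ : IsConj h₅ h₁),
      CfsgLib.Invol.card_centralizer_of_isConj (isConj_iff.2 ⟨g, rfl⟩ : IsConj f (g * f * g⁻¹)), hC18] at hc
    rcases F.cent_x O hh₅ (.inl ho₅) with e' | ⟨e', -⟩ <;> rw [e', ho₅] at hc <;> norm_num at hc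
  have hLh : Lh ∉ Λ := fun h => by
    obtain ⟨g, hg⟩ := (hΛiff Lh).1 h
    exact hnot g hg
  have hline6 : Fintype.card (Line P) = 6 := by
    rw [← Fintype.card_congr L, Fintype.card_option, ZMod.card]
  have hK5 : Λ.card ≤ 5 := by
    have := Finset.card_lt_univ_of_notMem hLh
    omega
  have hK1 : 1 ≤ Λ.card := Finset.card_pos.2 ⟨Lf, by rw [hΛ]; simp⟩
  -- the congruence
  obtain ⟨k, hk, hk4⟩ := F.card_G O
  have hG : Nat.card N * Nat.card (Sylow 5 G) = Nat.card G := by
    rw [S.card_eq_index_normalizer]; exact card_mul_index _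
  have hcong : ((Λ.card * (4 * Nat.card χ.range) : ℕ) : ZMod 5) = 4 := by
    rw [hNcard, hcNf, hcA, hk] at hG
    have h25 : Λ.card * (4 * Nat.card χ.range) * Nat.card (Sylow 5 G) = 41803776 * k := by
      have : 25 * (Λ.card * (4 * Nat.card χ.range) * Nat.card (Sylow 5 G)) = 25 * (41803776 * k) := by
        rw [← mul_assoc 25 41803776 k, show 25 * 41803776 = 1045094400 from rfl, ← hG]; ring
      omega
    have := congrArg (fun x : ℕ => (x : ZMod 5)) h25
    push_cast at this ⊢
    have hs : ((Nat.card (Sylow 5 G) : ℕ) : ZMod 5) = 1 := by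
      have := (ZMod.natCast_eq_natCast_iff _ 1 5).2 (card_sylow_modEq_one 5 G)
      rwa [Nat.cast_one] at this
    rw [hs, hk4, mul_one] at this
    rw [this]
    exact cast_factor
  have hrd : Nat.card χ.range ∣ 4 := (card_subgroup_dvd_card _).trans (dvd_of_eq hcard4)
  have hr2' : 2 ∣ Nat.card χ.range := by
    have hd := orderOf_dvd_natCard χ.range (⟨_, rfl⟩ : χ ⟨r₀, hr₀N⟩ ∈ χ.range)
    rwa [← orderOf_units, hχr, ord_four_five] at hd
  have hstep : ∀ {d : N}, act d Lf = Lf → ∀ t, ∀ x : G, (act d (L (some t))).1 = zpowers x →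
      (d : G) * (f ^ t.val * h') * (d : G)⁻¹ ∈ zpowers x := fun {d} _ t x e => by
    rw [← e, hact, hLs, conj_zpowers]; exact mem_zpowers _
  have hcases : Nat.card χ.range = 2 ∧ Λ.card = 3 := by
    obtain ⟨c, hc⟩ := hr2'
    have hc2 : c ≤ 2 := by
      have := Nat.le_of_dvd (by norm_num) hrd
      omega
    have hc0 : 1 ≤ c := by
      have : 0 < Nat.card χ.range := Nat.card_pos
      omega
    interval_cases c
    · refine ⟨hc, ?_⟩
      rw [hc] at hcong
      exact k_two _ hK5 hcong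
    · exfalso
      have hK4 : Λ.card = 4 := by
        rw [hc] at hcong
        exact k_four _ hK5 hcong
      -- the element of order four
      have hsur : ∃ d, χ d = ZMod.unitOfCoprime 2 (by norm_num) := by
        have : χ.range = ⊤ := eq_top_of_le_card _ (by rw [hc, hcard4])
        exact MonoidHom.range_eq_top.1 this _
      obtain ⟨d, hd⟩ := hsur
      obtain ⟨j, hj⟩ := (hχ d 2).2 (by rw [hd]; rfl)
      set T : Finset (ZMod 5) := Finset.univ.filter fun t => L (some t) ∈ Λ with hT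
      let dN : N := ⟨d, (mem_inf.1 d.2).1⟩
      have hclosed : ∀ t ∈ T, 3 * (t + (j : ZMod 5)) ∈ T := by
        intro t ht
        rw [hT, Finset.mem_filter] at ht ⊢
        refine ⟨Finset.mem_univ _, ?_⟩
        have hmap : act dN (L (some t)) = L (some (3 * (t + (j : ZMod 5)))) := by
          refine Subtype.ext ?_
          rw [hact, hLs, hLs, conj_zpowers]
          have hdf : (d : G) * f * (d : G)⁻¹ = f := mul_inv_eq_iff_eq_mul.2
            (mem_centralizer_singleton_iff.1 (mem_inf.1 d.2).2)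
          have e : (dN : G) * (f ^ t.val * h') * (dN : G)⁻¹ =
              (f ^ (3 * (t + (j : ZMod 5))).val * h') ^ 2 := by
            calc (d : G) * (f ^ t.val * h') * (d : G)⁻¹
                = ((d : G) * f * (d : G)⁻¹) ^ t.val * ((d : G) * h' * (d : G)⁻¹) := by rw [conj_pow]; group
              _ = _ := by
                rw [hdf, hj, ← mul_assoc, ← pow_add, ((show Commute f h' from hh'f.symm).pow_left _).mul_pow,
                  ← pow_mul]
                refine congrArg₂ (· * ·) (pow_cast hf5 ?_) rfl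
                push_cast
                rw [ZMod.natCast_zmod_val, ZMod.natCast_zmod_val]
                exact step_eq _ _
          rw [e]
          have hmem : f ^ (3 * (t + (j : ZMod 5))).val * h' ∈ P := mul_mem (pow_mem D.amem _) D.bmem
          have hne : f ^ (3 * (t + (j : ZMod 5))).val * h' ≠ 1 := fun h => D.indep (by
            rw [eq_inv_of_mul_eq_one_right h]; exact inv_mem (pow_mem (mem_zpowers f) _))
          refine zpowers_eq_five (D.order5 hmem hne) (pow_mem (mem_zpowers _) 2) fun h => ?_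
          have := orderOf_dvd_of_pow_eq_one h
          rw [D.order5 hmem hne] at this
          norm_num at this
        rw [← hmap]
        exact hΛinv dN _ ht.2
      have hcardT : Λ.card = T.card + 1 := by
        have : Λ = insert Lf (T.image fun t => L (some t)) := by
          ext M
          obtain ⟨o, rfl⟩ := L.surjective M
          cases o with
          | none => simp [hΛ, hLf]
          | some t => simp [hT, hLf, L.injective.eq_iff]
        rw [this, Finset.card_insert_of_notMem (by simp [hLf, L.injective.eq_iff]),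
          Finset.card_image_of_injective _ fun a b h => Option.some_injective _ (L.injective h)]
      exact affine_orbit _ T hclosed (by omega)
  obtain ⟨hr2c, hK3⟩ := hcases
  have hN600 : Nat.card N = 600 := by rw [hNcard, hcNf, hcA, hr2c, hK3]
  -- an element of order three
  obtain ⟨d₃, hd₃⟩ := exists_prime_orderOf_dvd_card' (G := N) 3 (by rw [hN600]; norm_num)
  have hd3 : d₃ ^ 3 = 1 := hd₃ ▸ pow_orderOf_eq_one d₃
  have hfix1 : ∀ M : Line P, act d₃ M = M → ∀ x ∈ M.1, (d₃ : G) * x = x * d₃ := by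
    intro M hM
    obtain ⟨a, haP, ha5, hMa⟩ := M.gen
    have ha : (d₃ : G) * a * (d₃ : G)⁻¹ ∈ zpowers a := by
      have h := hact d₃ M
      rw [hM] at h
      rw [← hMa, h]
      exact ⟨a, hMa ▸ mem_zpowers a, rfl⟩
    obtain ⟨i, hi⟩ := exists_act ha
    have h := conj_pow_act hi 3
    rw [show (d₃ : G) ^ 3 = 1 from congrArg Subtype.val hd3, one_mul, inv_one, mul_one] at h
    have hc := cast_of_pow ha5 (h.symm.trans (pow_one a).symm)
    push_cast at hc
    have h1 := pow_cast ha5 (show (i : ZMod 5) = ((1 : ℕ) : ZMod 5) by rw [cube_one_five _ hc, Nat.cast_one])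
    rw [pow_one] at h1
    rw [h1] at hi
    intro x hx
    rw [hMa] at hx
    obtain ⟨j, rfl⟩ := mem_zpowers_iff.1 hx
    exact ((show Commute (d₃ : G) a from mul_inv_eq_iff_eq_mul.1 hi).zpow_right j).eq
  have hplane : ∀ {M M' : Line P}, M ≠ M' → ∃ a b, M.1 = zpowers a ∧ M'.1 = zpowers b ∧ Plane a b P := by
    intro M M' hne
    obtain ⟨a, haP, ha5, hMa⟩ := M.gen
    obtain ⟨b, hbP, hb5, hMb⟩ := M'.gen
    refine ⟨a, b, hMa, hMb, D.of_pair haP hbP (fun h => by rw [h, orderOf_one] at ha5; omega) fun h => hne ?_⟩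
    exact Subtype.ext (by
      rw [hMa, hMb, zpowers_eq_five ha5 h (fun e => by rw [e, orderOf_one] at hb5; omega)])
  have hd₃P : (d₃ : G) ∉ P := fun h => by
    have := orderOf_dvd_of_pow_eq_one (D.pow5 h)
    rw [Subgroup.orderOf_coe, hd₃] at this
    norm_num at this
  have hnofix : ∀ M, act d₃ M ≠ M := by
    intro M hM
    have hσ : act d₃ ^ 3 ^ 1 = 1 := by rw [pow_one, ← map_pow, hd3, map_one]
    have hmod := Equiv.Perm.card_compl_support_modEq hσ
    rw [hline6] at hmod
    have hone : ((act d₃).supportᶜ).card = 1 := by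
      refine Finset.card_eq_one.2 ⟨M, Finset.ext fun M' => ?_⟩
      simp only [Finset.mem_compl, Equiv.Perm.notMem_support, Finset.mem_singleton]
      refine ⟨fun hM' => by_contra fun hne => ?_, fun e => e ▸ hM⟩
      obtain ⟨a, b, hMa, hMb, D'⟩ := hplane hne
      exact hd₃P (hext D' (hfix1 M' hM' a (hMa ▸ mem_zpowers a)) (hfix1 M hM b (hMb ▸ mem_zpowers b)))
    rw [hone] at hmod
    exact three_mod hmod
  have hall : ∀ M : Line P, M ∈ Λ ∨ ∃ d : N, act d M = Lh := by
    intro M
    by_cases hM : M ∈ Λ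
    · exact .inl hM
    refine .inr ?_
    have hout : ∀ (d : N) {X}, X ∉ Λ → act d X ∉ Λ := fun d {X} hX h => hX (by
      have := hΛinv d⁻¹ _ h
      rwa [← Equiv.Perm.mul_apply, ← map_mul, inv_mul_cancel, map_one] at this)
    set σ := act d₃ with hσdef
    have h3 : ∀ X, σ (σ (σ X)) = X := fun X => by
      rw [← Equiv.Perm.mul_apply, ← Equiv.Perm.mul_apply, hσdef, ← map_mul, ← map_mul,
        show d₃ * d₃ * d₃ = 1 by rw [← hd3, pow_succ, pow_two]]; simp
    have hsub : ({M, σ M, σ (σ M)} : Finset (Line P)) ⊆ Λᶜ := by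
      intro X hX
      simp only [Finset.mem_insert, Finset.mem_singleton] at hX
      rw [Finset.mem_compl]
      rcases hX with rfl | rfl | rfl
      exacts [hM, hout _ hM, hout _ (hout _ hM)]
    have h12 : σ M ≠ σ (σ M) := fun e => hnofix _ (σ.injective e).symm
    have h02 : M ≠ σ (σ M) := fun e => hnofix M (by
      conv_lhs => rw [e]
      exact h3 M)
    have heq := Finset.eq_of_subset_of_card_le hsub (by
      rw [Finset.card_compl, hline6, hK3, Finset.card_insert_of_notMem (by
        simp only [Finset.mem_insert, Finset.mem_singleton, not_or]; exact ⟨fun e => hnofix M e.symm, h02⟩),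
        Finset.card_pair h12])
    have hmem : Lh ∈ Λᶜ := Finset.mem_compl.2 hLh
    rw [← heq] at hmem
    simp only [Finset.mem_insert, Finset.mem_singleton] at hmem
    rcases hmem with e | e | e
    · exact ⟨1, by rw [map_one, e]; rfl⟩
    · exact ⟨d₃, e.symm⟩
    · exact ⟨d₃ * d₃, by rw [map_mul, e]; rfl⟩
  refine ⟨S, h25, hN600, ?_, zpowers f, zpowers h₁, by rw [Nat.card_zpowers, hf5],
    by rw [Nat.card_zpowers, hh₁o], fun g e => hnot g (by rw [← e, conj_zpowers]), fun K hK => ?_⟩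
  swap
  · obtain ⟨g, hg⟩ := CfsgLib.Transfer.exists_conj_mem_sylow S (S := K) (IsPGroup.of_card (n := 1) (by rw [hK, pow_one]))
    let M : Line P := ⟨K.map (MulAut.conj g).toMonoidHom, (by rintro _ ⟨x, hx, rfl⟩; exact hg x hx),
      by rw [card_map_of_injective (MulAut.conj g).injective, hK]⟩
    rcases hall M with hM | ⟨d, hd⟩
    · obtain ⟨g', hg'⟩ := (hΛiff M).1 hM
      refine ⟨g'⁻¹ * g, .inl ?_⟩
      have e : (K.map (MulAut.conj g).toMonoidHom).map (MulAut.conj g'⁻¹).toMonoidHom = zpowers f := by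
        rw [show K.map (MulAut.conj g).toMonoidHom = zpowers (g' * f * g'⁻¹) from hg', conj_zpowers]
        congr 1; group
      rw [Subgroup.map_map] at e
      rw [← e, map_mul]; rfl
    · refine ⟨(d : G) * g, .inr ?_⟩
      have e : (K.map (MulAut.conj g).toMonoidHom).map (MulAut.conj (d : G)).toMonoidHom = zpowers h₁ :=
        (hact d M).symm.trans (congrArg Subtype.val hd)
      rw [Subgroup.map_map] at e
      rw [← e, map_mul]; rfl
  exact plane_quotient D (fun _ => hext D) hN600 act hact Λ hK3 hΛinv Lf hLn (by rw [hΛ]; simp) (mem_inf.1 hr₀N).1 hr2 hrf hrh d₃ hd3 hnofix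

end Frm

/-- Transport of the automizer along an automorphism. -/
theorem quot_equiv {P P' : Subgroup G} (e : G ≃* G) (h : P.map e.toMonoidHom = P') :
    Nonempty (↥(normalizer (P : Set G)) ⧸ P.subgroupOf (normalizer (P : Set G)) ≃*
      ↥(normalizer (P' : Set G)) ⧸ P'.subgroupOf (normalizer (P' : Set G))) := by
  have hN := map_equiv_normalizer_eq P e
  rw [h] at hN
  let E : normalizer (P : Set G) ≃* normalizer (P' : Set G) :=
    ((normalizer (P : Set G)).equivMapOfInjective e.toMonoidHom e.injective).trans (MulEquiv.subgroupCongr hN)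
  refine ⟨QuotientGroup.congr _ _ E (Subgroup.ext fun y => ?_)⟩
  rw [mem_map, mem_subgroupOf]
  refine Iff.trans ?_ (mem_map.symm.trans (SetLike.ext_iff.1 h _))
  constructor
  · rintro ⟨x, hx, rfl⟩
    exact ⟨x, mem_subgroupOf.1 hx, rfl⟩
  · rintro ⟨x, hx, hxy⟩
    exact ⟨⟨x, le_normalizer hx⟩, mem_subgroupOf.2 hx, Subtype.ext hxy⟩

end CfsgLib.SuzType
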