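import Mathlib
import Cfsg.Agent.Lib.SuzType.Local.FiveSylow

/-!
Suzuki type: centralizer and normalizer of a Sylow 7-subgroup.
-/

set_option autoImplicit false
set_option linter.unusedSectionVars false

namespace CfsgLib.SuzType

open Subgroup CfsgLib.Classical

variable {G : Type*} [Group G] [Finite G]

/-- Conjugation between centralizers. -/
theorem cent_conj_nonempty (g x : G) :
    Nonempty (↥(centralizer ({x} : Set G)) ≃* ↥(centralizer ({g * x * g⁻¹} : Set G))) := by
  have h : (centralizer ({x} : Set G)).map (MulAut.conj g).toMonoidHom = centralizer ({g * x * g⁻¹} : Set G) := by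
    ext d
    constructor
    · rintro ⟨c, hc, rfl⟩
      exact mem_centralizer_singleton_iff.2 (comm_conj (mem_centralizer_singleton_iff.1 hc))
    · intro hd
      refine ⟨g⁻¹ * d * g⁻¹⁻¹, mem_centralizer_singleton_iff.2 ?_, ?_⟩
      · have := comm_conj (g := g⁻¹) (mem_centralizer_singleton_iff.1 hd)
        rwa [show g⁻¹ * (g * x * g⁻¹) * g⁻¹⁻¹ = x by group] at this
      · show g * (g⁻¹ * d * g⁻¹⁻¹) * g⁻¹ = d
        group
  exact ⟨((centralizer ({x} : Set G)).equivMapOfInjective _ (MulAut.conj g).injective).trans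
    (MulEquiv.subgroupCongr h)⟩

namespace Frm

variable {z t : G} {Q R : Subgroup G} {π π' : G → V6} {ρ ρ' : G → qAut qm} {r s ω au bu av bv τ : G}
  {m n u v : V6} (F : Frm z t Q R π π' ρ ρ' r s ω au bu av bv m n u v) (O : Outer z t r s au av τ)

include F O

theorem seven_normalizer (B : Sylow 7 G) :
    Nonempty (↥(centralizer ((B : Subgroup G) : Set G)) ≃* Multiplicative (ZMod 7) × alternatingGroup (Fin 4)) ∧
      Nat.card ↥(normalizer ((B : Subgroup G) : Set G)) = 504 := by
  classical
  haveI : Fact (Nat.Prime 7) := ⟨by norm_num⟩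
  obtain ⟨b₀, hb₀⟩ := exists_prime_orderOf_dvd_card' (G := CV r s) 7 (by rw [F.card_CV]; norm_num)
  set b : G := (b₀ : G) with hb
  have hb7 : orderOf b = 7 := by rw [hb, Subgroup.orderOf_coe, hb₀]
  rcases F.cent_x O b₀.2 (.inr hb7) with e | ⟨e, ⟨E⟩⟩
  · haveI : Fact (Nat.Prime 5) := ⟨by norm_num⟩
    exfalso
    obtain ⟨x, hx⟩ := exists_prime_orderOf_dvd_card' (G := centralizer ({b} : Set G)) 5 (by rw [e, hb7]; norm_num)
    refine F.no_five_seven O (x := (x : G)) (by rw [Subgroup.orderOf_coe, hx]) ?_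
    have h := orderOf_dvd_natCard (centralizer ({(x : G)} : Set G))
      (mem_centralizer_singleton_iff.2 (mem_centralizer_singleton_iff.1 x.2).symm : b ∈ centralizer ({(x : G)} : Set G))
    rwa [hb7] at h
  rw [hb7] at e
  obtain ⟨B₀, hB₀⟩ := (IsPGroup.of_card (p := 7) (G := zpowers b) (n := 1) (by
    rw [Nat.card_zpowers, hb7, pow_one])).exists_le_sylow
  have hB₀eq : (B₀ : Subgroup G) = zpowers b :=
    pgroup_eq_zpowers hb7 (by rw [e]; norm_num) B₀.2 (hB₀ (mem_zpowers _))
  obtain ⟨g, rfl⟩ := MulAction.exists_smul_eq G B₀ B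
  have hB : ((g • B₀ : Sylow 7 G) : Subgroup G) = zpowers (g * b * g⁻¹) := by
    rw [Sylow.coe_subgroup_smul, hB₀eq]
    show (zpowers b).map (MulAut.conj g).toMonoidHom = _
    rw [MonoidHom.map_zpowers]
    rfl
  constructor
  · rw [hB, zpowers_eq_closure, centralizer_closure]
    obtain ⟨E'⟩ := cent_conj_nonempty g b
    exact ⟨E'.symm.trans (E.trans ((mulEquivOfPrimeCardEq (p := 7) (by rw [Nat.card_zpowers, hb7])
      (by simp)).prodCongr (MulEquiv.refl _)))⟩
  · have h1 := (g • B₀).card_eq_index_normalizer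
    rw [B₀.card_eq_index_normalizer] at h1
    have h1 : (normalizer ((B₀ : Subgroup G) : Set G)).index =
        (normalizer (((g • B₀ : Sylow 7 G) : Subgroup G) : Set G)).index := h1
    have h2 := index_mul_card (normalizer ((B₀ : Subgroup G) : Set G))
    rw [h1, ← index_mul_card (normalizer (((g • B₀ : Sylow 7 G) : Subgroup G) : Set G))] at h2
    rw [← Nat.eq_of_mul_eq_mul_left (Nat.pos_of_ne_zero (index_ne_zero_of_finite (H := _))) h2, hB₀eq,
      F.card_norm_seven O b₀.2 hb7, e]

end Frm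

end CfsgLib.SuzType
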